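import Cfsg.Agent.Lib.H11.SubnormalMore
import Cfsg.Agent.Lib.H26.Subnormal

/-! Wielandt's zipper lemma. -/

namespace H68.Zipper

open Subgroup Pointwise

universe u

theorem isSubnormal_conj {G : Type u} [Group G] {A V : Subgroup G} (g : G)
    (h : (A.subgroupOf V).IsSubnormal) :
    ((MulAut.conj g • A).subgroupOf (MulAut.conj g • V)).IsSubnormal := by
  have h1 := H26.Subnormal.map_mulEquiv (Subgroup.equivSMul (MulAut.conj g) V) h
  convert h1 using 1
  ext x
  obtain ⟨y, rfl⟩ := (Subgroup.equivSMul (MulAut.conj g) V).surjective x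
  rw [Subgroup.mem_subgroupOf]
  constructor
  · intro h
    refine ⟨y, ?_, rfl⟩
    have h2 : ((Subgroup.equivSMul (MulAut.conj g) V y : ↥(MulAut.conj g • V)) : G) = MulAut.conj g • (y : G) := rfl
    rw [h2, Subgroup.smul_mem_pointwise_smul_iff] at h
    exact h
  · rintro ⟨z, hz, hzy⟩
    have hzy' : z = y := (Subgroup.equivSMul (MulAut.conj g) V).injective hzy
    subst hzy'
    have h2 : ((Subgroup.equivSMul (MulAut.conj g) V z : ↥(MulAut.conj g • V)) : G) = MulAut.conj g • (z : G) := rfl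
    rw [h2, Subgroup.smul_mem_pointwise_smul_iff]
    exact hz

theorem isSubnormal_subgroupOf_of_conj {G : Type u} [Group G] {A V : Subgroup G} (g : G)
    (h : (A.subgroupOf ((MulAut.conj g)⁻¹ • V)).IsSubnormal) :
    ((MulAut.conj g • A).subgroupOf V).IsSubnormal := by
  have := isSubnormal_conj g h
  rwa [smul_inv_smul] at this

/-- if `A ≤ V' ≤ V` and `A` is subnormal in `V`, then `A` is subnormal in `V'` -/
theorem isSubnormal_subgroupOf_of_le {G : Type u} [Group G] {A V V' : Subgroup G} (hV : V' ≤ V)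
    (h : (A.subgroupOf V).IsSubnormal) : (A.subgroupOf V').IsSubnormal := by
  exact h.comap (Subgroup.inclusion hV)

/-- **Wielandt's zipper lemma**: if `A` is subnormal in every proper subgroup containing it but is
not subnormal in `G`, then `A` is contained in a unique maximal subgroup. -/
theorem exists_unique_max {G : Type u} [Group G] [Finite G] (A : Subgroup G) (hA : ¬ A.IsSubnormal)
    (h : ∀ V : Subgroup G, V ≠ ⊤ → A ≤ V → (A.subgroupOf V).IsSubnormal) :
    ∃ M : Subgroup G, M ≠ ⊤ ∧ A ≤ M ∧ ∀ V : Subgroup G, V ≠ ⊤ → A ≤ V → V ≤ M := by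
  let S : Subgroup G → Set (Subgroup G) := fun V =>
    {B | (∃ g : G, B = MulAut.conj g • A) ∧ B ≤ V ∧ (B.subgroupOf V).IsSubnormal}
  have hS : ∀ V B : Subgroup G, B ∈ S V ↔ (∃ g : G, B = MulAut.conj g • A) ∧ B ≤ V ∧
      (B.subgroupOf V).IsSubnormal := fun V B => Iff.rfl
  have hconj : ∀ V : Subgroup G, V ≠ ⊤ → ∀ g : G, MulAut.conj g • A ≤ V →
      ((MulAut.conj g • A).subgroupOf V).IsSubnormal := by
    intro V hV g hg
    apply isSubnormal_subgroupOf_of_conj
    apply h
    · intro htop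
      apply hV
      have : V = MulAut.conj g • ((MulAut.conj g)⁻¹ • V) := by rw [smul_inv_smul]
      rw [this, htop, eq_top_iff]
      intro x _
      rw [← smul_inv_smul (MulAut.conj g) x, Subgroup.smul_mem_pointwise_smul_iff]
      exact Subgroup.mem_top _
    · rwa [Subgroup.subset_pointwise_smul_iff, inv_inv]
  let U : Set (Subgroup G) := {V | V ≠ ⊤ ∧ A ≤ V}
  have hA1 : A ≠ ⊤ := by rintro rfl; exact hA .top
  have hAS : ∀ V ∈ U, A ∈ S V := by
    intro V hV
    exact ⟨⟨1, by simp⟩, hV.2, h V hV.1 hV.2⟩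
  obtain ⟨M, hM, hmax⟩ := H11.SubnormalMore.zipper A U ⟨A, hA1, le_rfl⟩ S hS
    (by
      intro V hV W hW B hB hBV
      obtain ⟨⟨g, rfl⟩, _, _⟩ := hB
      exact ⟨⟨g, rfl⟩, hBV, hconj V hV.1 g hBV⟩)
    (by
      intro V hV W hW
      refine ⟨Subgroup.normalizer ((sSup (S V ∩ S W) : Subgroup G) : Set G), ⟨?_, ?_⟩, le_rfl⟩
      · intro htop
        apply hA
        set J := sSup (S V ∩ S W) with hJ
        have hJV : J ≤ V := sSup_le fun B hB => hB.1.2.1
        have hAJ : A ≤ J := le_sSup ⟨hAS V hV, hAS W hW⟩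
        have hJn : J.Normal := Subgroup.normalizer_eq_top_iff.1 htop
        exact (isSubnormal_subgroupOf_of_le hJV (h V hV.1 hV.2)).trans hAJ hJn.isSubnormal
      · exact le_trans (le_sSup (show A ∈ S V ∩ S W from ⟨hAS V hV, hAS W hW⟩)) Subgroup.le_normalizer)
  exact ⟨M, hM.1, hM.2, fun V h1 h2 => hmax V ⟨h1, h2⟩⟩

end H68.Zipper
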