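import Cfsg.Agent.Lib.H68.CAd
import Cfsg.Agent.Lib.H46.CAK

set_option autoImplicit false
set_option linter.style.haveILetI false
set_option maxHeartbeats 1000000

/-!
# S4369, piece K0: `b3`
-/

namespace H68.CA

open Subgroup H4.CA

universe u

theorem b3 {G : Type u} [Group G] [Finite G] (h : Beta2 G) :
    (∃ (F : Type) (_ : Field F) (_ : Fintype F), CharP F 2 ∧
      Nonempty (G ⧸ center G ≃* Matrix.ProjectiveSpecialLinearGroup (Fin 2) F)) ∨
    (∃ (S : Sylow 2 (G ⧸ center G)) (n : ℕ), 2 ≤ n ∧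
      Nonempty ((S : Subgroup (G ⧸ center G)) ≃* DihedralGroup n)) := by
  rcases b3_or h with ⟨S, hel, h8⟩ | h'
  · exact Or.inl (H46.CAK.case1 h S hel h8)
  · exact Or.inr h'

end H68.CA
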