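import Cfsg.Agent.Lib.H4.CA0

set_option autoImplicit false
set_option linter.unusedVariables false
set_option linter.unusedSectionVars false
set_option linter.style.haveILetI false

/-!
# S4369, piece K0: basic facts
-/

namespace H68.CA

open Subgroup H4.CA

universe u

variable {G : Type u} [Group G] [Finite G]

theorem mem_of_coprime (N : Subgroup G) {x : G} {a b : ℕ} (hab : a.Coprime b) (ha : x ^ a ∈ N)
    (hb : x ^ b ∈ N) : x ∈ N := by
  have h1 : (x ^ a) ^ (Nat.gcdA a b) * (x ^ b) ^ (Nat.gcdB a b) ∈ N :=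
    mul_mem (zpow_mem ha _) (zpow_mem hb _)
  have h2 : (x ^ a) ^ (Nat.gcdA a b) * (x ^ b) ^ (Nat.gcdB a b) = x := by
    rw [← zpow_natCast, ← zpow_natCast, ← zpow_mul, ← zpow_mul, ← zpow_add, ← Nat.gcd_eq_gcd_ab,
      hab]
    simp
  rwa [h2] at h1

theorem bad_pow {x : G} (hx : Bad x) {n : ℕ} (hn : x ^ n ∉ center G) : Bad (x ^ n) := by
  obtain ⟨-, a, b, ha, hb, hab⟩ := hx
  exact ⟨hn, a, b, ha.pow_left n, hb.pow_left n, hab⟩

/-- some power of a bad element is bad of odd order -/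
theorem odd_bad (h : Beta G) {x : G} (hx : Bad x) : ∃ n : ℕ, Bad (x ^ n) ∧ Odd (orderOf (x ^ n)) := by
  obtain ⟨k, m, hm, hkm⟩ := Nat.exists_eq_two_pow_mul_odd (orderOf_pos x).ne'
  have h1 : x ^ (2 ^ k) ∉ center G := by
    intro hc
    by_cases h2 : x ^ m ∈ center G
    · exact hx.1 (mem_of_coprime _ (Nat.Coprime.pow_left k (Nat.coprime_two_left.2 hm)) hc h2)
    · refine h.b0 (x ^ m) ⟨k, ?_⟩ (bad_pow hx h2)
      rw [← pow_mul, mul_comm, ← hkm, pow_orderOf_eq_one]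
  refine ⟨2 ^ k, bad_pow hx h1, ?_⟩
  refine Odd.of_dvd_nat hm (orderOf_dvd_of_pow_eq_one ?_)
  rw [← pow_mul, ← hkm, pow_orderOf_eq_one]

theorem cen (h : Beta2 G) {t : G} (ht : ∃ k : ℕ, t ^ 2 ^ k = 1) (hz : t ∉ center G) :
    (∀ a b : G, Commute t a → Commute t b → Commute a b) ∧
      ∀ b : G, Commute t b → b ∉ center G → ∀ c : G, Commute b c ↔ Commute t c := by
  have key : ∀ x : G, x ∉ center G → ¬ Bad x → ∀ a b : G, Commute x a → Commute x b → Commute a b := by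
    intro x hx hnb a b ha hb
    by_contra hab
    exact hnb ⟨hx, a, b, ha, hb, hab⟩
  have h1 := key t hz (h.b0 t ht)
  refine ⟨h1, ?_⟩
  intro b hb hbz c
  have h2 := key b hbz (fun hbad => hz (h.b2 b hbad t ht hb.symm))
  exact ⟨fun hc => h2 t c hb.symm hc, fun hc => h1 b c hb hc⟩

theorem two_elt (S : Sylow 2 G) {s : G} (hs : s ∈ S) : ∃ k : ℕ, s ^ 2 ^ k = 1 := by
  obtain ⟨k, hk⟩ := S.2 ⟨s, hs⟩
  exact ⟨k, congrArg Subtype.val hk⟩

/-- commutators with `s` modulo the centre -/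
theorem comm_sq {s y : G} (h2 : s * s ∈ center G) (hy : y * s * y⁻¹ * s⁻¹ ∈ center G) :
    (y * s * y⁻¹ * s⁻¹) * (y * s * y⁻¹ * s⁻¹) = 1 := by
  obtain ⟨z, hz⟩ : ∃ z, z = y * s * y⁻¹ * s⁻¹ := ⟨_, rfl⟩
  rw [← hz] at hy ⊢
  have e1 : y * s * y⁻¹ = z * s := by rw [hz]; group
  have hzs : z * s = s * z := ((mem_center_iff.1 hy) s).symm
  have e2 : (z * s) * (z * s) = s * s := by
    rw [← e1]
    calc y * s * y⁻¹ * (y * s * y⁻¹) = y * (s * s) * y⁻¹ := by group
      _ = (s * s) * y * y⁻¹ := by rw [(mem_center_iff.1 h2) y]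
      _ = s * s := by group
  have e3 : (z * z) * (s * s) = s * s := by
    calc (z * z) * (s * s) = z * (z * s) * s := by group
      _ = z * (s * z) * s := by rw [hzs]
      _ = (z * s) * (z * s) := by group
      _ = s * s := e2
  exact mul_eq_right.1 e3

theorem inv (h : Beta2 G) (S : Sylow 2 G) {s : G} (hs : s ∈ S) (hz : s ∉ center G)
    (h2 : s * s ∈ center G) (hS : ∀ y ∈ S, y * s * y⁻¹ * s⁻¹ ∈ center G) {y : G} (hy : y ∈ S)
    (hys : ¬ Commute s y) :
    y * y ∈ center G ∧ ∀ b : G, Commute s b → b * (y * b * y⁻¹) ∈ center G := by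
  obtain ⟨hab, hce⟩ := cen h (two_elt S hs) hz
  obtain ⟨z, hz'⟩ : ∃ z, z = y * s * y⁻¹ * s⁻¹ := ⟨_, rfl⟩
  have hzc := hS y hy
  have hzz := comm_sq h2 hzc
  rw [← hz'] at hzc hzz
  have e1 : y * s * y⁻¹ = z * s := by rw [hz']; group
  have hzcom : ∀ g : G, Commute z g := fun g => ((mem_center_iff.1 hzc) g).symm
  -- `y` normalizes `C(s)`
  have hnorm : ∀ b : G, Commute s b → Commute s (y * b * y⁻¹) := by
    intro b hb
    have h3 : Commute (y * s * y⁻¹) (y * b * y⁻¹) := by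
      change y * s * y⁻¹ * (y * b * y⁻¹) = y * b * y⁻¹ * (y * s * y⁻¹)
      calc y * s * y⁻¹ * (y * b * y⁻¹) = y * (s * b) * y⁻¹ := by group
        _ = y * (b * s) * y⁻¹ := by rw [hb.eq]
        _ = y * b * y⁻¹ * (y * s * y⁻¹) := by group
    rw [e1] at h3
    have h4 : s = z * (z * s) := by rw [← mul_assoc, hzz, one_mul]
    rw [h4]
    exact (hzcom _).mul_left h3
  -- fixed points are central
  have hfix : ∀ c : G, Commute s c → Commute y c → c ∈ center G := by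
    intro c hc hyc
    by_contra hcz
    exact hys ((hce c hc hcz y).1 hyc.symm)
  have hyy : Commute s (y * y) := by
    have h3 : (y * y) * s * (y * y)⁻¹ = s := by
      calc (y * y) * s * (y * y)⁻¹ = y * (y * s * y⁻¹) * y⁻¹ := by group
        _ = y * (z * s) * y⁻¹ := by rw [e1]
        _ = (y * z) * s * y⁻¹ := by group
        _ = (z * y) * s * y⁻¹ := by rw [(hzcom y).eq]
        _ = z * (y * s * y⁻¹) := by group
        _ = z * (z * s) := by rw [e1]
        _ = s := by rw [← mul_assoc, hzz, one_mul]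
    exact (mul_inv_eq_iff_eq_mul.1 h3).symm
  have hyyc : y * y ∈ center G := hfix _ hyy ((Commute.refl y).mul_right (Commute.refl y))
  refine ⟨hyyc, ?_⟩
  intro b hb
  have h3 := hnorm b hb
  refine hfix _ (hb.mul_right h3) ?_
  have h4 : y * (b * (y * b * y⁻¹)) * y⁻¹ = b * (y * b * y⁻¹) := by
    calc y * (b * (y * b * y⁻¹)) * y⁻¹ = (y * b * y⁻¹) * ((y * y) * b * (y * y)⁻¹) := by group
      _ = (y * b * y⁻¹) * (b * (y * y) * (y * y)⁻¹) := by rw [(mem_center_iff.1 hyyc) b]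
      _ = (y * b * y⁻¹) * b := by group
      _ = b * (y * b * y⁻¹) := (hab _ _ h3 hb).eq
  exact (mul_inv_eq_iff_eq_mul.1 h4)

theorem no_idx (h : Beta2 G) (N : Subgroup G) [N.Normal] (hN : N ≠ ⊤) :
    ¬ ∃ k : ℕ, N.index = 2 ^ k := by
  rintro ⟨k, hk⟩
  obtain ⟨x, hx⟩ := h.bad
  obtain ⟨n, hn, hodd⟩ := odd_bad h.toBeta hx
  refine h.noBad N inferInstance hN (x ^ n) ?_ hn
  refine mem_of_coprime N (a := 2 ^ k) (b := orderOf (x ^ n)) (Nat.Coprime.pow_left k
    (Nat.coprime_two_left.2 hodd)) ?_ ?_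
  · rw [← hk]; exact N.pow_index_mem _
  · rw [pow_orderOf_eq_one]; exact one_mem _

end H68.CA
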