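import Cfsg.Agent.Lib.H68.CAa
import Cfsg.Agent.Lib.H3.ThompsonTransfer
import Cfsg.Agent.Lib.H5.DihedralLift
import Cfsg.Agent.Lib.H1.Cyc
import Cfsg.Agent.Lib.H17.FourGrp

set_option autoImplicit false
set_option linter.unusedVariables false
set_option linter.unusedSectionVars false
set_option linter.style.haveILetI false
set_option maxHeartbeats 1000000

/-!
# S4369, piece K0: the Sylow 2-subgroup modulo the centre
-/

namespace H68.CA

open Subgroup H4.CA

universe u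

variable {G : Type u} [Group G] [Finite G]

theorem pi_comm {a b : G} : (QuotientGroup.mk' (center G)) a * (QuotientGroup.mk' (center G)) b =
    (QuotientGroup.mk' (center G)) b * (QuotientGroup.mk' (center G)) a ↔ a * b * a⁻¹ * b⁻¹ ∈ center G := by
  rw [← QuotientGroup.eq_one_iff, ← QuotientGroup.mk'_apply]
  simp only [map_mul, map_inv]
  constructor
  · intro h
    rw [h]; group
  · intro h
    have := mul_inv_eq_one.1 h
    exact mul_inv_eq_iff_eq_mul.1 this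

theorem pi_one {a : G} : (QuotientGroup.mk' (center G)) a = 1 ↔ a ∈ center G := by
  rw [QuotientGroup.mk'_apply, QuotientGroup.eq_one_iff]

theorem exists_sq {M : Type*} [Group M] {c : M} (h1 : c ≠ 1) (h : ∃ k : ℕ, c ^ 2 ^ k = 1) :
    ∃ m : ℕ, c ^ m ≠ 1 ∧ c ^ m * c ^ m = 1 := by
  classical
  have hk := Nat.find_spec h
  obtain ⟨k, hk'⟩ : ∃ k, k = Nat.find h := ⟨_, rfl⟩
  rw [← hk'] at hk
  rcases k with _ | k
  · exact absurd (by simpa using hk) h1
  · refine ⟨2 ^ k, fun h2 => ?_, ?_⟩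
    · have := Nat.find_min h (m := k) (by omega)
      exact this h2
    · rw [← pow_add, ← two_mul, ← pow_succ']
      exact hk

theorem exists_s (S : Sylow 2 G) (hS : ∃ a ∈ S, a ∉ center G) :
    ∃ s ∈ S, s ∉ center G ∧ s * s ∈ center G ∧ ∀ y ∈ S, y * s * y⁻¹ * s⁻¹ ∈ center G := by
  haveI : Fact (Nat.Prime 2) := ⟨Nat.prime_two⟩
  obtain ⟨P, hP⟩ : ∃ P, P = (S : Subgroup G).map (QuotientGroup.mk' (center G)) := ⟨_, rfl⟩
  have hP2 : IsPGroup 2 P := by rw [hP]; exact S.2.map _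
  obtain ⟨a, ha, haz⟩ := hS
  haveI : Nontrivial P := by
    refine ⟨⟨⟨QuotientGroup.mk' (center G) a, by rw [hP]; exact ⟨a, ha, rfl⟩⟩, 1, fun h => haz ?_⟩⟩
    exact pi_one.1 (congrArg Subtype.val h)
  haveI := hP2.center_nontrivial
  obtain ⟨c, hc⟩ := exists_ne (1 : center P)
  obtain ⟨m, hm1, hm2⟩ := exists_sq hc ((hP2.to_subgroup (center P)) c)
  obtain ⟨w, hw⟩ : ∃ w, w = c ^ m := ⟨_, rfl⟩
  rw [← hw] at hm1 hm2
  have h1 : (w : P).1 ∈ (S : Subgroup G).map (QuotientGroup.mk' (center G)) := by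
    have h := (w : P).2
    exact hP ▸ h
  obtain ⟨s, hs, hsw⟩ := h1
  refine ⟨s, hs, ?_, ?_, ?_⟩
  · intro h
    apply hm1
    apply Subtype.ext
    apply Subtype.ext
    rw [← hsw]
    exact pi_one.2 h
  · rw [← pi_one, map_mul, hsw]
    exact congrArg (fun x : center P => (x : P).1) hm2
  · intro y hy
    rw [← pi_comm, hsw]
    have h2 := mem_center_iff.1 w.2 ⟨QuotientGroup.mk' (center G) y, by rw [hP]; exact ⟨y, hy, rfl⟩⟩
    exact congrArg Subtype.val h2

/-- the commutator map -/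
theorem two_coset (h : Beta2 G) (S : Sylow 2 G) {s : G} (hs : s ∈ S) (hz : s ∉ center G)
    (h2 : s * s ∈ center G) (hS : ∀ y ∈ S, y * s * y⁻¹ * s⁻¹ ∈ center G)
    (hprod : ∀ y1 ∈ S, ∀ y2 ∈ S, ¬ Commute s y1 → ¬ Commute s y2 → Commute s (y1 * y2))
    {t : G} (ht : Commute s t) (htz : t ∉ center G) (ht2 : t * t ∈ center G) :
    ∀ a b : G, a * t * a⁻¹ * t⁻¹ ∈ center G → b * t * b⁻¹ * t⁻¹ ∈ center G →
      ¬ Commute t a → ¬ Commute t b → Commute t (a * b) := by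
  haveI : Fact (Nat.Prime 2) := ⟨Nat.prime_two⟩
  obtain ⟨hab, hce⟩ := cen h (two_elt S hs) hz
  have hct := hce t ht htz
  let N : Subgroup G := (centralizer {(QuotientGroup.mk' (center G)) t}).comap
    (QuotientGroup.mk' (center G))
  have hN : ∀ a : G, a ∈ N ↔ a * t * a⁻¹ * t⁻¹ ∈ center G := by
    intro a
    rw [← pi_comm, mem_comap, mem_centralizer_singleton_iff]
  have hSN : (S : Subgroup G) ≤ N := by
    intro y hy
    rw [hN]
    by_cases hys : Commute s y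
    · have h3 : y * t = t * y := (hab _ _ hys ht).eq
      rw [h3]
      have : t * y * y⁻¹ * t⁻¹ = 1 := by group
      rw [this]; exact one_mem _
    · obtain ⟨-, h4⟩ := inv h S hs hz h2 hS hy hys
      have h5 := h4 t ht
      have h6 : y * t * y⁻¹ * t⁻¹ = t⁻¹ * (t * (y * t * y⁻¹)) * t⁻¹ := by group
      rw [h6]
      have h7 : t⁻¹ * (t * (y * t * y⁻¹)) * t⁻¹ = (t * (y * t * y⁻¹)) * (t * t)⁻¹ := by
        rw [(mem_center_iff.1 h5) t⁻¹]; group
      rw [h7]
      exact mul_mem h5 (inv_mem ht2)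
  let φ : N →* center G :=
    { toFun := fun a => ⟨a * t * (a : G)⁻¹ * t⁻¹, (hN a).1 a.2⟩
      map_one' := Subtype.ext (by simp)
      map_mul' := by
        intro a b
        apply Subtype.ext
        change (a * b : G) * t * (a * b : G)⁻¹ * t⁻¹ = (a * t * (a : G)⁻¹ * t⁻¹) * (b * t * (b : G)⁻¹ * t⁻¹)
        have h3 := (mem_center_iff.1 ((hN b).1 b.2)) a
        calc (a * b : G) * t * (a * b : G)⁻¹ * t⁻¹
            = (a * (b * t * (b : G)⁻¹ * t⁻¹)) * t * (a : G)⁻¹ * t⁻¹ := by group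
          _ = (b * t * (b : G)⁻¹ * t⁻¹) * (a * t * (a : G)⁻¹ * t⁻¹) := by rw [h3]; group
          _ = (a * t * (a : G)⁻¹ * t⁻¹) * (b * t * (b : G)⁻¹ * t⁻¹) :=
            ((mem_center_iff.1 ((hN b).1 b.2)) _).symm }
  have hφ1 : ∀ a : N, φ a = 1 ↔ Commute t a := by
    intro a
    constructor
    · intro h3
      have h4 : (a : G) * t * (a : G)⁻¹ * t⁻¹ = 1 := congrArg Subtype.val h3
      have h5 := mul_inv_eq_one.1 h4
      exact (mul_inv_eq_iff_eq_mul.1 h5).symm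
    · intro h3
      apply Subtype.ext
      change (a : G) * t * (a : G)⁻¹ * t⁻¹ = 1
      rw [← h3.eq]; group
  have hφ2 : ∀ a : N, φ a * φ a = 1 := fun a => Subtype.ext (comm_sq ht2 ((hN a).1 a.2))
  have hrange : IsPGroup 2 φ.range := by
    rintro ⟨_, a, rfl⟩
    refine ⟨1, Subtype.ext ?_⟩
    change φ a ^ 2 ^ 1 = 1
    rw [pow_one, pow_two]
    exact hφ2 a
  let S' : Sylow 2 N := S.subtype hSN
  have hsurj := φ.rangeRestrict_surjective
  have htop : (⊤ : Subgroup φ.range) = (S'.mapSurjective hsurj : Subgroup φ.range) := by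
    refine (S'.mapSurjective hsurj).3 ?_ le_top
    exact hrange.of_equiv Subgroup.topEquiv.symm
  have hex : ∀ a : N, ∃ s1 : N, (s1 : G) ∈ S ∧ φ s1 = φ a := by
    intro a
    have h3 : φ.rangeRestrict a ∈ (S'.mapSurjective hsurj : Subgroup φ.range) := by
      rw [← htop]; exact mem_top _
    obtain ⟨s1, hs1, h4⟩ := h3
    refine ⟨s1, ?_, congrArg Subtype.val h4⟩
    exact mem_subgroupOf.1 hs1
  intro a b ha hb hta htb
  obtain ⟨s1, hs1, h1⟩ := hex ⟨a, (hN a).2 ha⟩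
  obtain ⟨s2, hs2, h2'⟩ := hex ⟨b, (hN b).2 hb⟩
  have hn1 : ¬ Commute s (s1 : G) := by
    intro h3
    apply hta
    have h4 : φ s1 = 1 := (hφ1 s1).2 ((hct _).2 h3)
    rw [h1] at h4
    exact (hφ1 _).1 h4
  have hn2 : ¬ Commute s (s2 : G) := by
    intro h3
    apply htb
    have h4 : φ s2 = 1 := (hφ1 s2).2 ((hct _).2 h3)
    rw [h2'] at h4
    exact (hφ1 _).1 h4
  have h5 := hprod _ hs1 _ hs2 hn1 hn2
  have h6 : φ (s1 * s2) = 1 := (hφ1 _).2 ((hct _).2 h5)
  rw [map_mul, h1, h2', ← map_mul] at h6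
  exact (hφ1 _).1 h6

end H68.CA
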