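import Cfsg.Agent.Lib.H68.CAb

set_option autoImplicit false
set_option linter.unusedVariables false
set_option linter.unusedSectionVars false
set_option linter.style.haveILetI false
set_option maxHeartbeats 1000000

/-!
# S4369, piece K0: case (2), dihedral Sylow 2-subgroups modulo the centre
-/

namespace H68.CA

open Subgroup H4.CA

universe u

section dih
variable {G : Type*} [Group G] [Finite G]

theorem order_two {t : G} (h1 : t ≠ 1) (h2 : t * t = 1) : orderOf t = 2 :=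
  orderOf_eq_prime (by rw [pow_two]; exact h2) h1

theorem dihedral_equiv {T C : Subgroup G} (hC : IsCyclic C) (hCT : C ≤ T) (hC1 : C ≠ ⊥) {t : G}
    (ht : t ∈ T) (htC : t ∉ C) (ht2 : t * t = 1) (hinv : ∀ c ∈ C, t * c * t⁻¹ = c⁻¹)
    (hT : ∀ a ∈ T, a ∈ C ∨ t * a ∈ C) :
    ∃ n, 2 ≤ n ∧ Nonempty (T ≃* DihedralGroup n) := by
  obtain ⟨⟨c, hcC⟩, hc⟩ := hC.exists_generator
  have hgen : ∀ a ∈ C, ∃ k : ℤ, a = c ^ k := by
    intro a ha
    obtain ⟨k, hk⟩ := mem_zpowers_iff.mp (hc ⟨a, ha⟩)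
    exact ⟨k, by simpa using (congrArg Subtype.val hk).symm⟩
  have hc1 : c ≠ 1 := by
    rintro rfl
    apply hC1
    rw [eq_bot_iff]
    intro a ha
    obtain ⟨k, hk⟩ := hgen a ha
    rw [hk, one_zpow]; exact one_mem _
  have ht1 : t ≠ 1 := by rintro rfl; exact htC (one_mem C)
  have htinv : t⁻¹ = t := inv_eq_of_mul_eq_one_left ht2
  have htc2 : (t * c) * (t * c) = 1 := by
    have h := hinv c hcC
    rw [htinv] at h
    calc (t * c) * (t * c) = (t * c * t) * c := by group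
      _ = 1 := by rw [h, inv_mul_cancel]
  have htc1 : t * c ≠ 1 := by
    intro h
    apply htC
    have : t = c⁻¹ := eq_inv_of_mul_eq_one_left h
    rw [this]; exact inv_mem hcC
  have hne : t ≠ t * c := by
    intro h
    apply hc1
    have h' : t * 1 = t * c := by rw [mul_one]; exact h
    exact (mul_left_cancel h').symm
  have e := H5.DihedralLift.closure_involutions_equiv (order_two ht1 ht2)
    (order_two htc1 htc2) hne
  have h5 : t * (t * c) = c := by rw [← mul_assoc, ht2, one_mul]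
  rw [h5] at e
  have hcl : closure ({t, t * c} : Set G) = T := by
    apply le_antisymm
    · rw [closure_le]
      rintro y (rfl | rfl)
      · exact ht
      · exact mul_mem ht (hCT hcC)
    · intro a ha
      have h6 : t ∈ closure ({t, t * c} : Set G) := subset_closure (Or.inl rfl)
      have h7 : c ∈ closure ({t, t * c} : Set G) := by
        have := mul_mem h6 (subset_closure (Or.inr rfl) : t * c ∈ closure ({t, t * c} : Set G))
        rwa [h5] at this
      rcases hT a ha with h | h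
      · obtain ⟨k, rfl⟩ := hgen a h
        exact zpow_mem h7 k
      · obtain ⟨k, hk⟩ := hgen _ h
        have : a = t * (t * a) := by rw [← mul_assoc, ht2, one_mul]
        rw [this, hk]
        exact mul_mem h6 (zpow_mem h7 k)
  obtain ⟨e⟩ := e
  refine ⟨orderOf c, ?_, ⟨(MulEquiv.subgroupCongr hcl.symm).trans e⟩⟩
  have h8 := orderOf_pos c
  have h9 : orderOf c ≠ 1 := by rwa [Ne, orderOf_eq_one_iff]
  omega

end dih

variable {G : Type u} [Group G] [Finite G]

/-- the image of `C_S(s)` -/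
abbrev Tb (S : Sylow 2 G) (s : G) : Subgroup (G ⧸ center G) :=
  ((S : Subgroup G) ⊓ centralizer {s}).map (QuotientGroup.mk' (center G))

theorem mem_Tb (S : Sylow 2 G) {s b : G} (hb : b ∈ S) :
    (QuotientGroup.mk' (center G)) b ∈ Tb S s ↔ Commute s b := by
  constructor
  · rintro ⟨t, ⟨htS, hts⟩, htb⟩
    have h1 : Commute s t := (mem_centralizer_singleton_iff.1 hts).symm
    have h2 : t⁻¹ * b ∈ center G := QuotientGroup.eq.1 htb
    have h3 : b = t * (t⁻¹ * b) := by group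
    rw [h3]
    exact h1.mul_right ((mem_center_iff.1 h2) s)
  · intro h
    exact ⟨b, ⟨hb, mem_centralizer_singleton_iff.2 h.symm⟩, rfl⟩

/-- the setting of case (2) -/
structure Two (S : Sylow 2 G) (s y : G) : Prop where
  hs : s ∈ S
  hz : s ∉ center G
  h2 : s * s ∈ center G
  hS : ∀ y ∈ S, y * s * y⁻¹ * s⁻¹ ∈ center G
  hprod : ∀ y1 ∈ S, ∀ y2 ∈ S, ¬ Commute s y1 → ¬ Commute s y2 → Commute s (y1 * y2)
  hy : y ∈ S
  hys : ¬ Commute s y

theorem Two.relIndex (h : Beta2 G) {S : Sylow 2 G} {s y : G} (w : Two S s y) :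
    (Tb S s).relIndex ((S : Subgroup G).map (QuotientGroup.mk' (center G))) = 2 := by
  rw [relIndex_eq_two_iff]
  refine ⟨QuotientGroup.mk' (center G) y, ⟨y, w.hy, rfl⟩, ?_⟩
  rintro _ ⟨b, hb, rfl⟩
  rw [← map_mul, mem_Tb S (mul_mem hb w.hy), mem_Tb S hb]
  by_cases hsb : Commute s b
  · right
    refine ⟨hsb, fun h1 => w.hys ?_⟩
    have h2 : y = b⁻¹ * (b * y) := by group
    rw [h2]
    exact hsb.inv_right.mul_right h1
  · left
    exact ⟨w.hprod b hb y w.hy hsb w.hys, hsb⟩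

theorem Two.transfer (h : Beta2 G) {S : Sylow 2 G} {s y : G} (w : Two S s y) :
    ∃ g t : G, Commute s t ∧ (g * y * g⁻¹) * t⁻¹ ∈ center G := by
  haveI : Fact (Nat.Prime 2) := ⟨Nat.prime_two⟩
  by_contra hcon
  push Not at hcon
  have hyy := (inv h S w.hs w.hz w.h2 w.hS w.hy w.hys).1
  have hsurj : Function.Surjective (QuotientGroup.mk' (center G)) := QuotientGroup.mk'_surjective _
  obtain ⟨M, hMn, hM2, -⟩ := H3.ThompsonTransfer.exists_index_two
    ((S : Subgroup G).map (QuotientGroup.mk' (center G))) (Tb S s) (map_mono inf_le_left)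
    (by
      have h1 := (S.mapSurjective hsurj).not_dvd_index
      rw [Sylow.coe_mapSurjective] at h1
      exact Nat.odd_iff.2 (by omega)) (w.relIndex h) (QuotientGroup.mk' (center G) y)
    (by rw [pow_two, ← map_mul]; exact pi_one.2 hyy) (by
      intro gb hgb
      obtain ⟨g, rfl⟩ := hsurj gb
      rw [← map_inv, ← map_mul, ← map_mul] at hgb
      obtain ⟨t, ⟨htS, hts⟩, htb⟩ := hgb
      refine hcon g t (mem_centralizer_singleton_iff.1 hts).symm ?_
      rw [← pi_one, map_mul, map_inv, htb, mul_inv_cancel])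
  haveI := hMn
  have h1 : (M.comap (QuotientGroup.mk' (center G))).index = 2 := by
    rw [index_comap_of_surjective _ hsurj, hM2]
  refine no_idx h (M.comap (QuotientGroup.mk' (center G))) ?_ ⟨1, by rw [h1, pow_one]⟩
  intro h3
  rw [h3, index_top] at h1
  omega

/-- the centralizer of `y` modulo the centre -/
theorem Two.cosets (h : Beta2 G) {S : Sylow 2 G} {s y : G} (w : Two S s y) :
    ∀ a b : G, a * y * a⁻¹ * y⁻¹ ∈ center G → b * y * b⁻¹ * y⁻¹ ∈ center G →
      ¬ Commute y a → ¬ Commute y b → Commute y (a * b) := by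
  obtain ⟨g, t, hst, hgt⟩ := w.transfer h
  have hyy := (inv h S w.hs w.hz w.h2 w.hS w.hy w.hys).1
  obtain ⟨ζ, hζ⟩ : ∃ ζ, ζ = (g * y * g⁻¹) * t⁻¹ := ⟨_, rfl⟩
  rw [← hζ] at hgt
  have hζc : ∀ x : G, Commute ζ x := fun x => ((mem_center_iff.1 hgt) x).symm
  have hgy : g * y * g⁻¹ = ζ * t := by rw [hζ]; group
  have hcomm : ∀ a : G, Commute t (g * a * g⁻¹) ↔ Commute y a := by
    intro a
    constructor
    · intro h1
      have h3 : Commute (g * y * g⁻¹) (g * a * g⁻¹) := by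
        rw [hgy]; exact (hζc _).mul_left h1
      have h4 : g * (y * a) * g⁻¹ = g * (a * y) * g⁻¹ := by
        calc g * (y * a) * g⁻¹ = (g * y * g⁻¹) * (g * a * g⁻¹) := by group
          _ = (g * a * g⁻¹) * (g * y * g⁻¹) := h3.eq
          _ = g * (a * y) * g⁻¹ := by group
      exact mul_left_cancel (mul_right_cancel h4)
    · intro h1
      have h3 : Commute (g * y * g⁻¹) (g * a * g⁻¹) := by
        change (g * y * g⁻¹) * (g * a * g⁻¹) = (g * a * g⁻¹) * (g * y * g⁻¹)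
        calc (g * y * g⁻¹) * (g * a * g⁻¹) = g * (y * a) * g⁻¹ := by group
          _ = g * (a * y) * g⁻¹ := by rw [h1.eq]
          _ = (g * a * g⁻¹) * (g * y * g⁻¹) := by group
      have h4 : t = ζ⁻¹ * (g * y * g⁻¹) := by rw [hgy]; group
      rw [h4]
      exact ((hζc _).inv_left).mul_left h3
  have hcc : ∀ a : G, a * y * a⁻¹ * y⁻¹ ∈ center G →
      (g * a * g⁻¹) * t * (g * a * g⁻¹)⁻¹ * t⁻¹ ∈ center G := by
    intro a ha
    have h1 : (g * a * g⁻¹) * t * (g * a * g⁻¹)⁻¹ * t⁻¹ = a * y * a⁻¹ * y⁻¹ := by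
      have h4 : t = ζ⁻¹ * (g * y * g⁻¹) := by rw [hgy]; group
      have h5 : ∀ x : G, ζ⁻¹ * x = x * ζ⁻¹ := fun x => ((hζc x).inv_left).eq
      calc (g * a * g⁻¹) * t * (g * a * g⁻¹)⁻¹ * t⁻¹
          = (g * a * g⁻¹) * (ζ⁻¹ * (g * y * g⁻¹)) * (g * a * g⁻¹)⁻¹ * (ζ⁻¹ * (g * y * g⁻¹))⁻¹ := by
            rw [← h4]
        _ = ((g * a * g⁻¹) * ζ⁻¹) * (g * y * g⁻¹) * (g * a * g⁻¹)⁻¹ * (g * y * g⁻¹)⁻¹ * ζ := by group
        _ = (ζ⁻¹ * (g * a * g⁻¹)) * (g * y * g⁻¹) * (g * a * g⁻¹)⁻¹ * (g * y * g⁻¹)⁻¹ * ζ := by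
            rw [h5 (g * a * g⁻¹)]
        _ = ζ⁻¹ * (g * (a * y * a⁻¹ * y⁻¹) * g⁻¹) * ζ := by group
        _ = ζ⁻¹ * ((a * y * a⁻¹ * y⁻¹) * g * g⁻¹) * ζ := by rw [(mem_center_iff.1 ha) g]
        _ = (ζ⁻¹ * (a * y * a⁻¹ * y⁻¹)) * ζ := by group
        _ = ((a * y * a⁻¹ * y⁻¹) * ζ⁻¹) * ζ := by rw [h5]
        _ = a * y * a⁻¹ * y⁻¹ := by group
    rw [h1]; exact ha
  have htz : t ∉ center G := by
    intro h1
    apply w.hys
    refine ((hcomm s).1 ?_).symm
    exact (((mem_center_iff.1 h1) _)).symm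
  have htt : t * t ∈ center G := by
    have h4 : t = ζ⁻¹ * (g * y * g⁻¹) := by rw [hgy]; group
    have h1 : t * t = ζ⁻¹ * ζ⁻¹ * (y * y) := by
      calc t * t = (ζ⁻¹ * (g * y * g⁻¹)) * (ζ⁻¹ * (g * y * g⁻¹)) := by rw [← h4]
        _ = ζ⁻¹ * ((g * y * g⁻¹) * ζ⁻¹) * (g * y * g⁻¹) := by group
        _ = ζ⁻¹ * (ζ⁻¹ * (g * y * g⁻¹)) * (g * y * g⁻¹) := by
          rw [← ((hζc (g * y * g⁻¹)).inv_left).eq]
        _ = ζ⁻¹ * ζ⁻¹ * (g * (y * y) * g⁻¹) := by group
        _ = ζ⁻¹ * ζ⁻¹ * (y * y * g * g⁻¹) := by rw [(mem_center_iff.1 hyy) g]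
        _ = ζ⁻¹ * ζ⁻¹ * (y * y) := by group
    rw [h1]
    exact mul_mem (mul_mem (inv_mem hgt) (inv_mem hgt)) hyy
  intro a b ha hb hya hyb
  have h1 := two_coset h S w.hs w.hz w.h2 w.hS w.hprod hst htz htt (g * a * g⁻¹) (g * b * g⁻¹)
    (hcc a ha) (hcc b hb) (fun h3 => hya ((hcomm a).1 h3)) (fun h3 => hyb ((hcomm b).1 h3))
  rw [show g * a * g⁻¹ * (g * b * g⁻¹) = g * (a * b) * g⁻¹ by group] at h1
  exact (hcomm _).1 h1

theorem Two.uniq (h : Beta2 G) {S : Sylow 2 G} {s y : G} (w : Two S s y) {t : G} (ht : Commute s t)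
    (htz : t ∉ center G) (ht2 : t * t ∈ center G) : t * s⁻¹ ∈ center G := by
  obtain ⟨hab, hce⟩ := cen h (two_elt S w.hs) w.hz
  obtain ⟨hyy, hinv⟩ := inv h S w.hs w.hz w.h2 w.hS w.hy w.hys
  have hflip : ∀ e : G, Commute s e → e * e ∈ center G → e * y * e⁻¹ * y⁻¹ ∈ center G := by
    intro e he hee
    have h1 := hinv e he
    have h3 : e * y * e⁻¹ * y⁻¹ = (e * (y * e * y⁻¹)) * (y * (e * e) * y⁻¹)⁻¹ := by group
    rw [h3]
    refine mul_mem h1 (inv_mem ?_)
    have : y * (e * e) * y⁻¹ = e * e := by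
      rw [(mem_center_iff.1 hee) y]; group
    rw [this]; exact hee
  have hnc : ∀ e : G, Commute s e → e ∉ center G → ¬ Commute y e := by
    intro e he hez h3
    exact w.hys ((hce e he hez y).1 h3.symm)
  have h1 := w.cosets h s t (hflip s (Commute.refl s) w.h2) (hflip t ht ht2)
    (hnc s (Commute.refl s) w.hz) (hnc t ht htz)
  have h3 : s * t ∈ center G := by
    by_contra h4
    exact hnc _ ((Commute.refl s).mul_right ht) h4 h1
  have h4 : t * s⁻¹ = (s * t) * (s * s)⁻¹ := by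
    calc t * s⁻¹ = (t * s) * (s * s)⁻¹ := by group
      _ = (s * t) * (s * s)⁻¹ := by rw [ht.eq]
  rw [h4]
  exact mul_mem h3 (inv_mem w.h2)

theorem Two.cyclic (h : Beta2 G) {S : Sylow 2 G} {s y : G} (w : Two S s y) : IsCyclic (Tb S s) := by
  haveI : Fact (Nat.Prime 2) := ⟨Nat.prime_two⟩
  obtain ⟨hab, hce⟩ := cen h (two_elt S w.hs) w.hz
  have hp : IsPGroup 2 (Tb S s) := (S.2.to_le inf_le_left).map _
  refine H1.Cyc.isCyclic_of_card_pow_le (p := 2) hp ?_ ?_
  · rintro ⟨_, a, ⟨haS, has⟩, rfl⟩ ⟨_, b, ⟨hbS, hbs⟩, rfl⟩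
    apply Subtype.ext
    change (QuotientGroup.mk' (center G)) a * (QuotientGroup.mk' (center G)) b =
      (QuotientGroup.mk' (center G)) b * (QuotientGroup.mk' (center G)) a
    rw [← map_mul, ← map_mul, (hab a b (mem_centralizer_singleton_iff.1 has).symm
      (mem_centralizer_singleton_iff.1 hbs).symm).eq]
  · have hsT : (QuotientGroup.mk' (center G)) s ∈ Tb S s := (mem_Tb S w.hs).2 (Commute.refl s)
    let f : Bool → {x : Tb S s // x ^ 2 = 1} := fun b =>
      if b then ⟨⟨(QuotientGroup.mk' (center G)) s, hsT⟩, by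
        apply Subtype.ext
        change ((QuotientGroup.mk' (center G)) s) ^ 2 = 1
        rw [pow_two, ← map_mul]; exact pi_one.2 w.h2⟩ else ⟨1, one_pow 2⟩
    have hf : Function.Surjective f := by
      rintro ⟨⟨_, t, ⟨htS, hts⟩, rfl⟩, hx2⟩
      have h1 : Commute s t := (mem_centralizer_singleton_iff.1 hts).symm
      have h3 : ((QuotientGroup.mk' (center G)) t) ^ 2 = 1 := congrArg Subtype.val hx2
      rw [pow_two, ← map_mul] at h3
      by_cases htz : t ∈ center G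
      · refine ⟨false, ?_⟩
        apply Subtype.ext
        apply Subtype.ext
        change (1 : G ⧸ center G) = (QuotientGroup.mk' (center G)) t
        exact (pi_one.2 htz).symm
      · refine ⟨true, ?_⟩
        apply Subtype.ext
        apply Subtype.ext
        change (QuotientGroup.mk' (center G)) s = (QuotientGroup.mk' (center G)) t
        have h4 := w.uniq h h1 htz (pi_one.1 h3)
        rw [← pi_one, map_mul, map_inv] at h4
        exact (mul_inv_eq_one.1 h4).symm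
    have := Nat.card_le_card_of_surjective f hf
    simpa using this

theorem Two.final (h : Beta2 G) {S : Sylow 2 G} {s y : G} (w : Two S s y) :
    ∃ n, 2 ≤ n ∧ Nonempty (((S : Subgroup G).map (QuotientGroup.mk' (center G)) : Subgroup _) ≃*
      DihedralGroup n) := by
  obtain ⟨hyy, hinv⟩ := inv h S w.hs w.hz w.h2 w.hS w.hy w.hys
  refine dihedral_equiv (w.cyclic h) (map_mono inf_le_left) ?_
    (t := (QuotientGroup.mk' (center G)) y) ⟨y, w.hy, rfl⟩ ?_ ?_ ?_ ?_
  · intro hb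
    have h1 : (QuotientGroup.mk' (center G)) s ∈ Tb S s := (mem_Tb S w.hs).2 (Commute.refl s)
    rw [hb, mem_bot] at h1
    exact w.hz (pi_one.1 h1)
  · rw [mem_Tb S w.hy]; exact w.hys
  · rw [← map_mul]; exact pi_one.2 hyy
  · rintro _ ⟨b, ⟨hbS, hbs⟩, rfl⟩
    have h1 := hinv b (mem_centralizer_singleton_iff.1 hbs).symm
    rw [← pi_one] at h1
    simp only [map_mul, map_inv] at h1
    exact eq_inv_of_mul_eq_one_right h1
  · rintro _ ⟨b, hb, rfl⟩
    rw [mem_Tb S hb, ← map_mul, mem_Tb S (mul_mem w.hy hb)]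
    by_cases hsb : Commute s b
    · exact Or.inl hsb
    · exact Or.inr (w.hprod y w.hy b hb w.hys hsb)

end H68.CA
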