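import Cfsg.Agent.Lib.H68.CAc

set_option autoImplicit false
set_option linter.unusedVariables false
set_option linter.unusedSectionVars false
set_option linter.style.haveILetI false
set_option maxHeartbeats 1000000

/-!
# S4369, piece K0: `b3` modulo the elementary abelian case
-/

namespace H68.CA

open Subgroup H4.CA

universe u

variable {G : Type u} [Group G] [Finite G]

/-- everything except case (1) with at least eight elements -/
theorem b3_or (h : Beta2 G) : (∃ S : Sylow 2 G, (∀ y ∈ S, y * y ∈ center G) ∧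
      8 ≤ Nat.card ((S : Subgroup G).map (QuotientGroup.mk' (center G)))) ∨
    (∃ (S : Sylow 2 (G ⧸ center G)) (n : ℕ), 2 ≤ n ∧
      Nonempty ((S : Subgroup (G ⧸ center G)) ≃* DihedralGroup n)) := by
  haveI : Fact (Nat.Prime 2) := ⟨Nat.prime_two⟩
  have hsurj : Function.Surjective (QuotientGroup.mk' (center G)) := QuotientGroup.mk'_surjective _
  obtain ⟨S, a, ha, b, hb, hab⟩ := h.sna
  have haz : a ∉ center G := fun h1 => hab ((mem_center_iff.1 h1) b).symm
  obtain ⟨s, hs, hz, h2, hS⟩ := exists_s S ⟨a, ha, haz⟩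
  obtain ⟨y, hy, hys⟩ : ∃ y ∈ S, ¬ Commute s y := by
    by_contra hcon
    push Not at hcon
    exact hz (h.zs S s hs hcon)
  by_cases hel : ∀ w ∈ S, w * w ∈ center G
  · by_cases h8 : 8 ≤ Nat.card ((S : Subgroup G).map (QuotientGroup.mk' (center G)))
    · exact Or.inl ⟨S, hel, h8⟩
    · right
      refine ⟨S.mapSurjective hsurj, 2, le_rfl, ?_⟩
      rw [Sylow.coe_mapSurjective]
      obtain ⟨P, hP⟩ : ∃ P, P = (S : Subgroup G).map (QuotientGroup.mk' (center G)) := ⟨_, rfl⟩
      rw [← hP] at h8 ⊢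
      have hP2 : IsPGroup 2 P := by rw [hP]; exact S.2.map _
      obtain ⟨k, hk⟩ := IsPGroup.iff_card.1 hP2
      have h3 : 2 < (P : Set (G ⧸ center G)).ncard := by
        rw [Set.two_lt_ncard_iff (Set.toFinite _)]
        refine ⟨1, (QuotientGroup.mk' (center G)) s, (QuotientGroup.mk' (center G)) y, one_mem _, ?_, ?_,
          ?_, ?_, ?_⟩
        · rw [hP]; exact ⟨s, hs, rfl⟩
        · rw [hP]; exact ⟨y, hy, rfl⟩
        · intro h4; exact hz (pi_one.1 h4.symm)
        · intro h4
          exact hys ((mem_center_iff.1 (pi_one.1 h4.symm)) s)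
        · intro h4
          have h5 : s⁻¹ * y ∈ center G := QuotientGroup.eq.1 h4
          apply hys
          have h6 : y = s * (s⁻¹ * y) := by group
          rw [h6]
          exact (Commute.refl s).mul_right ((mem_center_iff.1 h5) s)
      have h4 : Nat.card P = 4 := by
        have h5 : (P : Set (G ⧸ center G)).ncard = Nat.card P := rfl
        rw [h5, hk] at h3
        rw [hk] at h8 ⊢
        have h6 : k < 3 := by
          by_contra hcon
          have : 2 ^ 3 ≤ 2 ^ k := Nat.pow_le_pow_right (by norm_num) (by omega)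
          omega
        interval_cases k
        · norm_num at h3
        · norm_num at h3
        · norm_num
      haveI : IsKleinFour P := by
        refine H17.FourGrp.isKlein_of h4 ?_
        intro x hx
        rw [hP] at hx
        obtain ⟨w, hw, rfl⟩ := hx
        rw [← map_mul]
        exact pi_one.2 (hel w hw)
      exact IsKleinFour.nonempty_mulEquiv
  · right
    push Not at hel
    obtain ⟨v, hv, hvv⟩ := hel
    have hsv : Commute s v := by
      by_contra hcon
      exact hvv (inv h S hs hz h2 hS hv hcon).1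
    have hprod : ∀ y1 ∈ S, ∀ y2 ∈ S, ¬ Commute s y1 → ¬ Commute s y2 → Commute s (y1 * y2) := by
      intro y1 hy1 y2 hy2 h3 h4
      by_contra h5
      obtain ⟨-, i1⟩ := inv h S hs hz h2 hS hy1 h3
      obtain ⟨-, i2⟩ := inv h S hs hz h2 hS hy2 h4
      obtain ⟨-, i3⟩ := inv h S hs hz h2 hS (mul_mem hy1 hy2) h5
      apply hvv
      have j1 := pi_one.2 (i1 v hsv)
      have j2 := pi_one.2 (i2 v hsv)
      have j3 := pi_one.2 (i3 v hsv)
      rw [← pi_one]
      simp only [map_mul, map_inv] at j1 j2 j3 ⊢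
      obtain ⟨A, hA⟩ : ∃ A, A = (QuotientGroup.mk' (center G)) y1 := ⟨_, rfl⟩
      obtain ⟨B, hB⟩ : ∃ B, B = (QuotientGroup.mk' (center G)) y2 := ⟨_, rfl⟩
      obtain ⟨V, hV⟩ : ∃ V, V = (QuotientGroup.mk' (center G)) v := ⟨_, rfl⟩
      rw [← hA, ← hV] at j1
      rw [← hB, ← hV] at j2
      rw [← hA, ← hB, ← hV] at j3
      rw [← hV]
      have k1 : A * V * A⁻¹ = V⁻¹ := eq_inv_of_mul_eq_one_right j1
      have k2 : B * V * B⁻¹ = V⁻¹ := eq_inv_of_mul_eq_one_right j2
      have k3 : A * B * V * (A * B)⁻¹ = V⁻¹ := eq_inv_of_mul_eq_one_right j3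
      have k4 : A * B * V * (A * B)⁻¹ = V := by
        calc A * B * V * (A * B)⁻¹ = A * (B * V * B⁻¹) * A⁻¹ := by group
          _ = A * V⁻¹ * A⁻¹ := by rw [k2]
          _ = (A * V * A⁻¹)⁻¹ := by group
          _ = V := by rw [k1, inv_inv]
      rw [k4] at k3
      calc V * V = V * V⁻¹ := by rw [← k3]
        _ = 1 := mul_inv_cancel V
    obtain ⟨n, hn, he⟩ := Two.final h (S := S) (s := s) (y := y) ⟨hs, hz, h2, hS, hprod, hy, hys⟩
    exact ⟨S.mapSurjective hsurj, n, hn, by rw [Sylow.coe_mapSurjective]; exact he⟩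

end H68.CA
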