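import Mathlib
import Cfsg.Agent.Lib.H1.Cores
import Cfsg.Agent.Lib.H1.Coprime2
import Cfsg.Agent.Lib.H1.SZ
import Cfsg.Agent.Lib.H2.GenCent
import Cfsg.Agent.Lib.H59.SylowQ
import Cfsg.Agent.Lib.H5.ZStar
import Cfsg.Agent.Lib.H26.ZStarUse

/-! Groups in which distinct Sylow 2-subgroups intersect in cyclic groups contained in a normal
subgroup of index two.  Preliminary lemmas. -/

set_option autoImplicit false
set_option linter.unusedSectionVars false
set_option linter.style.haveILetI false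

namespace H68.CGroup

open Subgroup Cfsg
open scoped Pointwise

/-- distinct Sylow 2-subgroups meet in cyclic groups contained in `M`. -/
def CM (G : Type*) [Group G] (M : Subgroup G) : Prop :=
  ∀ S T : Sylow 2 G, S ≠ T → IsCyclic ↥((S : Subgroup G) ⊓ (T : Subgroup G)) ∧
    (S : Subgroup G) ⊓ (T : Subgroup G) ≤ M

section basic

variable {G : Type*} [Group G] [Finite G]

theorem cyclic_invol {C : Subgroup G} (hC : IsCyclic C) {a b : G} (ha : a ∈ C) (hb : b ∈ C)
    (oa : orderOf a = 2) (ob : orderOf b = 2) : a = b := by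
  classical
  have : Fintype C := Fintype.ofFinite C
  have h1 := IsCyclic.card_pow_eq_one_le (α := C) (n := 2) (by norm_num)
  by_contra hab
  have ha2 : a ^ 2 = 1 := by rw [← oa]; exact pow_orderOf_eq_one a
  have hb2 : b ^ 2 = 1 := by rw [← ob]; exact pow_orderOf_eq_one b
  have ha1 : a ≠ 1 := fun h => by rw [h, orderOf_one] at oa; omega
  have hb1 : b ≠ 1 := fun h => by rw [h, orderOf_one] at ob; omega
  have h2 : ({1, ⟨a, ha⟩, ⟨b, hb⟩} : Finset C) ⊆ Finset.univ.filter (fun x : C => x ^ 2 = 1) := by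
    intro x hx
    simp only [Finset.mem_insert, Finset.mem_singleton] at hx
    simp only [Finset.mem_filter, Finset.mem_univ, true_and]
    rcases hx with rfl | rfl | rfl
    · exact one_pow 2
    · exact Subtype.ext ha2
    · exact Subtype.ext hb2
  have h3 : ({1, ⟨a, ha⟩, ⟨b, hb⟩} : Finset C).card = 3 := by
    rw [Finset.card_insert_of_notMem, Finset.card_insert_of_notMem, Finset.card_singleton]
    · simp only [Finset.mem_singleton, Subtype.mk.injEq]; exact hab
    · simp only [Finset.mem_insert, Finset.mem_singleton]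
      rintro (h | h)
      · exact ha1 (congrArg Subtype.val h).symm
      · exact hb1 (congrArg Subtype.val h).symm
  have h4 := Finset.card_le_card h2
  omega

theorem mem_smul_sylow {S : Sylow 2 G} {g x : G} : x ∈ (g • S : Sylow 2 G) ↔ g⁻¹ * x * g ∈ S := by
  show x ∈ ((g • S : Sylow 2 G) : Subgroup G) ↔ _
  rw [Sylow.coe_subgroup_smul, H1.SZ.mem_conj_smul]; rfl

theorem mem_smul_of_comm {S : Sylow 2 G} {g x : G} (hx : x ∈ S) (h : g * x = x * g) :
    x ∈ (g • S : Sylow 2 G) := by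
  rw [mem_smul_sylow]
  have : g⁻¹ * x * g = x := by rw [mul_assoc, ← h, inv_mul_cancel_left]
  rw [this]; exact hx

variable {M : Subgroup G}

theorem uniq (hC : CM G M) {S T : Sylow 2 G} {a b : G} (haS : a ∈ S) (haT : a ∈ T) (hbS : b ∈ S)
    (hbT : b ∈ T) (oa : orderOf a = 2) (ob : orderOf b = 2) (hab : a ≠ b) : S = T := by
  by_contra h
  exact hab (cyclic_invol (hC S T h).1 ⟨haS, haT⟩ ⟨hbS, hbT⟩ oa ob)

theorem mem_norm (hC : CM G M) {S : Sylow 2 G} {a b g : G} (haS : a ∈ S) (hbS : b ∈ S)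
    (oa : orderOf a = 2) (ob : orderOf b = 2) (hab : a ≠ b) (hga : g * a = a * g)
    (hgb : g * b = b * g) : g ∈ normalizer ((S : Subgroup G) : Set G) := by
  have h1 : g • S = S :=
    (uniq hC haS (mem_smul_of_comm haS hga) hbS (mem_smul_of_comm hbS hgb) oa ob hab).symm
  exact Sylow.smul_eq_iff_mem_normalizer.1 h1

theorem two_le_normalizer {S : Sylow 2 G} {R : Subgroup G} (hR : IsPGroup 2 R)
    (h : R ≤ normalizer ((S : Subgroup G) : Set G)) : R ≤ S := by
  have h1 : R ⊓ normalizer ((S : Subgroup G) : Set G) = R ⊓ S := IsPGroup.inf_normalizer_sylow hR S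
  rw [inf_eq_left.2 h] at h1
  exact inf_eq_left.1 h1.symm

/-- a 2-subgroup of `H` lies in an `H`-conjugate of a Sylow subgroup of `G` contained in `H`. -/
theorem sub_conj (H : Subgroup G) (S : Sylow 2 G) (hS : (S : Subgroup G) ≤ H) (P : Subgroup G)
    (hP : IsPGroup 2 P) (hPH : P ≤ H) : ∃ h ∈ H, P ≤ ((h • S : Sylow 2 G) : Subgroup G) := by
  have h1 : IsPGroup 2 (P.subgroupOf H) := hP.comap_subtype
  obtain ⟨Q, hQ⟩ := h1.exists_le_sylow
  obtain ⟨h, hh⟩ := MulAction.exists_smul_eq H (S.subtype hS) Q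
  refine ⟨h, h.2, fun x hx => ?_⟩
  have h2 : (⟨x, hPH hx⟩ : H) ∈ Q := hQ hx
  rw [← hh] at h2
  have h3 : (⟨x, hPH hx⟩ : H) ∈ ((h • S.subtype hS : Sylow 2 H) : Subgroup H) := h2
  rw [Sylow.coe_subgroup_smul, H1.SZ.mem_conj_smul] at h3
  show x ∈ (((h : G) • S : Sylow 2 G) : Subgroup G)
  rw [Sylow.coe_subgroup_smul, H1.SZ.mem_conj_smul]
  exact h3

theorem exists_central_invol (P : Subgroup G) (hP : IsPGroup 2 P) (hne : P ≠ ⊥) :
    ∃ z ∈ P, orderOf z = 2 ∧ ∀ x ∈ P, x * z = z * x := by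
  have : Fact (Nat.Prime 2) := ⟨Nat.prime_two⟩
  have : Nontrivial P := (Subgroup.nontrivial_iff_ne_bot P).2 hne
  have h1 : Nontrivial (center P) := hP.center_nontrivial
  have h2 : IsPGroup 2 (center P) := hP.to_subgroup _
  obtain ⟨n, hn⟩ := h2.exists_card_eq
  have h3 : 1 < Nat.card (center P) := Finite.one_lt_card
  have h4 : 2 ∣ Nat.card (center P) := by
    rw [hn] at h3 ⊢
    exact dvd_pow_self 2 (by rintro rfl; simp at h3)
  obtain ⟨z, hz⟩ := exists_prime_orderOf_dvd_card' 2 h4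
  refine ⟨z, (z : P).2, by rw [← hz, ← Subgroup.orderOf_coe (z : center P), ← Subgroup.orderOf_coe (z : P)], fun x hx => ?_⟩
  exact congrArg Subtype.val ((Subgroup.mem_center_iff.1 z.2) ⟨x, hx⟩)

theorem central_transfer (hC : CM G M) {S T : Sylow 2 G} {z : G} (hz : z ∈ S) (oz : orderOf z = 2)
    (hzS : ∀ s ∈ S, s * z = z * s) (hzT : z ∈ T) : ∀ t ∈ T, t * z = z * t := by
  have : Fact (Nat.Prime 2) := ⟨Nat.prime_two⟩
  have hSC : (S : Subgroup G) ≤ centralizer {z} := fun s hs =>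
    mem_centralizer_singleton_iff.2 (hzS s hs)
  obtain ⟨c, hc, hcT⟩ := sub_conj (centralizer {z}) S hSC ((T : Subgroup G) ⊓ centralizer {z})
    (T.isPGroup'.to_inf_left) inf_le_right
  have hcz : c * z = z * c := mem_centralizer_singleton_iff.1 hc
  have hz1 : z ∈ (c • S : Sylow 2 G) := mem_smul_of_comm hz hcz
  have hz2 : ∀ s ∈ (c • S : Sylow 2 G), s * z = z * s := by
    intro s hs
    rw [mem_smul_sylow] at hs
    have h1 := hzS _ hs
    have h2 : c * (c⁻¹ * s * c * z) * c⁻¹ = c * (z * (c⁻¹ * s * c)) * c⁻¹ := by rw [h1]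
    have h3 : c * (c⁻¹ * s * c * z) * c⁻¹ = s * (c * z * c⁻¹) := by group
    have h4 : c * (z * (c⁻¹ * s * c)) * c⁻¹ = (c * z * c⁻¹) * s := by group
    rw [h3, h4, hcz, mul_inv_cancel_right] at h2
    exact h2
  have hTne : (T : Subgroup G) ≠ ⊥ := by
    intro h
    have : z ∈ (T : Subgroup G) := hzT
    rw [h, mem_bot] at this
    rw [this, orderOf_one] at oz
    omega
  obtain ⟨b, hb, ob, hbT⟩ := exists_central_invol (T : Subgroup G) T.isPGroup' hTne
  have hbc : b ∈ (c • S : Sylow 2 G) := hcT ⟨hb, mem_centralizer_singleton_iff.2 (hbT z hzT).symm⟩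
  by_cases hbz : b = z
  · rw [← hbz]; exact hbT
  · have := uniq hC hbc hb hz1 hzT ob oz hbz
    rw [← this]; exact hz2

theorem isolated (hC : CM G M) {S : Sylow 2 G} {z : G} (hz : z ∈ S) (oz : orderOf z = 2)
    (hzN : ∀ n ∈ normalizer ((S : Subgroup G) : Set G), n * z = z * n) :
    ∀ g : G, g * z * g⁻¹ ∈ S → g * z * g⁻¹ = z := by
  have : Fact (Nat.Prime 2) := ⟨Nat.prime_two⟩
  intro g hg
  set z' := g * z * g⁻¹ with hz'
  have hzS : ∀ s ∈ S, s * z = z * s := fun s hs => hzN s (Subgroup.le_normalizer hs)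
  have oz' : orderOf z' = 2 := by rw [hz', ← MulAut.conj_apply, MulEquiv.orderOf_eq, oz]
  have h1 : z' ∈ (g • S : Sylow 2 G) := by
    rw [mem_smul_sylow, hz']
    have : g⁻¹ * (g * z * g⁻¹) * g = z := by group
    rw [this]; exact hz
  have h2 : ∀ s ∈ (g • S : Sylow 2 G), s * z' = z' * s := by
    intro s hs
    rw [mem_smul_sylow] at hs
    have h1 := hzS _ hs
    have h2 : g * (g⁻¹ * s * g * z) * g⁻¹ = g * (z * (g⁻¹ * s * g)) * g⁻¹ := by rw [h1]
    have h3 : g * (g⁻¹ * s * g * z) * g⁻¹ = s * (g * z * g⁻¹) := by group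
    have h4 : g * (z * (g⁻¹ * s * g)) * g⁻¹ = (g * z * g⁻¹) * s := by group
    rw [h3, h4] at h2
    exact h2
  have h3 := central_transfer hC h1 oz' h2 hg
  obtain ⟨c, hc, hcS⟩ := sub_conj (centralizer {z'}) (g • S) (fun s hs =>
    mem_centralizer_singleton_iff.2 (h2 s hs)) (S : Subgroup G) S.isPGroup' (fun s hs =>
    mem_centralizer_singleton_iff.2 (h3 s hs))
  have h4 : (S : Subgroup G) = ((c • g • S : Sylow 2 G) : Subgroup G) := by
    apply (S.is_maximal' (c • g • S : Sylow 2 G).isPGroup' hcS).symm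
  have h5 : (c * g) • S = S := by
    rw [mul_smul]
    exact (Sylow.ext h4).symm
  rw [Sylow.smul_eq_iff_mem_normalizer] at h5
  have h6 := hzN _ h5
  have hcz : c * z' = z' * c := mem_centralizer_singleton_iff.1 hc
  have h7 : c * z' = z * c := by
    calc c * z' = (c * g * z) * g⁻¹ := by rw [hz']; group
      _ = (z * (c * g)) * g⁻¹ := by rw [h6]
      _ = z * c := by group
  rw [hcz] at h7
  exact mul_right_cancel h7

theorem not_le_of_index_two (S : Sylow 2 G) (hM : M.index = 2) : ¬ (S : Subgroup G) ≤ M := by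
  have : Fact (Nat.Prime 2) := ⟨Nat.prime_two⟩
  intro h
  have h1 : M.index ∣ (S : Subgroup G).index := Subgroup.index_dvd_of_le h
  rw [hM] at h1
  exact S.not_dvd_index h1

theorem exists_outside [M.Normal] (hM : M.index = 2) (S : Sylow 2 G) (K : Subgroup G)
    (hK : K ≤ normalizer ((S : Subgroup G) : Set G)) (hodd : Odd (Nat.card K)) :
    ∃ u ∈ S, u ∉ M ∧ u ∈ centralizer (K : Set G) := by
  have : Fact (Nat.Prime 2) := ⟨Nat.prime_two⟩
  obtain ⟨s, hs, hsM⟩ := SetLike.not_le_iff_exists.1 (not_le_of_index_two (M := M) S hM)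
  have hKM : K ≤ M := by
    intro k hk
    have h1 : ∀ x : G, x * x ∈ M := fun x => by
      rw [← QuotientGroup.eq_one_iff, QuotientGroup.mk_mul, ← pow_two]
      have : (Nat.card (G ⧸ M)) = 2 := hM
      rw [← this]; exact pow_card_eq_one'
    have h2 : orderOf k ∣ Nat.card K := Subgroup.orderOf_dvd_natCard _ hk
    have h3 : Odd (orderOf k) := Odd.of_dvd_nat hodd h2
    obtain ⟨m, hm⟩ := h3
    have h4 : k = (k⁻¹ ^ m) * (k⁻¹ ^ m) := by
      rw [← pow_add, inv_pow, eq_inv_iff_mul_eq_one, ← pow_succ']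
      rw [show m + m + 1 = 2 * m + 1 by ring, ← hm, pow_orderOf_eq_one]
    rw [h4]; exact h1 _
  obtain ⟨c, hc, hcD⟩ := H1.Coprime.exists_fixed_in_coset K ((S : Subgroup G) ⊓ M)
    (H1.Coprime2.le_normalizer_inf hK (by rw [Subgroup.normalizer_eq_top]; exact le_top))
    (by
      obtain ⟨n, hn⟩ := (S.isPGroup'.to_inf_left (K := M)).exists_card_eq
      rw [hn]
      exact Nat.Coprime.pow_right n (Nat.coprime_two_right.2 hodd))
    (Or.inr (by
      have hp : IsPGroup 2 ((S : Subgroup G) ⊓ M : Subgroup G) := S.isPGroup'.to_inf_left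
      haveI := hp.isNilpotent
      infer_instance)) s (by
      intro a ha
      refine ⟨?_, ?_⟩
      · have h1 : a * s * a⁻¹ ∈ (S : Subgroup G) := (mem_normalizer_iff.1 (hK ha) s).1 hs
        have h2 := (S : Subgroup G).mul_mem ((S : Subgroup G).inv_mem hs) h1
        have h3 : s⁻¹ * a * s * a⁻¹ = s⁻¹ * (a * s * a⁻¹) := by group
        rw [h3]; exact h2
      · have h1 : s⁻¹ * a * s⁻¹⁻¹ ∈ M := ‹M.Normal›.conj_mem a (hKM ha) s⁻¹
        rw [inv_inv] at h1
        exact M.mul_mem h1 (M.inv_mem (hKM ha)))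
  refine ⟨c, ?_, ?_, hc⟩
  · have h1 := (S : Subgroup G).mul_mem hs hcD.1
    rw [mul_inv_cancel_left] at h1
    exact h1
  · intro h
    have h1 : s⁻¹ * c ∈ M := hcD.2
    have h2 := M.mul_mem h (M.inv_mem h1)
    have h3 : c * (s⁻¹ * c)⁻¹ = s := by group
    rw [h3] at h2
    exact hsM h2

end basic

end H68.CGroup
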