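import Cfsg.Agent.Lib.H68.CGroup
import Cfsg.Agent.Lib.H14.PBasic
import Cfsg.Agent.Lib.H11.DihedralAut

/-! TI Sylow 2-subgroups and maximal Sylow intersections. -/

set_option autoImplicit false
set_option linter.unusedSectionVars false
set_option linter.style.haveILetI false

namespace H68.CGroup

open Subgroup Cfsg
open scoped Pointwise

section TI

variable {Y : Type*} [Group Y] [Finite Y]

theorem ti_eq (hTI : ∀ Q1 Q2 : Sylow 2 Y, Q1 ≠ Q2 → (Q1 : Subgroup Y) ⊓ (Q2 : Subgroup Y) = ⊥)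
    {Q Q' : Sylow 2 Y} {s : Y} (h1 : s ∈ Q) (h2 : s ∈ Q') (hs : s ≠ 1) : Q = Q' := by
  by_contra h
  have h3 : s ∈ (Q : Subgroup Y) ⊓ (Q' : Subgroup Y) := ⟨h1, h2⟩
  rw [hTI Q Q' h, mem_bot] at h3
  exact hs h3

theorem ti_comm (hTI : ∀ Q1 Q2 : Sylow 2 Y, Q1 ≠ Q2 → (Q1 : Subgroup Y) ⊓ (Q2 : Subgroup Y) = ⊥)
    {Q : Sylow 2 Y} {s c : Y} (h1 : s ∈ Q) (hs : s ≠ 1) (hc : c * s = s * c) (oc : orderOf c = 2) :
    c ∈ Q := by
  have h2 := ti_eq hTI h1 (mem_smul_of_comm h1 hc) hs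
  have h3 : c ∈ normalizer ((Q : Subgroup Y) : Set Y) := Sylow.smul_eq_iff_mem_normalizer.1 h2.symm
  have h4 : IsPGroup 2 (zpowers c) := by
    apply IsPGroup.of_card (n := 1)
    rw [Nat.card_zpowers, oc, pow_one]
  have h5 : zpowers c ≤ normalizer ((Q : Subgroup Y) : Set Y) := by rwa [zpowers_le]
  exact two_le_normalizer h4 h5 (mem_zpowers c)

theorem ti_conj (hTI : ∀ Q1 Q2 : Sylow 2 Y, Q1 ≠ Q2 → (Q1 : Subgroup Y) ⊓ (Q2 : Subgroup Y) = ⊥)
    {Q Q' : Sylow 2 Y} (hne : Q' ≠ Q) {a t : Y} (ha : a ∈ Q) (ht : t ∈ Q') (oa : orderOf a = 2)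
    (ot : orderOf t = 2) : ∃ d : Y, d * a * d⁻¹ = t := by
  have ha2 := H5.Dihedral.mul_self oa
  have ht2 := H5.Dihedral.mul_self ot
  rcases Nat.even_or_odd (orderOf (a * t)) with he | ho
  · exfalso
    set n := orderOf (a * t) with hn
    obtain ⟨m, hm⟩ := he
    have hn0 : 0 < n := orderOf_pos _
    set c := (a * t) ^ m with hc
    have hc1 : c ≠ 1 := by
      intro h
      have := Nat.le_of_dvd (by omega) (orderOf_dvd_of_pow_eq_one h)
      omega
    have hc2 : c * c = 1 := by rw [hc, ← pow_add, ← hm, hn, pow_orderOf_eq_one]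
    have oc : orderOf c = 2 := H5.Dihedral.orderOf_eq_two hc2 hc1
    have hci : c⁻¹ = c := H5.Dihedral.inv_eq_self oc
    have h1 : c * a = a * c := by
      have h := H5.Dihedral.conj_zpow_left ha2 ht2 (m : ℤ)
      rw [zpow_neg, zpow_natCast, ← hc, hci] at h
      exact (mul_inv_eq_iff_eq_mul.1 h).symm
    have h2 : c * t = t * c := by
      have h := H5.Dihedral.conj_right ha2 ht2
      have h' : t * (a * t) ^ m * t⁻¹ = ((a * t)⁻¹) ^ m := by rw [← conj_pow, h]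
      rw [inv_pow, ← hc, hci] at h'
      exact (mul_inv_eq_iff_eq_mul.1 h').symm
    have h3 := ti_comm hTI ha (H5.Dihedral.ne_one oa) h1 oc
    have h4 := ti_comm hTI ht (H5.Dihedral.ne_one ot) h2 oc
    exact hne (ti_eq hTI h4 h3 hc1)
  · obtain ⟨d, -, hd⟩ := H5.Dihedral.conj_of_odd ha2 ht2 ho
    exact ⟨d, hd⟩

theorem ti_trans (hTI : ∀ Q1 Q2 : Sylow 2 Y, Q1 ≠ Q2 → (Q1 : Subgroup Y) ⊓ (Q2 : Subgroup Y) = ⊥)
    {Q Q' : Sylow 2 Y} (hne : Q' ≠ Q) {a b : Y} (ha : a ∈ Q) (hb : b ∈ Q) (oa : orderOf a = 2)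
    (ob : orderOf b = 2) : ∃ n ∈ normalizer ((Q : Subgroup Y) : Set Y), n * a * n⁻¹ = b := by
  have : Fact (Nat.Prime 2) := ⟨Nat.prime_two⟩
  have hQ' : (Q' : Subgroup Y) ≠ ⊥ := by
    intro h
    have h1 : Nat.card (Q' : Subgroup Y) = Nat.card (Q : Subgroup Y) := by
      rw [Q'.card_eq_multiplicity, Q.card_eq_multiplicity]
    rw [h, Subgroup.card_bot] at h1
    have h2 := Subgroup.card_eq_one.1 h1.symm
    have h3 : a ∈ (Q : Subgroup Y) := ha
    rw [h2, mem_bot] at h3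
    exact H5.Dihedral.ne_one oa h3
  obtain ⟨t, ht, ot, -⟩ := exists_central_invol (Q' : Subgroup Y) Q'.isPGroup' hQ'
  obtain ⟨d, hd⟩ := ti_conj hTI hne ha ht oa ot
  obtain ⟨e, he⟩ := ti_conj hTI hne hb ht ob ot
  have h1 : (e⁻¹ * d) * a * (e⁻¹ * d)⁻¹ = b := by
    have : (e⁻¹ * d) * a * (e⁻¹ * d)⁻¹ = e⁻¹ * (d * a * d⁻¹) * e := by group
    rw [this, hd, ← he]; group
  refine ⟨e⁻¹ * d, ?_, h1⟩
  have h2 : b ∈ ((e⁻¹ * d) • Q : Sylow 2 Y) := by
    rw [mem_smul_sylow, ← h1]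
    have : (e⁻¹ * d)⁻¹ * ((e⁻¹ * d) * a * (e⁻¹ * d)⁻¹) * (e⁻¹ * d) = a := by group
    rw [this]; exact ha
  exact Sylow.smul_eq_iff_mem_normalizer.1 (ti_eq hTI hb h2 (H5.Dihedral.ne_one ob)).symm

theorem ti_main (hTI : ∀ Q1 Q2 : Sylow 2 Y, Q1 ≠ Q2 → (Q1 : Subgroup Y) ⊓ (Q2 : Subgroup Y) = ⊥)
    {Q Q' : Sylow 2 Y} (hne : Q' ≠ Q) {a b : Y} (ha : a ∈ Q) (hb : b ∈ Q) (oa : orderOf a = 2)
    (ob : orderOf b = 2) (hab : a ≠ b) (K : Subgroup Y)
    (hK : normalizer ((Q : Subgroup Y) : Set Y) ≤ (Q : Subgroup Y) ⊔ K) {c : Y} (hc : c ∈ Q)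
    (hcK : c ∈ centralizer (K : Set Y)) : c = 1 := by
  have : Fact (Nat.Prime 2) := ⟨Nat.prime_two⟩
  by_contra hc1
  have hQ : (Q : Subgroup Y) ≠ ⊥ := by
    intro h
    have h3 : a ∈ (Q : Subgroup Y) := ha
    rw [h, mem_bot] at h3
    exact H5.Dihedral.ne_one oa h3
  obtain ⟨z, hz, oz, hzQ⟩ := exists_central_invol (Q : Subgroup Y) Q.isPGroup' hQ
  -- all involutions of `Q` are central
  have hcen : ∀ s ∈ Q, orderOf s = 2 → ∀ x ∈ Q, x * s = s * x := by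
    intro s hs os x hx
    obtain ⟨n, hn, hns⟩ := ti_trans hTI hne hz hs oz os
    have h1 : n⁻¹ * x * n ∈ (Q : Subgroup Y) := by
      have := (mem_normalizer_iff.1 (inv_mem hn) x).1 hx
      rwa [inv_inv] at this
    have h2 := hzQ _ h1
    have h3 : n * (n⁻¹ * x * n * z) * n⁻¹ = n * (z * (n⁻¹ * x * n)) * n⁻¹ := by rw [h2]
    have h4 : n * (n⁻¹ * x * n * z) * n⁻¹ = x * (n * z * n⁻¹) := by group
    have h5 : n * (z * (n⁻¹ * x * n)) * n⁻¹ = (n * z * n⁻¹) * x := by group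
    rwa [h4, h5, hns] at h3
  -- an involution in `⟨c⟩`
  have h1 : IsPGroup 2 (zpowers c) := Q.isPGroup'.to_le (by rwa [zpowers_le])
  have h2 : zpowers c ≠ ⊥ := by rwa [Ne, zpowers_eq_bot]
  obtain ⟨i, hi, oi, -⟩ := exists_central_invol (zpowers c) h1 h2
  have hiQ : i ∈ Q := by
    have : zpowers c ≤ (Q : Subgroup Y) := by rwa [zpowers_le]
    exact this hi
  have hiK : i ∈ centralizer (K : Set Y) := by
    have : zpowers c ≤ centralizer (K : Set Y) := by rwa [zpowers_le]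
    exact this hi
  have hiN : ∀ n ∈ normalizer ((Q : Subgroup Y) : Set Y), n * i * n⁻¹ = i := by
    intro n hn
    have h3 : (Q : Subgroup Y) ⊔ K ≤ centralizer {i} := by
      apply sup_le
      · intro x hx
        exact mem_centralizer_singleton_iff.2 (hcen i hiQ oi x hx)
      · intro x hx
        exact mem_centralizer_singleton_iff.2 (mem_centralizer_iff.1 hiK x hx)
    have h4 := mem_centralizer_singleton_iff.1 (h3 (hK hn))
    rw [h4, mul_inv_cancel_right]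
  obtain ⟨n, hn, hna⟩ := ti_trans hTI hne hiQ ha oi oa
  obtain ⟨m, hm, hmb⟩ := ti_trans hTI hne hiQ hb oi ob
  rw [hiN n hn] at hna
  rw [hiN m hm] at hmb
  exact hab (hna.symm.trans hmb)

end TI

section maxint

variable {G : Type*} [Group G] [Finite G]

/-- a complement to the Sylow subgroup inside a subgroup of its normalizer. -/
theorem exists_complement (S : Sylow 2 G) (L : Subgroup G)
    (hL : L ≤ normalizer ((S : Subgroup G) : Set G)) :
    ∃ K ≤ L, Odd (Nat.card K) ∧ ∀ x ∈ L, ∃ s ∈ S, ∃ k ∈ K, x = s * k := by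
  have : Fact (Nat.Prime 2) := ⟨Nat.prime_two⟩
  set N : Subgroup L := (S : Subgroup G).subgroupOf L with hN
  have hNn : N.Normal := by
    refine ⟨fun x hx g => ?_⟩
    exact (mem_normalizer_iff.1 (hL g.2) (x : G)).1 hx
  have hN2 : IsPGroup 2 N := S.isPGroup'.comap_subtype
  have hidx : ¬ 2 ∣ N.index := by
    obtain ⟨R⟩ := (Sylow.nonempty : Nonempty (Sylow 2 L))
    have h1 : (R : Subgroup L) ≤ N := by
      have h2 : IsPGroup 2 ((R : Subgroup L).map L.subtype) := R.isPGroup'.map _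
      have h3 : (R : Subgroup L).map L.subtype ≤ S :=
        two_le_normalizer h2 ((map_subtype_le _).trans hL)
      intro x hx
      exact h3 ⟨x, hx, rfl⟩
    have h2 := R.is_maximal' hN2 h1
    rw [h2]
    exact R.not_dvd_index
  obtain ⟨n, hn⟩ := hN2.exists_card_eq
  obtain ⟨K0, hK0⟩ := Subgroup.exists_right_complement'_of_coprime (N := N) (by
    rw [hn]
    exact Nat.Coprime.pow_left n ((Nat.Prime.coprime_iff_not_dvd Nat.prime_two).2 hidx))
  refine ⟨K0.map L.subtype, map_subtype_le _, ?_, ?_⟩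
  · rw [Subgroup.card_map_of_injective L.subtype_injective]
    have h1 : Nat.card K0 = N.index := hK0.symm.index_eq_card.symm
    rw [h1]
    exact Nat.not_even_iff_odd.1 (fun h => hidx h.two_dvd)
  · intro x hx
    obtain ⟨⟨⟨s, hs⟩, ⟨k, hk⟩⟩, hsk⟩ := hK0.2 ⟨x, hx⟩
    refine ⟨s, hs, k, ⟨k, hk, rfl⟩, ?_⟩
    exact (congrArg Subtype.val hsk).symm

theorem cyclic_two_centralized {D K : Subgroup G} (hD : IsPGroup 2 D) (hcyc : IsCyclic D)
    (hK : Odd (Nat.card K)) (hKD : K ≤ normalizer (D : Set G)) : K ≤ centralizer (D : Set G) := by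
  intro k hk
  set f := Subgroup.normalizerMonoidHom D with hf
  have h1 : f ⟨k, hKD hk⟩ = 1 := by
    apply H11.DihedralAut.aut_cyclic_eq_one hD
    apply Odd.of_dvd_nat hK
    refine (orderOf_map_dvd f _).trans ?_
    rw [← Subgroup.orderOf_coe]
    exact Subgroup.orderOf_dvd_natCard _ hk
  rw [mem_centralizer_iff]
  intro d hd
  have h2 := congrArg (fun e : MulAut D => ((e ⟨d, hd⟩ : D) : G)) h1
  have h3 : k * d * k⁻¹ = d := h2
  exact (mul_inv_eq_iff_eq_mul.1 h3).symm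

end maxint

end H68.CGroup
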