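import Cfsg.Agent.Lib.H68.CGroup2

/-! Maximal Sylow intersections. -/

set_option autoImplicit false
set_option linter.unusedSectionVars false
set_option linter.style.haveILetI false

namespace H68.CGroup

open Subgroup Cfsg
open scoped Pointwise

theorem caseA {G : Type*} [Group G] [Finite G] (S T : Sylow 2 G) (hST : S ≠ T)
    (hmax : ∀ S' T' : Sylow 2 G, S' ≠ T' → Nat.card ((S' : Subgroup G) ⊓ (T' : Subgroup G) : Subgroup G) ≤
      Nat.card ((S : Subgroup G) ⊓ (T : Subgroup G) : Subgroup G))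
    (D : Subgroup G) (hD : D = (S : Subgroup G) ⊓ (T : Subgroup G)) (hcyc : IsCyclic D) {a b : G}
    (haS : a ∈ S) (haN : a ∈ normalizer (D : Set G)) (haD : a ∉ D) (ha2 : a * a ∈ D)
    (hbS : b ∈ S) (hbN : b ∈ normalizer (D : Set G)) (hbD : b ∉ D) (hb2 : b * b ∈ D)
    (hab : a⁻¹ * b ∉ D) :
    ∃ K : Subgroup G, K ≤ normalizer ((S : Subgroup G) : Set G) ∧ Odd (Nat.card K) ∧
      ∀ c ∈ S, c ∈ centralizer (K : Set G) → c ∈ D := by
  have : Fact (Nat.Prime 2) := ⟨Nat.prime_two⟩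
  rw [← hD] at hmax
  set H : Subgroup G := normalizer (D : Set G) with hH
  have hDH : D ≤ H := Subgroup.le_normalizer
  set D' : Subgroup H := D.subgroupOf H with hD'
  have hD'n : D'.Normal := by
    refine ⟨fun x hx g => ?_⟩
    exact (mem_normalizer_iff.1 g.2 (x : G)).1 hx
  set π := QuotientGroup.mk' D' with hπ
  have hπs : Function.Surjective π := QuotientGroup.mk'_surjective D'
  have hπ1 : ∀ x : H, π x = 1 ↔ (x : G) ∈ D := by
    intro x
    exact (QuotientGroup.eq_one_iff x)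
  have hD2 : IsPGroup 2 D := by rw [hD]; exact S.isPGroup'.to_inf_left
  have hD'2 : IsPGroup 2 D' := hD2.comap_subtype
  have hDS : D ≤ S := hD.trans_le inf_le_left
  have hDT : D ≤ T := hD.trans_le inf_le_right
  -- uniqueness
  have huniq : ∀ (S' T' : Sylow 2 G) (X : Subgroup G), X ≤ S' → X ≤ T' → Nat.card D < Nat.card X → S' = T' := by
    intro S' T' X h1 h2 h3
    by_contra h
    have h4 := hmax S' T' h
    have h5 : Nat.card X ≤ Nat.card ((S' : Subgroup G) ⊓ (T' : Subgroup G) : Subgroup G) :=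
      Subgroup.card_le_of_le (le_inf h1 h2)
    omega
  -- preimages
  set pre : Subgroup (H ⧸ D') → Subgroup G := fun Q => (Q.comap π).map H.subtype with hpre
  have hmem : ∀ (Q : Subgroup (H ⧸ D')) (x : G), x ∈ pre Q ↔ ∃ h : x ∈ H, π ⟨x, h⟩ ∈ Q := by
    intro Q x
    constructor
    · rintro ⟨y, hy, rfl⟩
      exact ⟨y.2, hy⟩
    · rintro ⟨h, hx⟩
      exact ⟨⟨x, h⟩, hx, rfl⟩
  have hpre2 : ∀ Q : Subgroup (H ⧸ D'), IsPGroup 2 Q → IsPGroup 2 (pre Q) := by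
    intro Q hQ
    apply IsPGroup.map
    apply IsPGroup.comap_of_ker_isPGroup hQ
    rw [hπ, QuotientGroup.ker_mk']
    exact hD'2
  have hDpre : ∀ Q : Subgroup (H ⧸ D'), D ≤ pre Q := by
    intro Q x hx
    rw [hmem]
    exact ⟨hDH hx, by rw [(hπ1 ⟨x, hDH hx⟩).2 hx]; exact one_mem _⟩
  have hbar : ∀ (R : Subgroup G), IsPGroup 2 R → ∀ Q : Sylow 2 (H ⧸ D'),
      pre (Q : Subgroup (H ⧸ D')) ≤ R → (Q : Subgroup (H ⧸ D')) = (R.subgroupOf H).map π := by
    intro R hR Q hQ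
    have h1 : IsPGroup 2 ((R.subgroupOf H).map π) := (hR.comap_subtype).map π
    have h2 : (Q : Subgroup (H ⧸ D')) ≤ (R.subgroupOf H).map π := by
      intro y hy
      obtain ⟨x, rfl⟩ := hπs y
      exact ⟨x, hQ ((hmem _ _).2 ⟨x.2, hy⟩), rfl⟩
    exact (Q.is_maximal' h1 h2).symm
  have hTI : ∀ Q1 Q2 : Sylow 2 (H ⧸ D'), Q1 ≠ Q2 →
      (Q1 : Subgroup (H ⧸ D')) ⊓ (Q2 : Subgroup (H ⧸ D')) = ⊥ := by
    intro Q1 Q2 hne
    obtain ⟨S1, hS1⟩ := (hpre2 Q1 Q1.isPGroup').exists_le_sylow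
    obtain ⟨S2, hS2⟩ := (hpre2 Q2 Q2.isPGroup').exists_le_sylow
    have h12 : S1 ≠ S2 := by
      intro h
      apply hne
      apply Sylow.ext
      rw [hbar S1 S1.isPGroup' Q1 hS1, h, ← hbar S2 S2.isPGroup' Q2 hS2]
    have h3 := hmax S1 S2 h12
    have h4 : D ≤ (S1 : Subgroup G) ⊓ (S2 : Subgroup G) :=
      le_inf ((hDpre _).trans hS1) ((hDpre _).trans hS2)
    have h5 : D = (S1 : Subgroup G) ⊓ (S2 : Subgroup G) := Subgroup.eq_of_le_of_card_ge h4 h3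
    rw [eq_bot_iff]
    rintro y ⟨h6, h7⟩
    obtain ⟨x, rfl⟩ := hπs y
    rw [mem_bot, hπ1, h5]
    exact ⟨hS1 ((hmem _ _).2 ⟨x.2, h6⟩), hS2 ((hmem _ _).2 ⟨x.2, h7⟩)⟩
  -- the Sylow subgroups corresponding to `S` and `T`
  have hgrow : ∀ R : Sylow 2 G, D < (R : Subgroup G) →
      ∃ Q : Sylow 2 (H ⧸ D'), ∀ x : G, x ∈ pre (Q : Subgroup (H ⧸ D')) ↔ x ∈ R ∧ x ∈ H := by
    intro R hR
    have h1 : IsPGroup 2 (((R : Subgroup G).subgroupOf H).map π) := (R.isPGroup'.comap_subtype).map π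
    obtain ⟨Q, hQ⟩ := h1.exists_le_sylow
    obtain ⟨S1, hS1⟩ := (hpre2 Q Q.isPGroup').exists_le_sylow
    have h2 : (R : Subgroup G) ⊓ H ≤ pre (Q : Subgroup (H ⧸ D')) := by
      rintro x ⟨hx1, hx2⟩
      rw [hmem]
      exact ⟨hx2, hQ ⟨⟨x, hx2⟩, hx1, rfl⟩⟩
    have h3 : D < H ⊓ (R : Subgroup G) := H14.PBasic.lt_normalizer_inf R.isPGroup' hR
    have h4 : Nat.card D < Nat.card ((R : Subgroup G) ⊓ H : Subgroup G) := by
      rw [inf_comm]
      by_contra h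
      exact h3.ne (Subgroup.eq_of_le_of_card_ge h3.le (not_lt.1 h))
    have h5 : R = S1 := huniq R S1 _ inf_le_left (h2.trans hS1) h4
    refine ⟨Q, fun x => ⟨fun hx => ⟨?_, ?_⟩, fun hx => h2 ⟨hx.1, hx.2⟩⟩⟩
    · rw [h5]; exact hS1 hx
    · exact ((hmem _ _).1 hx).1
  have hDS' : D < (S : Subgroup G) := by
    refine lt_of_le_of_ne hDS (fun h => hST ?_)
    have h1 : (S : Subgroup G) ≤ T := h ▸ hDT
    exact Sylow.ext (S.is_maximal' T.isPGroup' h1).symm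
  have hDT' : D < (T : Subgroup G) := by
    refine lt_of_le_of_ne hDT (fun h => hST ?_)
    have h1 : (T : Subgroup G) ≤ S := h ▸ hDS
    exact Sylow.ext (T.is_maximal' S.isPGroup' h1)
  obtain ⟨Q, hQ⟩ := hgrow S hDS'
  obtain ⟨Q', hQ'⟩ := hgrow T hDT'
  have hQm : ∀ x : H, π x ∈ Q ↔ (x : G) ∈ S := by
    intro x
    have h1 := hQ x
    rw [hmem] at h1
    constructor
    · intro h; exact (h1.1 ⟨x.2, h⟩).1
    · intro h; exact (h1.2 ⟨h, x.2⟩).2
  have hQ'm : ∀ x : H, π x ∈ Q' ↔ (x : G) ∈ T := by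
    intro x
    have h1 := hQ' x
    rw [hmem] at h1
    constructor
    · intro h; exact (h1.1 ⟨x.2, h⟩).1
    · intro h; exact (h1.2 ⟨h, x.2⟩).2
  have hgS : D < H ⊓ (S : Subgroup G) := H14.PBasic.lt_normalizer_inf S.isPGroup' hDS'
  have hgcard : Nat.card D < Nat.card (H ⊓ (S : Subgroup G) : Subgroup G) := by
    by_contra h
    exact hgS.ne (Subgroup.eq_of_le_of_card_ge hgS.le (not_lt.1 h))
  have hne : Q' ≠ Q := by
    intro h
    obtain ⟨x, hx, hxD⟩ := SetLike.exists_of_lt hgS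
    apply hxD
    rw [hD]
    refine ⟨hx.2, ?_⟩
    have h1 : π ⟨x, hx.1⟩ ∈ Q := (hQm ⟨x, hx.1⟩).2 hx.2
    rw [← h] at h1
    exact (hQ'm _).1 h1
  -- the complement
  obtain ⟨K, hKle, hKodd, hK⟩ := exists_complement S (H ⊓ normalizer ((S : Subgroup G) : Set G)) inf_le_right
  have hKH : K ≤ H := hKle.trans inf_le_left
  have hKS : K ≤ normalizer ((S : Subgroup G) : Set G) := hKle.trans inf_le_right
  set K' : Subgroup (H ⧸ D') := (K.subgroupOf H).map π with hK'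
  have hNQ : normalizer ((Q : Subgroup (H ⧸ D')) : Set (H ⧸ D')) ≤ (Q : Subgroup (H ⧸ D')) ⊔ K' := by
    intro y hy
    obtain ⟨n, rfl⟩ := hπs y
    have h1 : (n : G) ∈ normalizer ((S : Subgroup G) : Set G) := by
      apply Sylow.smul_eq_iff_mem_normalizer.1
      symm
      apply huniq S ((n : G) • S) (H ⊓ (S : Subgroup G)) inf_le_right _ hgcard
      rintro x ⟨hxH, hxS⟩
      show x ∈ ((n : G) • S : Sylow 2 G)
      rw [mem_smul_sylow]
      have h2 : π ⟨x, hxH⟩ ∈ (Q : Subgroup (H ⧸ D')) := (hQm ⟨x, hxH⟩).2 hxS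
      have h3 := (mem_normalizer_iff.1 (inv_mem hy) (π ⟨x, hxH⟩)).1 h2
      rw [inv_inv, ← map_inv, ← map_mul, ← map_mul] at h3
      exact (hQm _).1 h3
    obtain ⟨s, hs, k, hk, hsk⟩ := hK n ⟨n.2, h1⟩
    have hsH : s ∈ H := by
      have : s = n * k⁻¹ := by rw [hsk]; group
      rw [this]; exact H.mul_mem n.2 (H.inv_mem (hKH hk))
    have h4 : π n = π ⟨s, hsH⟩ * π ⟨k, hKH hk⟩ := by
      rw [← map_mul]; congr 1; exact Subtype.ext hsk
    rw [h4]
    exact Subgroup.mul_mem_sup ((hQm ⟨s, hsH⟩).2 hs) ⟨⟨k, hKH hk⟩, hk, rfl⟩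
  refine ⟨K, hKS, hKodd, fun c hcS hcK => ?_⟩
  have key : ∀ x : G, x ∈ S → x ∈ H → x ∈ centralizer (K : Set G) → x ∈ D := by
    intro x hxS hxH hxK
    have h1 : π ⟨x, hxH⟩ = 1 := by
      apply ti_main hTI hne (a := π ⟨a, haN⟩) (b := π ⟨b, hbN⟩) ((hQm _).2 haS) ((hQm _).2 hbS) _ _ _ K' hNQ
        ((hQm _).2 hxS)
      · rw [mem_centralizer_iff]
        rintro _ ⟨k, hk, rfl⟩
        rw [← map_mul, ← map_mul]
        congr 1
        exact Subtype.ext (mem_centralizer_iff.1 hxK k hk)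
      · apply H5.Dihedral.orderOf_eq_two
        · rw [← map_mul, hπ1]; exact ha2
        · rw [Ne, hπ1]; exact haD
      · apply H5.Dihedral.orderOf_eq_two
        · rw [← map_mul, hπ1]; exact hb2
        · rw [Ne, hπ1]; exact hbD
      · intro h
        apply hab
        have h2 : π ((⟨a, haN⟩ : H)⁻¹ * ⟨b, hbN⟩) = 1 := by
          rw [map_mul, map_inv, h, inv_mul_cancel]
        rw [hπ1] at h2
        exact h2
    rwa [hπ1] at h1
  have hKD : K ≤ centralizer (D : Set G) := cyclic_two_centralized hD2 hcyc hKodd hKH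
  by_contra hcD
  set F : Subgroup G := (S : Subgroup G) ⊓ centralizer (K : Set G) with hF
  have hDF : D ≤ F := le_inf hDS (Subgroup.le_centralizer_iff.1 hKD)
  have hlt : D < F := lt_of_le_of_ne hDF (fun h => hcD (h ▸ ⟨hcS, hcK⟩))
  obtain ⟨x, hxF, hxD, hxH⟩ := H14.PBasic.exists_mem_normalizer_of_lt (S.isPGroup'.to_inf_left) hlt
  exact hxD (key x hxF.1 hxH hxF.2)

end H68.CGroup
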