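import Cfsg.Agent.Lib.H68.CGroup3

/-! Main theorem on groups with cyclic Sylow 2-intersections inside a normal subgroup of index two. -/

set_option autoImplicit false
set_option linter.unusedSectionVars false
set_option linter.style.haveILetI false

universe u

namespace H68.CGroup

open Subgroup Cfsg
open scoped Pointwise

section heredity

variable {G : Type*} [Group G] [Finite G] {M : Subgroup G}

theorem CM.quotient (hC : CM G M) (N : Subgroup G) [N.Normal] :
    CM (G ⧸ N) (M.map (QuotientGroup.mk' N)) := by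
  intro S' T' hST
  haveI : Fact (Nat.Prime 2) := ⟨Nat.prime_two⟩
  set f := QuotientGroup.mk' N with hf
  have hfs : Function.Surjective f := QuotientGroup.mk'_surjective N
  set D : Subgroup G := ((S' : Subgroup (G ⧸ N)) ⊓ (T' : Subgroup (G ⧸ N))).comap f with hD
  obtain ⟨X⟩ : Nonempty (Sylow 2 D) := inferInstance
  set Y : Subgroup G := (X : Subgroup D).map D.subtype with hY
  have hYp : IsPGroup 2 ↥Y := X.2.map _
  have himg : Y.map f = (S' : Subgroup (G ⧸ N)) ⊓ (T' : Subgroup (G ⧸ N)) := by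
    let g : D →* ↥((S' : Subgroup (G ⧸ N)) ⊓ (T' : Subgroup (G ⧸ N))) :=
      (f.comp D.subtype).codRestrict _ (fun x => x.2)
    have hgs : Function.Surjective g := by
      rintro ⟨y, hy⟩
      obtain ⟨x, rfl⟩ := hfs y
      exact ⟨⟨x, hy⟩, rfl⟩
    have hp : IsPGroup 2 ↥((S' : Subgroup (G ⧸ N)) ⊓ (T' : Subgroup (G ⧸ N))) :=
      S'.2.to_inf_left
    have h1 := H59.SylowQ.map_eq_top_of_isPGroup g hgs X hp
    have h2 : Y.map f = ((X : Subgroup D).map g).map
        ((S' : Subgroup (G ⧸ N)) ⊓ (T' : Subgroup (G ⧸ N))).subtype := by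
      rw [hY, Subgroup.map_map, Subgroup.map_map]
      rfl
    rw [h2, h1, ← MonoidHom.range_eq_map, Subgroup.range_subtype]
  obtain ⟨S, hYS, hS⟩ := H59.SylowQ.exists_sylow_map_eq f hfs S' Y hYp (himg.trans_le inf_le_left)
  obtain ⟨T, hYT, hT⟩ := H59.SylowQ.exists_sylow_map_eq f hfs T' Y hYp (himg.trans_le inf_le_right)
  have hne : S ≠ T := by
    intro h
    apply hST
    apply Sylow.ext
    rw [← hS, ← hT, h]
  have hle : Y ≤ (S : Subgroup G) ⊓ (T : Subgroup G) := le_inf hYS hYT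
  have hcyc := (hC S T hne).1
  have hYcyc : IsCyclic ↥Y :=
    isCyclic_of_injective (Subgroup.inclusion hle) (Subgroup.inclusion_injective hle)
  rw [← himg]
  let φ : Y →* ↥(Y.map f) := f.subgroupMap Y
  have hφ : Function.Surjective φ := f.subgroupMap_surjective Y
  exact ⟨isCyclic_of_surjective φ hφ, Subgroup.map_mono (hle.trans (hC S T hne).2)⟩

theorem CM.sub (hC : CM G M) (H : Subgroup G) : CM H (M.subgroupOf H) := by
  haveI : Fact (Nat.Prime 2) := ⟨Nat.prime_two⟩
  have key : ∀ Q : Sylow 2 H, ∃ S : Sylow 2 G, (Q : Subgroup H) = (S : Subgroup G).subgroupOf H := by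
    intro Q
    obtain ⟨S, hS⟩ := (Q.isPGroup'.map H.subtype).exists_le_sylow
    refine ⟨S, ?_⟩
    have h1 : IsPGroup 2 ((S : Subgroup G).subgroupOf H) := S.isPGroup'.comap_subtype
    exact (Q.is_maximal' h1 (fun x hx => hS ⟨x, hx, rfl⟩)).symm
  intro Q Q' hne
  obtain ⟨S, hS⟩ := key Q
  obtain ⟨T, hT⟩ := key Q'
  have hST : S ≠ T := by
    intro h
    apply hne
    apply Sylow.ext
    rw [hS, hT, h]
  have h1 : (Q : Subgroup H) ⊓ (Q' : Subgroup H) = ((S : Subgroup G) ⊓ (T : Subgroup G)).subgroupOf H := by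
    rw [hS, hT]; rfl
  refine ⟨?_, ?_⟩
  · rw [h1]
    haveI := (hC S T hST).1
    let φ : ↥(((S : Subgroup G) ⊓ (T : Subgroup G)).subgroupOf H) →* ↥((S : Subgroup G) ⊓ (T : Subgroup G)) :=
      (H.subtype.comp (Subgroup.subtype _)).codRestrict _ (fun x => x.2)
    apply isCyclic_of_injective φ
    intro x y hxy
    have h2 : ((x : H) : G) = ((y : H) : G) :=
      congrArg (fun z : ↥((S : Subgroup G) ⊓ (T : Subgroup G)) => (z : G)) hxy
    exact Subtype.ext (Subtype.ext h2)
  · rw [h1]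
    intro x hx
    exact (hC S T hST).2 hx

theorem odd_le (hM : M.index = 2) [M.Normal] {K : Subgroup G} (hodd : Odd (Nat.card K)) : K ≤ M := by
  intro k hk
  have h1 : ∀ x : G, x * x ∈ M := fun x => by
    rw [← QuotientGroup.eq_one_iff, QuotientGroup.mk_mul, ← pow_two]
    have : (Nat.card (G ⧸ M)) = 2 := hM
    rw [← this]; exact pow_card_eq_one'
  have h2 : orderOf k ∣ Nat.card K := Subgroup.orderOf_dvd_natCard _ hk
  have h3 : Odd (orderOf k) := Odd.of_dvd_nat hodd h2
  obtain ⟨m, hm⟩ := h3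
  have h4 : k = (k⁻¹ ^ m) * (k⁻¹ ^ m) := by
    rw [← pow_add, inv_pow, eq_inv_iff_mul_eq_one, ← pow_succ']
    rw [show m + m + 1 = 2 * m + 1 by ring, ← hm, pow_orderOf_eq_one]
  rw [h4]; exact h1 _

theorem index_map (hM : M.index = 2) {N : Subgroup G} [N.Normal] (hNM : N ≤ M) :
    (M.map (QuotientGroup.mk' N)).index = 2 := by
  rw [← hM]
  apply Subgroup.index_map_eq
  · exact QuotientGroup.mk'_surjective N
  · rw [QuotientGroup.ker_mk']; exact hNM

theorem index_sub (hM : M.index = 2) [M.Normal] (S : Sylow 2 G) {H : Subgroup G} (hSH : (S : Subgroup G) ≤ H) :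
    (M.subgroupOf H).index = 2 := by
  have h1 : M.relIndex H ∣ M.index := Subgroup.relIndex_dvd_index_of_normal M H
  rw [hM] at h1
  rcases (Nat.dvd_prime Nat.prime_two).1 h1 with h | h
  · exfalso
    rw [Subgroup.relIndex_eq_one] at h
    exact not_le_of_index_two S hM (hSH.trans h)
  · exact h

/-- Frattini-type argument. -/
theorem frattini (S : Sylow 2 G) (N : Subgroup G) [N.Normal]
    (h : normalizer (((S : Subgroup G).map (QuotientGroup.mk' N) : Subgroup (G ⧸ N)) : Set (G ⧸ N)) = ⊤) :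
    N ⊔ normalizer ((S : Subgroup G) : Set G) = ⊤ := by
  haveI : Fact (Nat.Prime 2) := ⟨Nat.prime_two⟩
  rw [eq_top_iff]
  intro g _
  have h1 : ((g • S : Sylow 2 G) : Subgroup G) ≤ N ⊔ (S : Subgroup G) := by
    intro x hx
    have h2 : g⁻¹ * x * g ∈ (S : Subgroup G) := mem_smul_sylow.1 hx
    have h3 : QuotientGroup.mk' N g ∈ normalizer (((S : Subgroup G).map (QuotientGroup.mk' N) : Subgroup (G ⧸ N)) : Set (G ⧸ N)) := by
      rw [h]; exact mem_top _
    have h4 := (mem_normalizer_iff.1 h3 (QuotientGroup.mk' N (g⁻¹ * x * g))).1 ⟨_, h2, rfl⟩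
    rw [← map_inv, ← map_mul, ← map_mul] at h4
    have h5 : g * (g⁻¹ * x * g) * g⁻¹ = x := by group
    rw [h5] at h4
    obtain ⟨s, hs, hsx⟩ := h4
    have h6 : x * s⁻¹ ∈ N := by
      rw [← QuotientGroup.eq_one_iff]
      have : QuotientGroup.mk' N (x * s⁻¹) = 1 := by rw [map_mul, map_inv, hsx, mul_inv_cancel]
      exact this
    have h7 : x = (x * s⁻¹) * s := by group
    rw [h7]
    exact Subgroup.mul_mem_sup h6 hs
  obtain ⟨y, hy, hgy⟩ := sub_conj (N ⊔ (S : Subgroup G)) S le_sup_right _ (g • S : Sylow 2 G).isPGroup' h1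
  rw [Subgroup.mem_sup_of_normal_left] at hy
  obtain ⟨n, hn, s, hs, rfl⟩ := hy
  have h2 : (g • S : Sylow 2 G) = (n * s) • S :=
    Sylow.ext ((g • S : Sylow 2 G).is_maximal' ((n * s) • S : Sylow 2 G).isPGroup' hgy).symm
  have h3 : s • S = S := Sylow.smul_eq_iff_mem_normalizer.2 (Subgroup.le_normalizer hs)
  rw [mul_smul, h3] at h2
  have h4 : (n⁻¹ * g) • S = S := by rw [mul_smul, h2, inv_smul_smul]
  have h5 : n⁻¹ * g ∈ normalizer ((S : Subgroup G) : Set G) := Sylow.smul_eq_iff_mem_normalizer.1 h4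
  have h6 : g = n * (n⁻¹ * g) := by group
  rw [h6]
  exact Subgroup.mul_mem_sup hn h5

end heredity

theorem mem_four {G : Type*} [Group G] {a b : G} (ha : a * a = 1) (hb : b * b = 1) (hab : a * b = b * a) {x : G}
    (hx : x ∈ closure ({a, b} : Set G)) : x = 1 ∨ x = a ∨ x = b ∨ x = a * b := by
  have hab2 : (a * b) * (a * b) = 1 := by
    calc (a * b) * (a * b) = a * (b * a) * b := by group
      _ = (a * a) * (b * b) := by rw [← hab]; group
      _ = 1 := by rw [ha, hb, one_mul]
  have hk : ∀ k : ℤ, (a * b) ^ k = 1 ∨ (a * b) ^ k = a * b := by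
    intro k
    rcases Int.even_or_odd k with ⟨m, hm⟩ | ⟨m, hm⟩
    · left; rw [hm, ← two_mul, zpow_mul, zpow_two, hab2, one_zpow]
    · right; rw [hm, zpow_add, zpow_mul, zpow_two, hab2, one_zpow, one_mul, zpow_one]
  rcases H5.Dihedral.mem_closure_pair ha hb hx with ⟨k, rfl⟩ | ⟨k, rfl⟩
  · rcases hk k with h | h <;> rw [h] <;> tauto
  · rcases hk k with h | h <;> rw [h]
    · right; left; rw [one_mul]
    · right; right; left
      calc a * b * a = a * (b * a) := by group
        _ = (a * a) * b := by rw [← hab]; group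
        _ = b := by rw [ha, one_mul]

theorem main_aux (n : ℕ) : ∀ (G : Type u) [Group G] [Finite G] (M : Subgroup G) [M.Normal],
    Nat.card G = n → M.index = 2 → CM G M → ∀ S : Sylow 2 G,
      pPrimeCore 2 G ⊔ normalizer ((S : Subgroup G) : Set G) = ⊤ := by
  haveI : Fact (Nat.Prime 2) := ⟨Nat.prime_two⟩
  induction n using Nat.strong_induction_on with
  | _ n ih =>
  intro G _ _ M _ hn hM hC S0
  by_contra hne
  have hN0 : normalizer ((S0 : Subgroup G) : Set G) ≠ ⊤ := fun h => hne (by rw [h, sup_top_eq])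
  -- step 1
  have hO : pPrimeCore 2 G = ⊥ := by
    by_contra hO
    apply hne
    have hNM : pPrimeCore 2 G ≤ M := odd_le hM (Nat.coprime_two_right.mp (H1.Cores.coprime_card_pPrimeCore 2))
    have hlt : Nat.card (G ⧸ pPrimeCore 2 G) < n := by
      have h1 := Subgroup.card_eq_card_quotient_mul_card_subgroup (pPrimeCore 2 G)
      have h2 : 1 < Nat.card (pPrimeCore 2 G) := (Subgroup.one_lt_card_iff_ne_bot _).2 hO
      have h3 : 0 < Nat.card (G ⧸ pPrimeCore 2 G) := Nat.card_pos
      rw [← hn, h1]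
      nlinarith
    have h1 := ih _ hlt (G ⧸ pPrimeCore 2 G) (M.map (QuotientGroup.mk' _)) rfl (index_map hM hNM)
      (hC.quotient _) (S0.mapSurjective (QuotientGroup.mk'_surjective _))
    rw [H1.Cores.pPrimeCore_quotient_pPrimeCore 2, bot_sup_eq] at h1
    exact frattini S0 _ h1
  -- step 2
  have hZ : ∀ z : G, orderOf z = 2 → ∃ g : G, g * z ≠ z * g := by
    intro z oz
    by_contra hz
    push Not at hz
    have hzc : zpowers z ≤ center G := by
      rw [zpowers_le, mem_center_iff]; exact hz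
    haveI : (zpowers z).Normal := H26.ZStarUse.normal_of_le hzc
    have hz2 : IsPGroup 2 (zpowers z) := by
      apply IsPGroup.of_card (n := 1)
      rw [Nat.card_zpowers, oz, pow_one]
    have hzS : ∀ R : Sylow 2 G, zpowers z ≤ R := fun R =>
      two_le_normalizer hz2 (hzc.trans (center_le_normalizer _))
    obtain ⟨T0, hT0⟩ : ∃ T0 : Sylow 2 G, T0 ≠ S0 := by
      by_contra h
      push Not at h
      apply hN0
      rw [eq_top_iff]
      intro g _
      exact Sylow.smul_eq_iff_mem_normalizer.1 (h (g • S0))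
    have hzM : zpowers z ≤ M := (le_inf (hzS T0) (hzS S0)).trans (hC T0 S0 hT0).2
    have hlt : Nat.card (G ⧸ zpowers z) < n := by
      have h1 := Subgroup.card_eq_card_quotient_mul_card_subgroup (zpowers z)
      rw [Nat.card_zpowers, oz] at h1
      have h3 : 0 < Nat.card (G ⧸ zpowers z) := Nat.card_pos
      omega
    have h1 := ih _ hlt (G ⧸ zpowers z) (M.map (QuotientGroup.mk' _)) rfl (index_map hM hzM)
      (hC.quotient _) (S0.mapSurjective (QuotientGroup.mk'_surjective _))
    rw [H26.ZStarUse.pPrimeCore_quotient_central hO (zpowers z) hzc hz2, bot_sup_eq] at h1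
    have h2 := frattini S0 _ h1
    have h3 : zpowers z ≤ normalizer ((S0 : Subgroup G) : Set G) := (hzS S0).trans Subgroup.le_normalizer
    rw [sup_eq_right.2 h3] at h2
    exact hN0 h2
  -- a maximal intersection
  obtain ⟨S, T, hST, hmax⟩ : ∃ S T : Sylow 2 G, S ≠ T ∧ ∀ S' T' : Sylow 2 G, S' ≠ T' →
      Nat.card ((S' : Subgroup G) ⊓ (T' : Subgroup G) : Subgroup G) ≤
      Nat.card ((S : Subgroup G) ⊓ (T : Subgroup G) : Subgroup G) := by
    obtain ⟨T0, hT0⟩ : ∃ T0 : Sylow 2 G, T0 ≠ S0 := by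
      by_contra h
      push Not at h
      apply hN0
      rw [eq_top_iff]
      intro g _
      exact Sylow.smul_eq_iff_mem_normalizer.1 (h (g • S0))
    haveI : Nonempty {p : Sylow 2 G × Sylow 2 G // p.1 ≠ p.2} := ⟨⟨(T0, S0), hT0⟩⟩
    obtain ⟨⟨⟨S, T⟩, hST⟩, hmax⟩ := Finite.exists_max (fun p : {p : Sylow 2 G × Sylow 2 G // p.1 ≠ p.2} =>
      Nat.card ((p.1.1 : Subgroup G) ⊓ (p.1.2 : Subgroup G) : Subgroup G))
    exact ⟨S, T, hST, fun S' T' h => hmax ⟨(S', T'), h⟩⟩
  set D : Subgroup G := (S : Subgroup G) ⊓ (T : Subgroup G) with hD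
  have hDM : D ≤ M := (hC S T hST).2
  have hDcyc : IsCyclic D := (hC S T hST).1
  -- the complement
  obtain ⟨K, hKN, hKodd, hKm⟩ := exists_complement S (normalizer ((S : Subgroup G) : Set G)) le_rfl
  have hfix : ∀ z ∈ S, orderOf z = 2 → (∀ s ∈ S, s * z = z * s) → (∀ k ∈ K, k * z = z * k) → False := by
    intro z hz oz hzS hzK
    have hzN : ∀ m ∈ normalizer ((S : Subgroup G) : Set G), m * z = z * m := by
      intro m hm
      obtain ⟨s, hs, k, hk, rfl⟩ := hKm m hm
      calc s * k * z = s * (k * z) := by group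
        _ = (s * z) * k := by rw [hzK k hk]; group
        _ = z * (s * k) := by rw [hzS s hs]; group
    obtain ⟨g, hg⟩ := hZ z oz
    apply hg
    have h1 := H5.ZStar.sylow_form S z oz (isolated hC hz oz hzN) g
    rw [hO, mem_bot] at h1
    have h2 : z * g = g * z := by
      have h3 : z * g * z⁻¹ * g⁻¹ * (g * z) = g * z := by rw [h1, one_mul]
      have h4 : z * g * z⁻¹ * g⁻¹ * (g * z) = z * g := by group
      rw [h4] at h3; exact h3
    exact h2.symm
  -- case A
  have hB : ∀ a b : G, a ∈ S → a ∈ normalizer (D : Set G) → a ∉ D → a * a ∈ D → b ∈ S →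
      b ∈ normalizer (D : Set G) → b ∉ D → b * b ∈ D → a⁻¹ * b ∈ D := by
    intro a b h1 h2 h3 h4 h5 h6 h7 h8
    by_contra h9
    obtain ⟨K1, hK1, hK1o, hK1c⟩ := caseA S T hST hmax D rfl hDcyc h1 h2 h3 h4 h5 h6 h7 h8 h9
    obtain ⟨v, hv, hvM, hvK⟩ := exists_outside hM S K1 hK1 hK1o
    exact hvM (hDM (hK1c v hv hvK))
  have hSne : (S : Subgroup G) ≠ ⊥ := by
    intro h
    apply not_le_of_index_two S hM
    rw [h]; exact bot_le
  obtain ⟨z1, hz1, oz1, hz1S⟩ := exists_central_invol (S : Subgroup G) S.isPGroup' hSne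
  obtain ⟨z2, hz2, oz2, hz2S, hz12⟩ : ∃ z2 ∈ S, orderOf z2 = 2 ∧ (∀ s ∈ S, s * z2 = z2 * s) ∧ z1 ≠ z2 := by
    by_contra h
    push Not at h
    apply hfix z1 hz1 oz1 hz1S
    intro k hk
    have h1 : k * z1 * k⁻¹ ∈ (S : Subgroup G) := (mem_normalizer_iff.1 (hKN hk) z1).1 hz1
    have h2 := h (k * z1 * k⁻¹) h1 (by rw [H5.Dihedral.orderOf_conj, oz1]) (by
      intro s hs
      have h3 : k⁻¹ * s * k ∈ (S : Subgroup G) := by
        have := (mem_normalizer_iff.1 (inv_mem (hKN hk)) s).1 hs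
        rwa [inv_inv] at this
      have h4 := hz1S _ h3
      calc s * (k * z1 * k⁻¹) = k * (k⁻¹ * s * k * z1) * k⁻¹ := by group
        _ = k * (z1 * (k⁻¹ * s * k)) * k⁻¹ := by rw [h4]
        _ = k * z1 * k⁻¹ * s := by group)
    exact (mul_inv_eq_iff_eq_mul.1 h2.symm)
  have hcN : ∀ z : G, (∀ s ∈ S, s * z = z * s) → z ∈ normalizer (D : Set G) := by
    intro z hz
    have : z ∈ centralizer (D : Set G) := mem_centralizer_iff.2 (fun d hd => hz d hd.1)
    exact Subgroup.centralizer_le_normalizer _ this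
  have hz11 := H5.Dihedral.mul_self oz1
  have hz22 := H5.Dihedral.mul_self oz2
  obtain ⟨x, y, hx, hy, ox, oy, hxS, hyS, hxy, hxD⟩ : ∃ x y : G, x ∈ S ∧ y ∈ S ∧ orderOf x = 2 ∧ orderOf y = 2 ∧
      (∀ s ∈ S, s * x = x * s) ∧ (∀ s ∈ S, s * y = y * s) ∧ x ≠ y ∧ x ∈ D := by
    by_cases h1 : z1 ∈ D
    · exact ⟨z1, z2, hz1, hz2, oz1, oz2, hz1S, hz2S, hz12, h1⟩
    by_cases h2 : z2 ∈ D
    · exact ⟨z2, z1, hz2, hz1, oz2, oz1, hz2S, hz1S, hz12.symm, h2⟩
    have h3 := hB z1 z2 hz1 (hcN _ hz1S) h1 (by rw [hz11]; exact one_mem _) hz2 (hcN _ hz2S) h2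
      (by rw [hz22]; exact one_mem _)
    rw [H5.Dihedral.inv_eq_self oz1] at h3
    have hc : z1 * z2 = z2 * z1 := hz2S z1 hz1
    refine ⟨z1 * z2, z1, (S : Subgroup G).mul_mem hz1 hz2, hz1, ?_, oz1, ?_, hz1S, ?_, h3⟩
    · apply H5.Dihedral.orderOf_eq_two
      · calc z1 * z2 * (z1 * z2) = z1 * (z2 * z1) * z2 := by group
          _ = (z1 * z1) * (z2 * z2) := by rw [← hc]; group
          _ = 1 := by rw [hz11, hz22, one_mul]
      · intro h
        apply hz12
        rw [mul_eq_one_iff_eq_inv, H5.Dihedral.inv_eq_self oz2] at h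
        exact h
    · intro s hs
      calc s * (z1 * z2) = (s * z1) * z2 := by group
        _ = z1 * (s * z2) := by rw [hz1S s hs]; group
        _ = z1 * z2 * s := by rw [hz2S s hs]; group
    · intro h
      exact H5.Dihedral.ne_one oz2 (mul_eq_left.1 h)
  have hxT : ∀ t ∈ T, t * x = x * t := central_transfer hC hx ox hxS hxD.2
  -- the involution centralized by `K`
  obtain ⟨v, hv, hvM, hvK⟩ := exists_outside hM S K hKN hKodd
  have hv1 : zpowers v ≠ ⊥ := by
    rw [Ne, zpowers_eq_bot]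
    rintro rfl
    exact hvM (one_mem _)
  have hvS : zpowers v ≤ (S : Subgroup G) := by rw [zpowers_le]; exact hv
  obtain ⟨w, hw, ow, -⟩ := exists_central_invol (zpowers v) (S.isPGroup'.to_le hvS) hv1
  have hwS : w ∈ S := hvS hw
  have hwK : ∀ k ∈ K, k * w = w * k := by
    have : zpowers v ≤ centralizer (K : Set G) := by rwa [zpowers_le]
    exact mem_centralizer_iff.1 (this hw)
  have hwn : ¬ ∀ s ∈ S, s * w = w * s := fun h => hfix w hwS ow h hwK
  have hwx : w ≠ x := fun h => hwn (h ▸ hxS)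
  have hwy : w ≠ y := fun h => hwn (h ▸ hyS)
  have hww := H5.Dihedral.mul_self ow
  have hyy := H5.Dihedral.mul_self oy
  have hxx := H5.Dihedral.mul_self ox
  have hwyc : w * y = y * w := hyS w hwS
  have hwyx : w * y ≠ x := by
    intro h
    apply hwn
    have h1 : w = x * y := by
      rw [← h, mul_assoc, hyy, mul_one]
    intro s hs
    rw [h1]
    calc s * (x * y) = (s * x) * y := by group
      _ = x * (s * y) := by rw [hxS s hs]; group
      _ = x * y * s := by rw [hyS s hs]; group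
  have owy : orderOf (w * y) = 2 := by
    apply H5.Dihedral.orderOf_eq_two
    · calc w * y * (w * y) = w * (y * w) * y := by group
        _ = (w * w) * (y * y) := by rw [← hwyc]; group
        _ = 1 := by rw [hww, hyy, one_mul]
    · intro h
      rw [mul_eq_one_iff_eq_inv, H5.Dihedral.inv_eq_self oy] at h
      exact hwy h
  -- the centralizer of `x`
  set H : Subgroup G := centralizer {x} with hH
  have hSH : (S : Subgroup G) ≤ H := fun s hs => mem_centralizer_singleton_iff.2 (hxS s hs)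
  have hTH : (T : Subgroup G) ≤ H := fun s hs => mem_centralizer_singleton_iff.2 (hxT s hs)
  have hHlt : Nat.card H < n := by
    obtain ⟨g, hg⟩ := hZ x ox
    have h1 : H ≠ ⊤ := by
      intro h
      apply hg
      have : g ∈ H := by rw [h]; exact mem_top _
      exact mem_centralizer_singleton_iff.1 this
    rw [← hn]
    exact lt_of_le_of_ne (Subgroup.card_le_card_group H) (fun h => h1 (Subgroup.eq_top_of_card_eq H h))
  have h1 := ih _ hHlt H (M.subgroupOf H) rfl (index_sub hM S hSH) (hC.sub H) (S.subtype hSH)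
  -- the odd core of the centralizer normalizes `S`
  set O : Subgroup G := (pPrimeCore 2 H).map H.subtype with hOdef
  have hOH : O ≤ H := map_subtype_le _
  have hSO : (S : Subgroup G) ≤ normalizer (O : Set G) := by
    apply H1.Coprime.le_normalizer_of_conj_mem
    rintro a ha _ ⟨k, hk, rfl⟩
    have hcn : (pPrimeCore 2 H).Normal := inferInstance
    exact ⟨⟨a, hSH ha⟩ * k * ⟨a, hSH ha⟩⁻¹, hcn.conj_mem k hk _, rfl⟩
  have hOodd : Odd (Nat.card O) := by
    rw [hOdef, Subgroup.card_map_of_injective H.subtype_injective]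
    exact Nat.coprime_two_right.mp (H1.Cores.coprime_card_pPrimeCore 2)
  set A : Subgroup G := closure {w, y} with hA
  have hAmem : ∀ a ∈ A, a = 1 ∨ a = w ∨ a = y ∨ a = w * y := fun a ha => mem_four hww hyy hwyc ha
  have hAS : A ≤ S := by
    rw [hA, closure_le]
    rintro a (rfl | rfl)
    · exact hwS
    · exact hy
  have hAcomm : IsMulCommutative A := by
    apply Subgroup.isMulCommutative_closure
    rintro a (rfl | rfl) b (rfl | rfl)
    · rfl
    · exact hwyc
    · exact hwyc.symm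
    · rfl
  have hAnc : ¬ IsCyclic A := by
    intro h
    exact hwy (cyclic_invol h (subset_closure (by simp)) (subset_closure (by simp)) ow oy)
  have hAcop : (Nat.card A).Coprime (Nat.card O) := by
    have h2 : IsPGroup 2 A := S.isPGroup'.to_le hAS
    obtain ⟨m, hm⟩ := h2.exists_card_eq
    rw [hm]
    exact Nat.Coprime.pow_left m (Nat.coprime_two_left.2 hOodd)
  have hgen := H2.GenCent.main A O hAcomm hAnc (hAS.trans hSO) hAcop
  have hON : O ≤ normalizer ((S : Subgroup G) : Set G) := by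
    rw [← hgen]
    apply iSup₂_le
    rintro a ⟨ha, ha1⟩ g ⟨hg, hga⟩
    have hgx : g * x = x * g := mem_centralizer_singleton_iff.1 (hOH hg)
    have hga' : g * a = a * g := mem_centralizer_singleton_iff.1 hga
    have hax : orderOf a = 2 ∧ a ≠ x := by
      rcases hAmem a ha with h | h | h | h
      · exact absurd h ha1
      · rw [h]; exact ⟨ow, hwx⟩
      · rw [h]; exact ⟨oy, hxy.symm⟩
      · rw [h]; exact ⟨owy, hwyx⟩
    exact mem_norm hC (hAS ha) hx hax.1 ox hax.2 hga' hgx
  have hHN : H ≤ normalizer ((S : Subgroup G) : Set G) := by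
    intro g hg
    have h2 : (⟨g, hg⟩ : H) ∈ pPrimeCore 2 H ⊔ normalizer ((S.subtype hSH : Subgroup H) : Set H) := by
      rw [h1]; exact mem_top _
    rw [Subgroup.mem_sup_of_normal_left] at h2
    obtain ⟨o, ho, m, hm, hom⟩ := h2
    have h3 : (m : G) ∈ normalizer ((S : Subgroup G) : Set G) := by
      rw [mem_normalizer_iff]
      intro s
      constructor
      · intro hs
        exact (mem_normalizer_iff.1 hm ⟨s, hSH hs⟩).1 hs
      · intro hs
        have hsH : s ∈ H := by
          have h4 := hSH hs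
          have h5 := H.mul_mem (H.mul_mem (H.inv_mem m.2) h4) m.2
          have h6 : (m : G)⁻¹ * (m * s * (m : G)⁻¹) * m = s := by group
          rwa [h6] at h5
        exact (mem_normalizer_iff.1 hm ⟨s, hsH⟩).2 hs
    have h4 : g = o * m := (congrArg Subtype.val hom).symm
    rw [h4]
    exact Subgroup.mul_mem _ (hON ⟨o, ho, rfl⟩) h3
  have hTS : (T : Subgroup G) ≤ S := two_le_normalizer T.isPGroup' (hTH.trans hHN)
  exact hST (Sylow.ext (T.is_maximal' S.isPGroup' hTS))

theorem main {G : Type u} [Group G] [Finite G] (M : Subgroup G) [M.Normal] (hM : M.index = 2) (hC : CM G M)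
    (S : Sylow 2 G) : pPrimeCore 2 G ⊔ normalizer ((S : Subgroup G) : Set G) = ⊤ :=
  main_aux _ G M rfl hM hC S

end H68.CGroup
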