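import Cfsg.Agent.Lib.H68.CGroup4
import Cfsg.Agent.Lib.H1.Solv

/-! The solvable radical of a nonsolvable group with cyclic Sylow 2-intersections. -/

set_option autoImplicit false
set_option linter.unusedSectionVars false
set_option linter.style.haveILetI false

universe u

namespace H68.CGroup

open Subgroup Cfsg
open scoped Pointwise

theorem cyclic_radical {G : Type u} [Group G] [Finite G]
    (hC : ∀ S T : Sylow 2 G, S ≠ T → IsCyclic ↥((S : Subgroup G) ⊓ (T : Subgroup G)))
    (hO : pPrimeCore 2 G = ⊥) (hns : ∀ S : Sylow 2 G, ¬ (S : Subgroup G).Normal)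
    (N : Subgroup G) [N.Normal] (hN : Group.IsSolvable N) :
    IsCyclic N ∧ IsPGroup 2 N ∧ N ≤ center G := by
  haveI : Fact (Nat.Prime 2) := ⟨Nat.prime_two⟩
  have hN0 : ∀ S : Sylow 2 G, normalizer ((S : Subgroup G) : Set G) ≠ ⊤ := fun S h =>
    hns S (Subgroup.normalizer_eq_top_iff.1 h)
  obtain ⟨S0⟩ := (Sylow.nonempty : Nonempty (Sylow 2 G))
  obtain ⟨T0, hT0⟩ : ∃ T0 : Sylow 2 G, T0 ≠ S0 := by
    by_contra h
    push Not at h
    apply hN0 S0
    rw [eq_top_iff]
    intro g _
    exact Sylow.smul_eq_iff_mem_normalizer.1 (h (g • S0))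
  set V := pCore 2 G with hV
  have hV2 : IsPGroup 2 V := H1.Cores.isPGroup_pCore 2
  have hVn : V.Normal := inferInstance
  have hVS : ∀ S : Sylow 2 G, V ≤ S := fun S => H1.Cores.pCore_le_sylow S
  have hcyc_le : ∀ {A B : Subgroup G}, A ≤ B → IsCyclic B → IsCyclic A := by
    intro A B hAB hB
    exact isCyclic_of_injective (Subgroup.inclusion hAB) (Subgroup.inclusion_injective hAB)
  have hVc : IsCyclic V := hcyc_le (le_inf (hVS T0) (hVS S0)) (hC T0 S0 hT0)
  -- `V` is central
  have hVZ : V ≤ center G := by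
    by_contra hnc
    set φ : G →* MulAut V := MulAut.conjNormal with hφ
    have hR2 : IsPGroup 2 φ.range := by
      have h1 : IsPGroup 2 (MulAut V) := by
        obtain ⟨n, hn⟩ := hV2.exists_card_eq
        rcases Nat.eq_zero_or_pos n with h | h
        · have h2 : Nat.card (MulAut V) = 1 := by
            rw [IsCyclic.card_mulAut, hn, h, pow_zero, Nat.totient_one]
          exact IsPGroup.of_card (n := 0) (by rw [h2, pow_zero])
        · apply IsPGroup.of_card (n := n - 1)
          rw [IsCyclic.card_mulAut, hn, Nat.totient_prime_pow Nat.prime_two h]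
          simp
      exact h1.to_subgroup _
    have hRne : φ.range ≠ ⊥ := by
      intro h
      apply hnc
      intro v hv
      rw [mem_center_iff]
      intro g
      have h1 : φ g = 1 := by
        have : φ g ∈ φ.range := ⟨g, rfl⟩
        rw [h, mem_bot] at this
        exact this
      have h2 := congrArg (fun e : MulAut V => ((e ⟨v, hv⟩ : V) : G)) h1
      have h3 : g * v * g⁻¹ = v := h2
      exact mul_inv_eq_iff_eq_mul.1 h3
    obtain ⟨n, hn⟩ := hR2.exists_card_eq
    have hn0 : n ≠ 0 := by
      rintro rfl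
      apply hRne
      rw [pow_zero] at hn
      exact Subgroup.card_eq_one.1 hn
    obtain ⟨W, hW⟩ := Sylow.exists_subgroup_card_pow_prime (G := φ.range) (p := 2) (n := n - 1)
      (by rw [hn]; exact pow_dvd_pow 2 (Nat.sub_le n 1))
    have hWi : W.index = 2 := by
      have h1 := Subgroup.card_mul_index W
      rw [hW, hn] at h1
      have h2 : 2 ^ n = 2 ^ (n - 1) * 2 := by
        rw [← pow_succ]; congr 1; omega
      rw [h2] at h1
      exact Nat.eq_of_mul_eq_mul_left (by positivity) h1
    have hWn : W.Normal := Subgroup.normal_of_index_eq_two hWi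
    set M : Subgroup G := W.comap φ.rangeRestrict with hM
    have hMn : M.Normal := hWn.comap _
    have hMi : M.index = 2 := by
      rw [hM, Subgroup.index_comap_of_surjective _ φ.rangeRestrict_surjective, hWi]
    have hCM : CM G M := by
      intro S T hST
      refine ⟨hC S T hST, ?_⟩
      haveI := hC S T hST
      intro x hx
      have h1 : φ x = 1 := by
        ext ⟨v, hv⟩
        have h2 : v ∈ (S : Subgroup G) ⊓ (T : Subgroup G) := ⟨hVS S hv, hVS T hv⟩
        have hcm : IsMulCommutative ↥((S : Subgroup G) ⊓ (T : Subgroup G)) := IsCyclic.isMulCommutative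
        have h3 := congrArg Subtype.val (hcm.is_comm.comm (⟨x, hx⟩ : ↥((S : Subgroup G) ⊓ (T : Subgroup G))) ⟨v, h2⟩)
        have h4 : x * v = v * x := h3
        show x * v * x⁻¹ = v
        rw [h4, mul_inv_cancel_right]
      show φ.rangeRestrict x ∈ W
      have h5 : φ.rangeRestrict x = 1 := Subtype.ext h1
      rw [h5]; exact one_mem _
    have h1 := main M hMi hCM S0
    rw [hO, bot_sup_eq] at h1
    exact hN0 S0 h1
  -- `N` is a 2-group
  set W := pCore 2 N with hW
  have hON : pPrimeCore 2 N = ⊥ := by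
    have h1 := H1.Cores.map_subtype_pPrimeCore 2 N
    rw [hO, inf_comm, bot_inf_eq] at h1
    rw [← Subgroup.map_eq_bot_iff_of_injective _ N.subtype_injective]
    exact h1
  have hWc := H1.Solv.centralizer_pCore_le hN 2 hON
  have hW2 : IsPGroup 2 W := H1.Cores.isPGroup_pCore 2
  have hWV : W.map N.subtype ≤ V := by
    have h1 := H1.Cores.map_subtype_pCore 2 N
    rw [h1]
    first | exact inf_le_left | exact inf_le_right
  have hWcyc : IsCyclic W := by
    have h1 : IsCyclic (W.map N.subtype) := hcyc_le hWV hVc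
    exact isCyclic_of_injective (N.subtype.subgroupMap W) (by
      intro x y hxy
      have h2 : ((x : N) : G) = ((y : N) : G) := congrArg (fun z : ↥(W.map N.subtype) => (z : G)) hxy
      exact Subtype.ext (Subtype.ext h2))
  have hN2 : IsPGroup 2 N := by
    apply IsPGroup.of_card (n := (Nat.card N).primeFactorsList.length)
    apply Nat.eq_prime_pow_of_unique_prime_dvd Nat.card_pos.ne'
    intro q hq hqN
    by_contra hq2
    haveI : Fact q.Prime := ⟨hq⟩
    obtain ⟨k, hk⟩ := exists_prime_orderOf_dvd_card' q hqN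
    have hodd : Odd (Nat.card (zpowers k)) := by
      rw [Nat.card_zpowers, hk]; exact hq.odd_of_ne_two hq2
    have h1 := cyclic_two_centralized hW2 hWcyc hodd (by
      rw [Subgroup.normalizer_eq_top]; exact le_top)
    have h2 : k ∈ W := hWc (h1 (mem_zpowers k))
    obtain ⟨m, hm⟩ := hW2.exists_card_eq
    have h3 : orderOf k ∣ Nat.card W := Subgroup.orderOf_dvd_natCard _ h2
    rw [hk, hm] at h3
    exact hq2 ((Nat.prime_dvd_prime_iff_eq hq Nat.prime_two).1 (hq.dvd_of_dvd_pow h3))
  have hNV : N ≤ V := H1.Cores.le_pCore inferInstance hN2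
  exact ⟨hcyc_le hNV hVc, hN2, hNV.trans hVZ⟩

theorem radical (FT : ∀ (H : Type u) [Group H] [Finite H], Odd (Nat.card H) → Group.IsSolvable H)
    {G : Type u} [Group G] [Finite G] (hns : ¬ Group.IsSolvable G)
    (hC : ∀ S T : Sylow 2 G, S ≠ T → IsCyclic ↥((S : Subgroup G) ⊓ (T : Subgroup G)))
    (N : Subgroup G) [N.Normal] (hN : Group.IsSolvable ↥N) :
    IsCyclic ↥(N.map (QuotientGroup.mk' (Cfsg.oddCore G))) ∧ IsPGroup 2 ↥(N.map (QuotientGroup.mk' (Cfsg.oddCore G))) ∧
      N.map (QuotientGroup.mk' (Cfsg.oddCore G)) ≤ Subgroup.center (G ⧸ Cfsg.oddCore G) := by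
  haveI : Fact (Nat.Prime 2) := ⟨Nat.prime_two⟩
  have hCt : CM G (⊤ : Subgroup G) := fun S T h => ⟨hC S T h, le_top⟩
  have hCq : CM (G ⧸ oddCore G) _ := hCt.quotient (oddCore G)
  haveI : (N.map (QuotientGroup.mk' (Cfsg.oddCore G))).Normal :=
    Subgroup.Normal.map inferInstance _ (QuotientGroup.mk'_surjective _)
  apply cyclic_radical (fun S T h => (hCq S T h).1) (H1.Cores.pPrimeCore_quotient_pPrimeCore 2)
  · intro S hS
    apply hns
    have h1 : Group.IsSolvable (oddCore G) :=
      FT _ (Nat.coprime_two_right.mp (H1.Cores.coprime_card_pPrimeCore 2))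
    have h2 : Group.IsSolvable (S : Subgroup (G ⧸ oddCore G)) := by
      haveI := S.isPGroup'.isNilpotent
      infer_instance
    have h3 : Group.IsSolvable ((G ⧸ oddCore G) ⧸ (S : Subgroup (G ⧸ oddCore G))) := by
      apply FT
      have h4 : ¬ 2 ∣ Nat.card ((G ⧸ oddCore G) ⧸ (S : Subgroup (G ⧸ oddCore G))) := S.not_dvd_index
      exact Nat.not_even_iff_odd.1 (fun h => h4 h.two_dvd)
    have h5 : Group.IsSolvable (G ⧸ oddCore G) :=
      Group.isSolvable_of_ker_le_range (Subgroup.subtype (S : Subgroup (G ⧸ oddCore G)))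
        (QuotientGroup.mk' (S : Subgroup (G ⧸ oddCore G))) (by
          rw [QuotientGroup.ker_mk', Subgroup.range_subtype])
    exact Group.isSolvable_of_ker_le_range (Subgroup.subtype (oddCore G)) (QuotientGroup.mk' (oddCore G)) (by
          rw [QuotientGroup.ker_mk', Subgroup.range_subtype])
  · have h1 : Function.Surjective ((QuotientGroup.mk' (Cfsg.oddCore G)).subgroupMap N) :=
      MonoidHom.subgroupMap_surjective _ _
    exact Group.isSolvable_of_surjective h1

end H68.CGroup
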