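import Cfsg.Agent.Lib.H69.SchurBasic
import Cfsg.Agent.Lib.H40.StemFinish

/-!
# Perfect central extensions of a quotient of a group with trivial Schur multiplier
-/

set_option autoImplicit false
set_option linter.all false

universe u

namespace H68.NormMaxM
open Subgroup
open scoped commutatorElement

theorem map_comm {A B : Type*} [Group A] [Group B] (f : A →* B) (hf : Function.Surjective f) : (commutator A).map f = commutator B := by
  rw [commutator_def, commutator_def, map_commutator, ← MonoidHom.range_eq_map, MonoidHom.range_eq_top.2 hf]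

theorem exists_surj_aux {E P K : Type u} [Group E] [Group P] [Group K] [Finite E] [Finite K] (σ : E →* P)
    (hσ : Function.Surjective σ) (hE : commutator E = ⊤) (hM : Cfsg.HasCyclicSchurMultiplier E 1)
    (π : K →* P) (hπ : Function.Surjective π) (hπc : π.ker ≤ center K) (hK : commutator K = ⊤) :
    ∃ φ : E →* K, Function.Surjective φ := by
  let F : Subgroup (K × E) := (π.comp (MonoidHom.fst K E)).eqLocus (σ.comp (MonoidHom.snd K E))
  have hF : ∀ x : K × E, x ∈ F ↔ π x.1 = σ x.2 := fun x => Iff.rfl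
  let p₁ : F →* K := (MonoidHom.fst K E).comp F.subtype
  let p₂ : F →* E := (MonoidHom.snd K E).comp F.subtype
  have hp₁ : Function.Surjective p₁ := by
    intro k
    obtain ⟨e, he⟩ := hσ (π k)
    exact ⟨⟨(k, e), (hF _).2 he.symm⟩, rfl⟩
  have hp₂ : Function.Surjective p₂ := by
    intro e
    obtain ⟨k, hk⟩ := hπ (σ e)
    exact ⟨⟨(k, e), (hF _).2 hk⟩, rfl⟩
  -- the kernel of p₂ is central
  have hker : ∀ z : F, p₂ z = 1 → ∀ x : F, x * z = z * x := by
    intro z hz x
    apply Subtype.ext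
    apply Prod.ext
    · change x.1.1 * z.1.1 = z.1.1 * x.1.1
      have h1 : π z.1.1 = 1 := by
        have := (hF z.1).1 z.2
        rw [this]
        change σ (p₂ z) = 1
        rw [hz, map_one]
      exact mem_center_iff.1 (hπc (MonoidHom.mem_ker.2 h1)) _
    · change x.1.2 * z.1.2 = z.1.2 * x.1.2
      have h1 : z.1.2 = 1 := hz
      rw [h1]; simp
  let C : Subgroup F := commutator F
  have hC2 : C.map p₂ = ⊤ := by rw [map_comm p₂ hp₂, hE]
  have hC1 : C.map p₁ = ⊤ := by rw [map_comm p₁ hp₁, hK]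
  -- C is perfect
  have hCC : C ≤ ⁅C, C⁆ := by
    change commutator F ≤ ⁅C, C⁆
    rw [commutator_def, commutator_le]
    intro f _ g _
    have hdec : ∀ x : F, ∃ c ∈ C, ∃ z : F, p₂ z = 1 ∧ x = c * z := by
      intro x
      have h1 : p₂ x ∈ C.map p₂ := by rw [hC2]; exact mem_top _
      obtain ⟨c, hc, hcx⟩ := h1
      refine ⟨c, hc, c⁻¹ * x, ?_, by group⟩
      rw [map_mul, map_inv, hcx, inv_mul_cancel]
    obtain ⟨c, hc, z, hz, rfl⟩ := hdec f
    obtain ⟨d, hd, w, hw, rfl⟩ := hdec g
    have e : ⁅c * z, d * w⁆ = ⁅c, d⁆ := by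
      have hz' := hker z hz
      have hw' := hker w hw
      have h1 : (c * z) * (d * w) * (c * z)⁻¹ = c * d * c⁻¹ * w := by
        calc (c * z) * (d * w) * (c * z)⁻¹ = c * (z * (d * w) * z⁻¹) * c⁻¹ := by group
          _ = c * (d * w) * c⁻¹ := by rw [← hz' (d * w), mul_inv_cancel_right]
          _ = c * d * (w * c⁻¹) := by group
          _ = c * d * (c⁻¹ * w) := by rw [hw' c⁻¹]
          _ = _ := by group
      rw [commutatorElement_def, commutatorElement_def, h1]; group
    rw [e]; exact commutator_mem_commutator hc hd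
  let q₂ : C →* E := p₂.comp C.subtype
  have hq₂ : Function.Surjective q₂ := by
    intro e
    have h1 : e ∈ C.map p₂ := by rw [hC2]; exact mem_top _
    obtain ⟨c, hc, hce⟩ := h1
    exact ⟨⟨c, hc⟩, hce⟩
  have hCperf : commutator C = ⊤ := by
    rw [eq_top_iff]
    intro x _
    have h1 : (x : F) ∈ ⁅C, C⁆ := hCC x.2
    rw [← map_subtype_commutator] at h1
    obtain ⟨y, hy, hyx⟩ := h1
    have : y = x := Subtype.ext hyx
    rw [← this]; exact hy
  have hstem : Cfsg.IsStemExtension q₂ := by
    refine ⟨hq₂, ?_, ?_⟩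
    · intro z hz
      rw [mem_center_iff]
      intro x
      exact Subtype.ext (hker z (MonoidHom.mem_ker.1 hz) x)
    · rw [hCperf]; exact le_top
  haveI : Finite C := inferInstance
  have hbot := H69.SchurBasic.ker_eq_bot_of_hasCyclic_one hM C q₂ hstem
  let e₂ : C ≃* E := MulEquiv.ofBijective q₂ ⟨(MonoidHom.ker_eq_bot_iff q₂).1 hbot, hq₂⟩
  refine ⟨(p₁.comp C.subtype).comp e₂.symm.toMonoidHom, ?_⟩
  intro k
  have h1 : k ∈ C.map p₁ := by rw [hC1]; exact mem_top _
  obtain ⟨c, hc, hck⟩ := h1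
  refine ⟨e₂ ⟨c, hc⟩, ?_⟩
  change p₁ ((e₂.symm (e₂ ⟨c, hc⟩) : C) : F) = k
  rw [MulEquiv.symm_apply_apply]; exact hck

/-- version across universes -/
theorem exists_surj {E P : Type} {K : Type u} [Group E] [Group P] [Group K] [Finite E] [Finite K] (σ : E →* P)
    (hσ : Function.Surjective σ) (hE : commutator E = ⊤) (hM : Cfsg.HasCyclicSchurMultiplier E 1)
    (π : K →* P) (hπ : Function.Surjective π) (hπc : π.ker ≤ center K) (hK : commutator K = ⊤) :
    ∃ φ : E →* K, Function.Surjective φ := by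
  let uE : ULift.{u} E ≃* E := MulEquiv.ulift
  let uP : ULift.{u} P ≃* P := MulEquiv.ulift
  have hM' : Cfsg.HasCyclicSchurMultiplier (ULift.{u} E) 1 := H40.StemFinish.HasSchurMultiplier.congr uE.symm hM
  have hE' : commutator (ULift.{u} E) = ⊤ := by
    rw [← map_comm uE.symm.toMonoidHom uE.symm.surjective, hE, ← MonoidHom.range_eq_map, MonoidHom.range_eq_top]
    exact uE.symm.surjective
  haveI : Finite (ULift.{u} E) := inferInstance
  obtain ⟨φ, hφ⟩ := exists_surj_aux (uP.symm.toMonoidHom.comp (σ.comp uE.toMonoidHom))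
    (uP.symm.surjective.comp (hσ.comp uE.surjective)) hE' hM' (uP.symm.toMonoidHom.comp π) (uP.symm.surjective.comp hπ) (by
      intro x hx
      apply hπc
      rw [MonoidHom.mem_ker] at hx ⊢
      have h1 : uP.symm (π x) = 1 := hx
      rwa [map_eq_one_iff _ uP.symm.injective] at h1) hK
  exact ⟨φ.comp uE.symm.toMonoidHom, hφ.comp uE.symm.surjective⟩

end H68.NormMaxM
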