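import Mathlib
import Cfsg.Agent.Lib.H68.ConjEqG
import Cfsg.Agent.Lib.H68.NormMaxM
import Cfsg.Agent.Lib.H26.ZStarUse
import Cfsg.Agent.Lib.H40.SL2Nine
import Cfsg.Agent.Lib.H83.BdC1

/-! The quaternion case and the final theorem. -/

set_option autoImplicit false
set_option linter.unusedSectionVars false
set_option linter.style.haveILetI false

namespace H68.ConjEq

universe u

abbrev E5 : Type := Matrix.SpecialLinearGroup (Fin 2) (ZMod 5)
abbrev P5 : Type := Matrix.ProjectiveSpecialLinearGroup (Fin 2) (ZMod 5)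

instance fact5 : Fact (Nat.Prime 5) := ⟨by norm_num⟩

theorem sl25 (hM : Cfsg.HasCyclicSchurMultiplier E5 1) {K : Type u} [Group K] [Finite K]
    (π : K →* alternatingGroup (Fin 5)) (hπ : Function.Surjective π) (hπc : π.ker ≤ Subgroup.center K)
    (hK : commutator K = ⊤) (h120 : Nat.card K = 120) : Nonempty (K ≃* E5) := by
  obtain ⟨e⟩ := H6.SmallIsoA.psl2_five (F := ZMod 5) (ZMod.card 5)
  have hE : commutator E5 = ⊤ := H40.SL2Nine.commutator_top (by rw [ZMod.card]; norm_num)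
  obtain ⟨φ, hφ⟩ := H68.NormMaxM.exists_surj
    (e.toMonoidHom.comp (QuotientGroup.mk' (Subgroup.center E5)))
    (e.surjective.comp (QuotientGroup.mk'_surjective _)) hE hM π hπ hπc hK
  have hc : Nat.card E5 = Nat.card K := by
    rw [h120, H25.SL2Card.card_SL2, ZMod.card]; norm_num
  exact ⟨(MulEquiv.ofBijective φ ((Nat.bijective_iff_surjective_and_card _).2 ⟨hφ, hc⟩)).symm⟩

theorem q8_unique : ∀ x y : QuaternionGroup 2, x * x = 1 → y * y = 1 → x ≠ 1 → y ≠ 1 → x = y := by decide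

theorem q8_four : ∀ x : QuaternionGroup 2, x * x * (x * x) = 1 := by decide

variable {X : Type u} [Group X] [Finite X]

theorem unique_in {P : Subgroup X} (hP : Nonempty (P ≃* QuaternionGroup 2)) {x y : X} (hx : x ∈ P)
    (hy : y ∈ P) (hx2 : orderOf x = 2) (hy2 : orderOf y = 2) : x = y := by
  obtain ⟨e⟩ := hP
  have h1 : e ⟨x, hx⟩ = e ⟨y, hy⟩ := by
    apply q8_unique
    · rw [← map_mul, ← map_one e]
      exact congrArg e (Subtype.ext (sq_of_order hx2))
    · rw [← map_mul, ← map_one e]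
      exact congrArg e (Subtype.ext (sq_of_order hy2))
    · intro h
      exact ne_one_of_order hx2 (congrArg Subtype.val (e.injective (h.trans (map_one e).symm)))
    · intro h
      exact ne_one_of_order hy2 (congrArg Subtype.val (e.injective (h.trans (map_one e).symm)))
  exact congrArg Subtype.val (e.injective h1)

theorem not_four {P : Sylow 2 X} (hP : Nonempty ((P : Subgroup X) ≃* QuaternionGroup 2)) :
    ¬ H16.BD.Four X := by
  haveI : Fact (Nat.Prime 2) := ⟨Nat.prime_two⟩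
  rintro ⟨v, w, hvw, hv, hw, hc⟩
  obtain ⟨U, hU, hU4⟩ := exists_four (sq_of_order hv) (sq_of_order hw) (ne_one_of_order hv)
    (ne_one_of_order hw) hvw hc
  have h1 : IsPGroup 2 U := IsPGroup.iff_card.2 ⟨2, by rw [hU4]; norm_num⟩
  obtain ⟨Q, hQ⟩ := h1.exists_le_sylow
  have e : (Q : Subgroup X) ≃* (P : Subgroup X) := Q.equiv P
  exact hvw (unique_in (hP.map fun f => e.trans f) (hQ ((hU v).2 (Or.inr (Or.inl rfl))))
    (hQ ((hU w).2 (Or.inr (Or.inr (Or.inl rfl))))) hv hw)

theorem central_inv (hO : Cfsg.oddCore X = ⊥) {P : Sylow 2 X}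
    (hP : Nonempty ((P : Subgroup X) ≃* QuaternionGroup 2)) {t : X} (ht : orderOf t = 2) :
    t ∈ Subgroup.center X := by
  have h1 := H83.BdC.isoInv_of_not_four (not_four hP) ht
  rw [Subgroup.mem_center_iff]
  intro g
  obtain ⟨x, hx, c, hc, rfl⟩ := H83.BdC.sup_centralizer_of_zstar h1 g
  rw [hO, Subgroup.mem_bot] at hx
  rw [hx, one_mul, hc]

theorem elab_case (main : H16.BD.BenderThm.{u, u}) (main1 : H16.BSSimple.RankOneThm.{u, u})
    (h : CE X) (hO : Cfsg.oddCore X = ⊥) {P : Sylow 2 X}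
    (hel : ∀ x ∈ (P : Subgroup X), x * x = 1) {n : ℕ} (hn : Nat.card (P : Subgroup X) = 2 ^ n) (h2 : 2 ≤ n) :
    (n = 2 ∧ Nonempty (X ≃* alternatingGroup (Fin 4))) ∨
    (n = 3 ∧ Nonempty (X ≃* Cfsg.affineGroup (GaloisField 2 3))) ∨
    (n = 3 ∧ Nonempty (X ≃* Cfsg.semiaffineGroup (GaloisField 2 3))) ∨
    (n = 5 ∧ Nonempty (X ≃* Cfsg.semiaffineGroup (GaloisField 2 5))) ∨
    (n = 2 ∧ Nonempty (X ≃* alternatingGroup (Fin 5))) ∨
    (n = 3 ∧ Nonempty (X ≃* Matrix.ProjectiveSpecialLinearGroup (Fin 2) (GaloisField 2 3))) ∨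
    (n = 5 ∧ Nonempty (X ≃* MulAut (Matrix.ProjectiveSpecialLinearGroup (Fin 2) (GaloisField 2 5)))) := by
  by_cases hP : (P : Subgroup X).Normal
  · rcases normal_case h hO P hel hn h2 hP with h | h | h | h
    · exact Or.inl h
    · exact Or.inr (Or.inl h)
    · exact Or.inr (Or.inr (Or.inl h))
    · exact Or.inr (Or.inr (Or.inr (Or.inl h)))
  · exact Or.inr (Or.inr (Or.inr (Or.inr (nonnormal_case main main1 h hO hel hn h2 hP))))

theorem card_alt4 : Nat.card (alternatingGroup (Fin 4)) = 12 := by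
  have h := two_mul_card_alternatingGroup (α := Fin 4)
  rw [Fintype.card_perm, Fintype.card_fin] at h
  rw [Nat.card_eq_fintype_card]
  have : Nat.factorial 4 = 24 := rfl
  omega

theorem card_alt5 : Nat.card (alternatingGroup (Fin 5)) = 60 := by
  have h := two_mul_card_alternatingGroup (α := Fin 5)
  rw [Fintype.card_perm, Fintype.card_fin] at h
  rw [Nat.card_eq_fintype_card]
  have : Nat.factorial 5 = 120 := rfl
  omega

theorem q8_case (main : H16.BD.BenderThm.{u, u}) (main1 : H16.BSSimple.RankOneThm.{u, u})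
    (hM : Cfsg.HasCyclicSchurMultiplier E5 1) (h : CE X) (hO : Cfsg.oddCore X = ⊥) {P : Sylow 2 X}
    (hP : Nonempty ((P : Subgroup X) ≃* QuaternionGroup 2)) :
    Nonempty (X ≃* Matrix.SpecialLinearGroup (Fin 2) (ZMod 3)) ∨ Nonempty (X ≃* E5) := by
  haveI : Fact (Nat.Prime 2) := ⟨Nat.prime_two⟩
  have hP8 : Nat.card (P : Subgroup X) = 8 := by
    obtain ⟨e⟩ := hP
    rw [Nat.card_congr e.toEquiv, Nat.card_eq_fintype_card, QuaternionGroup.card]
  obtain ⟨t₀, ht₀⟩ := exists_prime_orderOf_dvd_card' (G := (P : Subgroup X)) 2 (by rw [hP8]; norm_num)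
  have ht : orderOf (t₀ : X) = 2 := by rw [Subgroup.orderOf_coe]; exact ht₀
  set t : X := (t₀ : X) with htdef
  have htP : t ∈ (P : Subgroup X) := t₀.2
  have htc := central_inv hO hP ht
  have huniq : ∀ s : X, orderOf s = 2 → s = t := by
    intro s hs
    obtain ⟨g, hg⟩ := h.conj_inv ht hs
    rw [← hg, Subgroup.mem_center_iff.1 htc g, mul_inv_cancel_right]
  set Z := Subgroup.zpowers t with hZ
  have hZc : Z ≤ Subgroup.center X := by rw [hZ, Subgroup.zpowers_le]; exact htc
  haveI hZn : Z.Normal := ⟨fun n hn g => by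
    rw [Subgroup.mem_center_iff.1 (hZc hn) g, mul_inv_cancel_right]; exact hn⟩
  have hZ2 : Nat.card Z = 2 := by rw [hZ, Nat.card_zpowers, ht]
  have hZp : IsPGroup 2 Z := IsPGroup.iff_card.2 ⟨1, by rw [hZ2, pow_one]⟩
  have hOq : Cfsg.oddCore (X ⧸ Z) = ⊥ := H26.ZStarUse.pPrimeCore_quotient_central hO Z hZc hZp
  have hCq : CE (X ⧸ Z) := h.quot Z
  have hXq : Nat.card X = Nat.card (X ⧸ Z) * 2 := by
    rw [Subgroup.card_eq_card_quotient_mul_card_subgroup Z, hZ2]
  let Q : Sylow 2 (X ⧸ Z) := P.mapSurjective (QuotientGroup.mk'_surjective Z)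
  have hQ : ∀ x, x ∈ (Q : Subgroup (X ⧸ Z)) ↔ ∃ y ∈ (P : Subgroup X), QuotientGroup.mk' Z y = x := fun x => Iff.rfl
  have hsq : ∀ y ∈ (P : Subgroup X), y * y ∈ Z := by
    intro y hy
    by_cases h1 : y * y = 1
    · rw [h1]; exact Z.one_mem
    · have h2 : y * y * (y * y) = 1 := by
        obtain ⟨e⟩ := hP
        have h3 := q8_four (e ⟨y, hy⟩)
        rw [← map_mul, ← map_mul, ← map_one e] at h3
        exact congrArg Subtype.val (e.injective h3)
      rw [huniq _ (order_two h2 h1)]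
      exact Subgroup.mem_zpowers t
  have hQel : ∀ x ∈ (Q : Subgroup (X ⧸ Z)), x * x = 1 := by
    intro x hx
    obtain ⟨y, hy, rfl⟩ := (hQ x).1 hx
    rw [← map_mul]
    exact (QuotientGroup.eq_one_iff _).2 (hsq y hy)
  have hQ4 : Nat.card (Q : Subgroup (X ⧸ Z)) = 2 ^ 2 := by
    let f : (P : Subgroup X) →* X ⧸ Z := (QuotientGroup.mk' Z).comp (P : Subgroup X).subtype
    have h1 : (f.range : Subgroup (X ⧸ Z)) = (Q : Subgroup (X ⧸ Z)) := by
      ext x
      rw [hQ]
      constructor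
      · rintro ⟨y, rfl⟩; exact ⟨y, y.2, rfl⟩
      · rintro ⟨y, hy, rfl⟩; exact ⟨⟨y, hy⟩, rfl⟩
    have h2 := f.ker.card_mul_index
    rw [Subgroup.index_ker, h1, hP8] at h2
    have h3 : Nat.card f.ker = 2 := by
      refine Eq.trans ?_ hZ2
      have hZP : Z ≤ (P : Subgroup X) := by rw [hZ, Subgroup.zpowers_le]; exact htP
      have h4 : f.ker = Z.subgroupOf (P : Subgroup X) := by
        ext y
        rw [MonoidHom.mem_ker, Subgroup.mem_subgroupOf]
        exact QuotientGroup.eq_one_iff _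
      rw [h4]
      exact Nat.card_congr (Subgroup.subgroupOfEquivOfLe hZP).toEquiv
    rw [h3] at h2
    omega
  have hcases := elab_case main main1 hCq hOq hQel hQ4 (le_refl 2)
  have hcases2 : Nonempty (X ⧸ Z ≃* alternatingGroup (Fin 4)) ∨ Nonempty (X ⧸ Z ≃* alternatingGroup (Fin 5)) := by
    rcases hcases with ⟨-, h⟩ | ⟨h, -⟩ | ⟨h, -⟩ | ⟨h, -⟩ | ⟨-, h⟩ | ⟨h, -⟩ | ⟨h, -⟩
    · exact Or.inl h
    · omega
    · omega
    · omega
    · exact Or.inr h
    · omega
    · omega
  rcases hcases2 with ⟨⟨e⟩⟩ | ⟨⟨e⟩⟩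
  · left
    apply q8_small hO P hP
    rw [hXq, Nat.card_congr e.toEquiv, card_alt4]
  · right
    have hX120 : Nat.card X = 120 := by rw [hXq, Nat.card_congr e.toEquiv, card_alt5]
    let π : X →* alternatingGroup (Fin 5) := e.toMonoidHom.comp (QuotientGroup.mk' Z)
    have hπ : Function.Surjective π := e.surjective.comp (QuotientGroup.mk'_surjective _)
    have hker : ∀ x, π x = 1 ↔ x ∈ Z := by
      intro x
      change e (QuotientGroup.mk' Z x) = 1 ↔ _
      rw [map_eq_one_iff _ e.injective]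
      exact QuotientGroup.eq_one_iff _
    have hmap : (commutator X).map π = ⊤ := by
      rw [H68.NormMaxM.map_comm π hπ]
      exact commutator_alternatingGroup_eq_top (by rw [Nat.card_eq_fintype_card, Fintype.card_fin])
    have h60 : 60 ∣ Nat.card (commutator X) := by
      have h1 := Subgroup.card_map_dvd (commutator X) π
      rw [hmap, Subgroup.card_top, card_alt5] at h1
      exact h1
    obtain ⟨s, hs, hs2⟩ := exists_inv_of_even (H := commutator X)
      (even_iff_two_dvd.2 ((by norm_num : 2 ∣ 60).trans h60))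
    have hZK : Z ≤ commutator X := by
      rw [hZ, Subgroup.zpowers_le, ← huniq s hs2]; exact hs
    have hK : commutator X = ⊤ := by
      rw [eq_top_iff]
      intro x _
      have h1 : π x ∈ (commutator X).map π := by rw [hmap]; trivial
      obtain ⟨y, hy, hyx⟩ := h1
      have h2 : y⁻¹ * x ∈ Z := by
        rw [← hker, map_mul, map_inv, hyx, inv_mul_cancel]
      have h3 : x = y * (y⁻¹ * x) := by group
      rw [h3]
      exact Subgroup.mul_mem _ hy (hZK h2)
    exact sl25 hM π hπ (fun x hx => hZc ((hker x).1 hx)) hK hX120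

end H68.ConjEq
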