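import Mathlib

/-! Nilpotent minimal covers: abstract counting lemmas. -/

namespace H68.Cover

open scoped commutatorElement

variable {G : Type*} [Group G]

/-- a nilpotent subgroup containing an element `u` "fixing a unique point" fixes this point -/
theorem le_of_isNilpotent {H A : Subgroup G} {u : G} (hu : u ∈ H)
    (hself : ∀ a, a * u * a⁻¹ ∈ H → a ∈ H) (hA : Group.IsNilpotent A) (huA : u ∈ A) : A ≤ H := by
  have key : ∀ n : ℕ, ∀ a : A, a ∈ Subgroup.upperCentralSeries A n → (a : G) ∈ H := by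
    intro n
    induction n with
    | zero =>
      intro a ha
      rw [Subgroup.upperCentralSeries_zero, Subgroup.mem_bot] at ha
      rw [ha]; exact H.one_mem
    | succ n ih =>
      intro a ha
      apply hself
      have h1 := ih _ (ha ⟨u, huA⟩)
      rw [commutatorElement_def] at h1
      have h2 := H.mul_mem h1 hu
      simpa [mul_assoc] using h2
  obtain ⟨n, hn⟩ := hA.nilpotent'
  intro a ha
  exact key n ⟨a, ha⟩ (hn ▸ Subgroup.mem_top _)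

/-- a cover by proper subgroups -/
def IsCover (𝓐 : Finset (Subgroup G)) : Prop := (∀ A ∈ 𝓐, A ≠ ⊤) ∧ ∀ g : G, ∃ A ∈ 𝓐, g ∈ A

/-- a nilpotent minimal cover -/
def IsNilMin (𝓐 : Finset (Subgroup G)) : Prop :=
  ((∀ A ∈ 𝓐, A ≠ ⊤) ∧ ∀ g : G, ∃ A ∈ 𝓐, g ∈ A) ∧
    (∀ 𝓑 : Finset (Subgroup G), (∀ A ∈ 𝓑, A ≠ ⊤) ∧ (∀ g : G, ∃ A ∈ 𝓑, g ∈ A) → 𝓐.card ≤ 𝓑.card) ∧
    (∀ A ∈ 𝓐, Group.IsNilpotent ↥A)

/-- if `|𝓗| < |ι|` and members containing `t i` can be replaced by members of `𝓗`, there is no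
nilpotent minimal cover -/
theorem not_isNilMin (𝓗 : Finset (Subgroup G)) (hproper : ∀ H ∈ 𝓗, H ≠ ⊤)
    {ι : Type*} [Fintype ι] (hcard : 𝓗.card < Fintype.card ι) (t : ι → G)
    (h1 : ∀ i, ∀ A : Subgroup G, Group.IsNilpotent A → t i ∈ A → ∃ H ∈ 𝓗, A ≤ H)
    (h2 : ∀ i j, ∀ A : Subgroup G, Group.IsNilpotent A → t i ∈ A → t j ∈ A → i = j) :
    ¬ ∃ 𝓐 : Finset (Subgroup G), ((∀ A ∈ 𝓐, A ≠ ⊤) ∧ ∀ g : G, ∃ A ∈ 𝓐, g ∈ A) ∧
    (∀ 𝓑 : Finset (Subgroup G), (∀ A ∈ 𝓑, A ≠ ⊤) ∧ (∀ g : G, ∃ A ∈ 𝓑, g ∈ A) → 𝓐.card ≤ 𝓑.card) ∧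
    (∀ A ∈ 𝓐, Group.IsNilpotent ↥A) := by
  classical
  rintro ⟨𝓐, ⟨hp, hc⟩, hmin, hnil⟩
  choose f hf using fun i => hc (t i)
  have hinj : Function.Injective f := by
    intro i j hij
    exact h2 i j (f i) (hnil _ (hf i).1) (hf i).2 (hij ▸ (hf j).2)
  set 𝓐₀ := 𝓐.filter (fun A => ∃ H ∈ 𝓗, A ≤ H) with h𝓐₀
  have hle : Fintype.card ι ≤ 𝓐₀.card := by
    rw [← Finset.card_univ, ← Finset.card_image_of_injective _ hinj]
    apply Finset.card_le_card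
    intro A hA
    obtain ⟨i, _, rfl⟩ := Finset.mem_image.1 hA
    rw [h𝓐₀, Finset.mem_filter]
    exact ⟨(hf i).1, h1 i _ (hnil _ (hf i).1) (hf i).2⟩
  have h3 := hmin ((𝓐 \ 𝓐₀) ∪ 𝓗) ⟨?_, ?_⟩
  · have h4 : ((𝓐 \ 𝓐₀) ∪ 𝓗).card ≤ (𝓐 \ 𝓐₀).card + 𝓗.card := Finset.card_union_le _ _
    have h5 : (𝓐 \ 𝓐₀).card = 𝓐.card - 𝓐₀.card := Finset.card_sdiff_of_subset (Finset.filter_subset _ _)
    have h6 : 𝓐₀.card ≤ 𝓐.card := Finset.card_le_card (Finset.filter_subset _ _)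
    omega
  · intro A hA
    rcases Finset.mem_union.1 hA with h | h
    · exact hp A (Finset.mem_sdiff.1 h).1
    · exact hproper A h
  · intro g
    obtain ⟨A, hA, hgA⟩ := hc g
    by_cases hA0 : A ∈ 𝓐₀
    · obtain ⟨H, hH, hAH⟩ := (Finset.mem_filter.1 hA0).2
      exact ⟨H, Finset.mem_union_right _ hH, hAH hgA⟩
    · exact ⟨A, Finset.mem_union_left _ (Finset.mem_sdiff.2 ⟨hA, hA0⟩), hgA⟩

/-- version where `𝓗` is a cover -/
theorem not_isNilMin_of_cover (𝓗 : Finset (Subgroup G)) (hproper : ∀ H ∈ 𝓗, H ≠ ⊤)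
    (hcov : ∀ g : G, ∃ H ∈ 𝓗, g ∈ H)
    {ι : Type*} [Fintype ι] (hcard : 𝓗.card < Fintype.card ι) (t : ι → G)
    (h2 : ∀ i j, ∀ A : Subgroup G, Group.IsNilpotent A → t i ∈ A → t j ∈ A → i = j) :
    ¬ ∃ 𝓐 : Finset (Subgroup G), ((∀ A ∈ 𝓐, A ≠ ⊤) ∧ ∀ g : G, ∃ A ∈ 𝓐, g ∈ A) ∧
    (∀ 𝓑 : Finset (Subgroup G), (∀ A ∈ 𝓑, A ≠ ⊤) ∧ (∀ g : G, ∃ A ∈ 𝓑, g ∈ A) → 𝓐.card ≤ 𝓑.card) ∧
    (∀ A ∈ 𝓐, Group.IsNilpotent ↥A) := by
  classical
  rintro ⟨𝓐, ⟨hp, hc⟩, hmin, hnil⟩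
  choose f hf using fun i => hc (t i)
  have hinj : Function.Injective f := by
    intro i j hij
    exact h2 i j (f i) (hnil _ (hf i).1) (hf i).2 (hij ▸ (hf j).2)
  have hle : Fintype.card ι ≤ 𝓐.card := by
    rw [← Finset.card_univ, ← Finset.card_image_of_injective _ hinj]
    apply Finset.card_le_card
    intro A hA
    obtain ⟨i, _, rfl⟩ := Finset.mem_image.1 hA
    exact (hf i).1
  have h3 := hmin 𝓗 ⟨hproper, hcov⟩
  omega

/-- one class of subgroups `H` with two different elements "fixing a unique point" -/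
theorem not_isNilMin_of_two [Finite G] (H : Subgroup G) (hH : H ≠ ⊤) (u u' : G)
    (hu : u ∈ H) (hself : ∀ a, a * u * a⁻¹ ∈ H → a ∈ H)
    (hu' : u' ∈ H) (hself' : ∀ a, a * u' * a⁻¹ ∈ H → a ∈ H)
    (huu : ∀ A : Subgroup G, Group.IsNilpotent A → u ∈ A → u' ∈ A → False) :
    ¬ ∃ 𝓐 : Finset (Subgroup G), ((∀ A ∈ 𝓐, A ≠ ⊤) ∧ ∀ g : G, ∃ A ∈ 𝓐, g ∈ A) ∧
    (∀ 𝓑 : Finset (Subgroup G), (∀ A ∈ 𝓑, A ≠ ⊤) ∧ (∀ g : G, ∃ A ∈ 𝓑, g ∈ A) → 𝓐.card ≤ 𝓑.card) ∧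
    (∀ A ∈ 𝓐, Group.IsNilpotent ↥A) := by
  classical
  -- conjugates of `H`
  have : Fintype (G ⧸ H) := Fintype.ofFinite _
  let c : G ⧸ H → Subgroup G := fun x => H.map (MulAut.conj x.out).toMonoidHom
  have hmem : ∀ (x : G ⧸ H) (g : G), g ∈ c x ↔ (x.out)⁻¹ * g * x.out ∈ H := by
    intro x g
    rw [Subgroup.mem_map]
    constructor
    · rintro ⟨h, hh, rfl⟩
      simpa [MulAut.conj_apply, mul_assoc] using hh
    · intro h
      exact ⟨_, h, by simp [MulAut.conj_apply, mul_assoc]⟩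
  let 𝓗 : Finset (Subgroup G) := Finset.univ.image c
  let t : Option (G ⧸ H) → G := fun i =>
    match i with
    | none => (((1 : G) : G ⧸ H).out) * u' * (((1 : G) : G ⧸ H).out)⁻¹
    | some x => x.out * u * (x.out)⁻¹
  have hconj : ∀ (x : G ⧸ H) (v : G), v ∈ H → (∀ a, a * v * a⁻¹ ∈ H → a ∈ H) →
      ∀ A : Subgroup G, Group.IsNilpotent A → x.out * v * (x.out)⁻¹ ∈ A → A ≤ c x := by
    intro x v hv hvs A hA hvA
    apply le_of_isNilpotent (u := x.out * v * (x.out)⁻¹) _ _ hA hvA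
    · rw [hmem]
      simpa [mul_assoc] using hv
    · intro a ha
      rw [hmem] at ha ⊢
      apply hvs
      simpa [mul_assoc] using ha
  -- if `u`-elements at `x` and `y` are in the same nilpotent group then `x = y`
  have heq : ∀ (x y : G ⧸ H) (v w : G), v ∈ H → (∀ a, a * v * a⁻¹ ∈ H → a ∈ H) →
      w ∈ H → (∀ a, a * w * a⁻¹ ∈ H → a ∈ H) →
      ∀ A : Subgroup G, Group.IsNilpotent A → x.out * v * (x.out)⁻¹ ∈ A →
      y.out * w * (y.out)⁻¹ ∈ A → x = y := by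
    intro x y v w hv hvs hw hws A hA hvA hwA
    have h1 := hconj x v hv hvs A hA hvA hwA
    rw [hmem] at h1
    have h2 : (x.out)⁻¹ * y.out ∈ H := by
      apply hws
      simpa [mul_assoc] using h1
    have h3 : (x.out : G ⧸ H) = (y.out : G ⧸ H) := QuotientGroup.eq.2 h2
    simpa using h3
  apply not_isNilMin 𝓗 _ (ι := Option (G ⧸ H)) _ t
  · intro i A hA hiA
    rcases i with _ | x
    · exact ⟨_, Finset.mem_image_of_mem c (Finset.mem_univ _), hconj _ u' hu' hself' A hA hiA⟩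
    · exact ⟨_, Finset.mem_image_of_mem c (Finset.mem_univ x), hconj x u hu hself A hA hiA⟩
  · have hno : ∀ (x : G ⧸ H) (A : Subgroup G), Group.IsNilpotent A → t none ∈ A → t (some x) ∈ A → False := by
      intro x A hA h1 h2
      have h3 := heq _ x u' u hu' hself' hu hself A hA h1 h2
      subst h3
      set y := ((1 : G) : G ⧸ H).out with hy
      apply huu (A.map (MulAut.conj y⁻¹).toMonoidHom)
      · exact Group.nilpotent_of_surjective ((MulAut.conj y⁻¹).toMonoidHom.subgroupMap A)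
          ((MulAut.conj y⁻¹).toMonoidHom.subgroupMap_surjective A)
      · exact ⟨_, h2, by simp [t, mul_assoc, hy]⟩
      · exact ⟨_, h1, by simp [t, mul_assoc, hy]⟩
    intro i j A hA hi hj
    rcases i with _ | x <;> rcases j with _ | y
    · rfl
    · exact (hno y A hA hi hj).elim
    · exact (hno x A hA hj hi).elim
    · rw [heq x y u u hu hself hu hself A hA hi hj]
  · intro K hK
    obtain ⟨x, _, rfl⟩ := Finset.mem_image.1 hK
    intro htop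
    apply hH
    rw [eq_top_iff]
    intro h _
    have h1 : x.out * h * (x.out)⁻¹ ∈ c x := htop ▸ Subgroup.mem_top _
    rw [hmem] at h1
    simpa [mul_assoc] using h1
  · rw [Fintype.card_option]
    have : 𝓗.card ≤ Fintype.card (G ⧸ H) := Finset.card_image_le
    omega

end H68.Cover
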