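import Cfsg.Agent.Lib.H68.Cover

/-! Subgroups of `PGL_n(F)` and stabilizers of points and hyperplanes. -/

namespace H68.CoverPGL

open Matrix

variable {F : Type*} [Field F] {n : ℕ}

/-- the subgroup of `G ≤ PGL_n(F)` corresponding to `K ≤ GL_n(F)` -/
def hat (G : Subgroup (GL (Fin n) F ⧸ Subgroup.center (GL (Fin n) F))) (K : Subgroup (GL (Fin n) F)) :
    Subgroup G :=
  (K.map (QuotientGroup.mk' (Subgroup.center (GL (Fin n) F)))).subgroupOf G

theorem mem_hat {G : Subgroup (GL (Fin n) F ⧸ Subgroup.center (GL (Fin n) F))} {K : Subgroup (GL (Fin n) F)}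
    (hK : Subgroup.center (GL (Fin n) F) ≤ K) {x : G} {g : GL (Fin n) F}
    (hg : QuotientGroup.mk' (Subgroup.center (GL (Fin n) F)) g = x) : x ∈ hat G K ↔ g ∈ K := by
  rw [hat, Subgroup.mem_subgroupOf, ← hg, Subgroup.mem_map]
  constructor
  · rintro ⟨k, hk, hkg⟩
    rw [QuotientGroup.mk'_apply, QuotientGroup.mk'_apply, QuotientGroup.eq] at hkg
    have := K.mul_mem hk (hK hkg)
    simpa using this
  · intro h
    exact ⟨g, h, rfl⟩

theorem exists_lift {G : Subgroup (GL (Fin n) F ⧸ Subgroup.center (GL (Fin n) F))} (x : G) :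
    ∃ g : GL (Fin n) F, QuotientGroup.mk' (Subgroup.center (GL (Fin n) F)) g = x :=
  QuotientGroup.mk'_surjective _ _

/-- transfer of the unique fixed point property -/
theorem self_hat {G : Subgroup (GL (Fin n) F ⧸ Subgroup.center (GL (Fin n) F))} {K : Subgroup (GL (Fin n) F)}
    (hK : Subgroup.center (GL (Fin n) F) ≤ K) {x : G} {u : GL (Fin n) F}
    (hu : QuotientGroup.mk' (Subgroup.center (GL (Fin n) F)) u = x)
    (h : ∀ g : GL (Fin n) F, g * u * g⁻¹ ∈ K → g ∈ K) (a : G) (ha : a * x * a⁻¹ ∈ hat G K) : a ∈ hat G K := by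
  obtain ⟨g, hg⟩ := exists_lift a
  rw [mem_hat hK hg]
  apply h
  rw [mem_hat (x := a * x * a⁻¹) hK] at ha
  · exact ha
  · rw [map_mul, map_mul, map_inv, hu, hg]; rfl

/-- the stabilizer of the point `⟨v⟩` -/
def stab (v : Fin n → F) : Subgroup (GL (Fin n) F) where
  carrier := {g | ∃ c : Fˣ, (g : Matrix (Fin n) (Fin n) F) *ᵥ v = (c : F) • v}
  one_mem' := ⟨1, by simp⟩
  mul_mem' := by
    rintro a b ⟨c, hc⟩ ⟨d, hd⟩
    refine ⟨c * d, ?_⟩
    rw [Units.val_mul, ← mulVec_mulVec, hd, mulVec_smul, hc, smul_smul, Units.val_mul, mul_comm]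
  inv_mem' := by
    rintro a ⟨c, hc⟩
    refine ⟨c⁻¹, ?_⟩
    have h1 : ((a⁻¹ : GL (Fin n) F) : Matrix (Fin n) (Fin n) F) *ᵥ ((a : Matrix (Fin n) (Fin n) F) *ᵥ v) = v := by
      rw [mulVec_mulVec, ← Units.val_mul, inv_mul_cancel, Units.val_one, one_mulVec]
    rw [hc, mulVec_smul] at h1
    calc ((a⁻¹ : GL (Fin n) F) : Matrix (Fin n) (Fin n) F) *ᵥ v
        = ((c⁻¹ : Fˣ) : F) • (c : F) • (((a⁻¹ : GL (Fin n) F) : Matrix (Fin n) (Fin n) F) *ᵥ v) := by
          rw [smul_smul, ← Units.val_mul, inv_mul_cancel, Units.val_one, one_smul]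
      _ = _ := by rw [h1]

theorem mem_stab {v : Fin n → F} {g : GL (Fin n) F} :
    g ∈ stab v ↔ ∃ c : Fˣ, (g : Matrix (Fin n) (Fin n) F) *ᵥ v = (c : F) • v := Iff.rfl

/-- the stabilizer of the hyperplane `ker φ` -/
def rstab (v : Fin n → F) : Subgroup (GL (Fin n) F) where
  carrier := {g | ∃ c : Fˣ, v ᵥ* (g : Matrix (Fin n) (Fin n) F) = (c : F) • v}
  one_mem' := ⟨1, by simp⟩
  mul_mem' := by
    rintro a b ⟨c, hc⟩ ⟨d, hd⟩
    refine ⟨c * d, ?_⟩
    rw [Units.val_mul, ← vecMul_vecMul, hc, smul_vecMul, hd, smul_smul, Units.val_mul]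
  inv_mem' := by
    rintro a ⟨c, hc⟩
    refine ⟨c⁻¹, ?_⟩
    have h1 : (v ᵥ* (a : Matrix (Fin n) (Fin n) F)) ᵥ* ((a⁻¹ : GL (Fin n) F) : Matrix (Fin n) (Fin n) F) = v := by
      rw [vecMul_vecMul, ← Units.val_mul, mul_inv_cancel, Units.val_one, vecMul_one]
    rw [hc, smul_vecMul] at h1
    calc v ᵥ* ((a⁻¹ : GL (Fin n) F) : Matrix (Fin n) (Fin n) F)
        = ((c⁻¹ : Fˣ) : F) • (c : F) • (v ᵥ* ((a⁻¹ : GL (Fin n) F) : Matrix (Fin n) (Fin n) F)) := by
          rw [smul_smul, ← Units.val_mul, inv_mul_cancel, Units.val_one, one_smul]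
      _ = _ := by rw [h1]

theorem mem_rstab {v : Fin n → F} {g : GL (Fin n) F} :
    g ∈ rstab v ↔ ∃ c : Fˣ, v ᵥ* (g : Matrix (Fin n) (Fin n) F) = (c : F) • v := Iff.rfl

theorem center_le_stab (v : Fin n → F) : Subgroup.center (GL (Fin n) F) ≤ stab v := by
  intro g hg
  rw [GeneralLinearGroup.center_eq_range_scalar] at hg
  obtain ⟨a, rfl⟩ := hg
  refine ⟨a, ?_⟩
  simp [GeneralLinearGroup.scalar]

theorem center_le_rstab (v : Fin n → F) : Subgroup.center (GL (Fin n) F) ≤ rstab v := by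
  intro g hg
  rw [GeneralLinearGroup.center_eq_range_scalar] at hg
  obtain ⟨a, rfl⟩ := hg
  refine ⟨a, ?_⟩
  simp [GeneralLinearGroup.scalar]

theorem self_stab {v : Fin n → F} {u : GL (Fin n) F}
    (hu : ∀ w : Fin n → F, ∀ c : F, w ≠ 0 → (u : Matrix (Fin n) (Fin n) F) *ᵥ w = c • w → ∃ k : F, w = k • v)
    (hv : v ≠ 0)
    (g : GL (Fin n) F) (hg : g * u * g⁻¹ ∈ stab v) : g ∈ stab v := by
  obtain ⟨c, hc⟩ := hg
  set w := ((g⁻¹ : GL (Fin n) F) : Matrix (Fin n) (Fin n) F) *ᵥ v with hw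
  have hgw : (g : Matrix (Fin n) (Fin n) F) *ᵥ w = v := by
    rw [hw, mulVec_mulVec, ← Units.val_mul, mul_inv_cancel, Units.val_one, one_mulVec]
  have hw0 : w ≠ 0 := by
    intro h0
    rw [h0, mulVec_zero] at hgw
    exact hv hgw.symm
  have h1 : (u : Matrix (Fin n) (Fin n) F) *ᵥ w = (c : F) • w := by
    have h2 := congrArg (fun x => ((g⁻¹ : GL (Fin n) F) : Matrix (Fin n) (Fin n) F) *ᵥ x) hc
    simp only [mulVec_mulVec, mulVec_smul, ← Units.val_mul] at h2
    rw [show g⁻¹ * (g * u * g⁻¹) = u * g⁻¹ by group, Units.val_mul, ← mulVec_mulVec] at h2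
    exact h2
  obtain ⟨k, hk⟩ := hu w c hw0 h1
  have hk0 : k ≠ 0 := by
    rintro rfl
    rw [zero_smul] at hk
    exact hw0 hk
  rw [← inv_mem_iff]
  exact ⟨Units.mk0 k hk0, hk⟩

theorem self_rstab {v : Fin n → F} {u : GL (Fin n) F}
    (hu : ∀ w : Fin n → F, ∀ c : F, w ≠ 0 → w ᵥ* (u : Matrix (Fin n) (Fin n) F) = c • w → ∃ k : F, w = k • v)
    (hv : v ≠ 0)
    (g : GL (Fin n) F) (hg : g * u * g⁻¹ ∈ rstab v) : g ∈ rstab v := by
  obtain ⟨c, hc⟩ := hg
  set w := v ᵥ* (g : Matrix (Fin n) (Fin n) F) with hw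
  have hgw : w ᵥ* ((g⁻¹ : GL (Fin n) F) : Matrix (Fin n) (Fin n) F) = v := by
    rw [hw, vecMul_vecMul, ← Units.val_mul, mul_inv_cancel, Units.val_one, vecMul_one]
  have hw0 : w ≠ 0 := by
    intro h0
    rw [h0, zero_vecMul] at hgw
    exact hv hgw.symm
  have h1 : w ᵥ* (u : Matrix (Fin n) (Fin n) F) = (c : F) • w := by
    have h2 := congrArg (fun x => x ᵥ* (g : Matrix (Fin n) (Fin n) F)) hc
    simp only [vecMul_vecMul, smul_vecMul, ← Units.val_mul] at h2
    rw [show g * u * g⁻¹ * g = g * u by group, Units.val_mul, ← vecMul_vecMul] at h2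
    exact h2
  obtain ⟨k, hk⟩ := hu w c hw0 h1
  have hk0 : k ≠ 0 := by
    rintro rfl
    rw [zero_smul] at hk
    exact hw0 hk
  exact ⟨Units.mk0 k hk0, hk⟩

/-- the Jordan block -/
def jordan (n : ℕ) (F : Type*) [Field F] : Matrix (Fin n) (Fin n) F :=
  fun i j => if i = j then 1 else if (i : ℕ) + 1 = j then 1 else 0

theorem det_jordan : (jordan n F).det = 1 := by
  rw [det_of_isUpperTriangular]
  · apply Finset.prod_eq_one
    intro i _
    simp [jordan]
  · intro i j hij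
    simp only [id] at hij
    simp only [jordan]
    rw [if_neg (by exact fun h => absurd (h ▸ hij) (lt_irrefl _)), if_neg]
    intro h
    have : (j : ℕ) < i := hij
    omega

theorem jordan_mulVec_last (w : Fin n → F) (i : Fin n) (hi : (i : ℕ) + 1 = n) :
    (jordan n F *ᵥ w) i = w i := by
  rw [mulVec, dotProduct, Finset.sum_eq_single i]
  · simp [jordan]
  · intro j _ hj
    simp only [jordan]
    rw [if_neg (Ne.symm hj), if_neg (by omega), zero_mul]
  · simp

theorem jordan_mulVec_lt (w : Fin n → F) (i : Fin n) (hi : (i : ℕ) + 1 < n) :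
    (jordan n F *ᵥ w) i = w i + w ⟨i + 1, hi⟩ := by
  rw [mulVec, dotProduct, ← Finset.add_sum_erase _ _ (Finset.mem_univ i), Finset.sum_eq_single ⟨(i : ℕ) + 1, hi⟩]
  · simp only [jordan, if_true, one_mul]
    rw [if_neg]
    · rw [one_mul]
    · intro h
      have := congrArg Fin.val h
      simp at this
  · intro j hj hj'
    simp only [jordan]
    rw [if_neg (Ne.symm (Finset.ne_of_mem_erase hj)), if_neg, zero_mul]
    intro h
    apply hj'
    ext; exact h.symm
  · intro h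
    exfalso
    apply h
    rw [Finset.mem_erase]
    refine ⟨?_, Finset.mem_univ _⟩
    intro h
    have := congrArg Fin.val h
    simp at this

theorem jordan_vecMul_zero (w : Fin n → F) (i : Fin n) (hi : (i : ℕ) = 0) :
    (w ᵥ* jordan n F) i = w i := by
  rw [vecMul, dotProduct, Finset.sum_eq_single i]
  · simp [jordan]
  · intro j _ hj
    simp only [jordan]
    rw [if_neg hj, if_neg (by omega), mul_zero]
  · simp

theorem jordan_vecMul_pos (w : Fin n → F) (i : Fin n) (hi : (i : ℕ) + 1 < n) :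
    (w ᵥ* jordan n F) ⟨i + 1, hi⟩ = w ⟨i + 1, hi⟩ + w i := by
  rw [vecMul, dotProduct, ← Finset.add_sum_erase _ _ (Finset.mem_univ ⟨(i : ℕ) + 1, hi⟩), Finset.sum_eq_single i]
  · simp only [jordan, if_true, mul_one]
    rw [if_neg]
    · rw [mul_one]
    · intro h
      have := congrArg Fin.val h
      simp at this
  · intro j hj hj'
    simp only [jordan]
    rw [if_neg (Finset.ne_of_mem_erase hj), if_neg, mul_zero]
    intro h
    apply hj'
    ext; simpa using h
  · intro h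
    exfalso
    apply h
    rw [Finset.mem_erase]
    refine ⟨?_, Finset.mem_univ _⟩
    intro h
    have := congrArg Fin.val h
    simp at this

theorem jordan_eig (hn : 0 < n) (w : Fin n → F) (c : F) (hw : w ≠ 0)
    (h : jordan n F *ᵥ w = c • w) : ∃ k : F, w = k • (Pi.single ⟨0, hn⟩ 1 : Fin n → F) := by
  classical
  have hne : (Finset.univ.filter (fun i => w i ≠ 0)).Nonempty := by
    by_contra hcon
    rw [Finset.not_nonempty_iff_eq_empty] at hcon
    apply hw
    ext i
    by_contra hi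
    have : i ∈ (Finset.univ.filter (fun i => w i ≠ 0)) := by simpa using hi
    rw [hcon] at this
    simp at this
  set k := (Finset.univ.filter (fun i => w i ≠ 0)).max' hne with hk
  have hk1 : w k ≠ 0 := by
    have := Finset.max'_mem _ hne
    simpa using this
  have hk2 : ∀ j, k < j → w j = 0 := by
    intro j hj
    by_contra hj0
    have h1 : j ∈ (Finset.univ.filter (fun i => w i ≠ 0)) := by simpa using hj0
    exact absurd (Finset.le_max' _ j h1) (not_le.2 hj)
  have hc : c = 1 := by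
    have h1 := congrFun h k
    rw [Pi.smul_apply, smul_eq_mul] at h1
    by_cases hlast : (k : ℕ) + 1 < n
    · rw [jordan_mulVec_lt w k hlast, hk2 ⟨(k : ℕ) + 1, hlast⟩ (by rw [Fin.lt_def]; simp), add_zero] at h1
      have h2 : 1 * w k = c * w k := by rw [one_mul]; exact h1
      exact (mul_right_cancel₀ hk1 h2).symm
    · rw [jordan_mulVec_last w k (by have := k.2; omega)] at h1
      have h2 : 1 * w k = c * w k := by rw [one_mul]; exact h1
      exact (mul_right_cancel₀ hk1 h2).symm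
  refine ⟨w ⟨0, hn⟩, ?_⟩
  ext i
  by_cases hi : (i : ℕ) = 0
  · have : i = ⟨0, hn⟩ := Fin.ext hi
    rw [this]; simp
  · have h1 := congrFun h ⟨i - 1, by omega⟩
    rw [jordan_mulVec_lt w _ (by simp only; omega), hc, one_smul] at h1
    have h2 : w ⟨(i : ℕ) - 1 + 1, by omega⟩ = 0 := by
      simpa using h1
    have h3 : (⟨(i : ℕ) - 1 + 1, by omega⟩ : Fin n) = i := by ext; simp only; omega
    rw [h3] at h2
    rw [h2, Pi.smul_apply, Pi.single_eq_of_ne, smul_zero]
    intro h4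
    exact hi (congrArg Fin.val h4)

theorem jordan_reig (l : Fin n) (hl : (l : ℕ) + 1 = n) (w : Fin n → F) (c : F) (hw : w ≠ 0)
    (h : w ᵥ* jordan n F = c • w) : ∃ k : F, w = k • (Pi.single l 1 : Fin n → F) := by
  classical
  have hne : (Finset.univ.filter (fun i => w i ≠ 0)).Nonempty := by
    by_contra hcon
    rw [Finset.not_nonempty_iff_eq_empty] at hcon
    apply hw
    ext i
    by_contra hi
    have : i ∈ (Finset.univ.filter (fun i => w i ≠ 0)) := by simpa using hi
    rw [hcon] at this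
    simp at this
  set k := (Finset.univ.filter (fun i => w i ≠ 0)).min' hne with hk
  have hk1 : w k ≠ 0 := by
    have := Finset.min'_mem _ hne
    simpa using this
  have hk2 : ∀ j, j < k → w j = 0 := by
    intro j hj
    by_contra hj0
    have h1 : j ∈ (Finset.univ.filter (fun i => w i ≠ 0)) := by simpa using hj0
    exact absurd (Finset.min'_le _ j h1) (not_le.2 hj)
  have hc : c = 1 := by
    have h1 := congrFun h k
    rw [Pi.smul_apply, smul_eq_mul] at h1
    have h2 : 1 * w k = c * w k := by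
      rw [one_mul, ← h1]
      by_cases h0 : (k : ℕ) = 0
      · rw [jordan_vecMul_zero w k h0]
      · have h3 : (⟨(k : ℕ) - 1 + 1, by omega⟩ : Fin n) = k := by ext; simp only; omega
        have h4 := jordan_vecMul_pos w ⟨(k : ℕ) - 1, by omega⟩ (by simp only; omega)
        simp only [h3] at h4
        rw [h4, hk2 ⟨(k : ℕ) - 1, by omega⟩ (by rw [Fin.lt_def]; simp only; omega), add_zero]
    exact (mul_right_cancel₀ hk1 h2).symm
  refine ⟨w l, ?_⟩
  ext i
  by_cases hi : i = l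
  · rw [hi]; simp
  · have hi' : (i : ℕ) + 1 < n := by
      have h1 := i.2
      have h2 : (i : ℕ) ≠ l := fun h => hi (Fin.ext h)
      omega
    have h1 := congrFun h ⟨i + 1, hi'⟩
    rw [jordan_vecMul_pos w _ hi', hc, one_smul] at h1
    have h2 : w i = 0 := by simpa using h1
    rw [h2, Pi.smul_apply, Pi.single_eq_of_ne hi, smul_zero]

end H68.CoverPGL
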