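import Cfsg.Agent.Lib.H2.Residual
import Cfsg.Agent.Lib.H2.Nilp

/-! The hypercenter. -/

namespace H68.Hyper

open scoped commutatorElement

variable {G : Type*} [Group G]

theorem subgroupOf_le (K : Subgroup G) (n : ℕ) :
    (Subgroup.upperCentralSeries G n).subgroupOf K ≤ Subgroup.upperCentralSeries K n := by
  induction n with
  | zero =>
    intro x hx
    rw [Subgroup.mem_subgroupOf, Subgroup.upperCentralSeries_zero, Subgroup.mem_bot] at hx
    rw [Subgroup.upperCentralSeries_zero, Subgroup.mem_bot]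
    exact Subtype.ext hx
  | succ n ih =>
    intro x hx y
    apply ih
    rw [Subgroup.mem_subgroupOf] at hx ⊢
    exact hx y

/-- adding to a cyclic group an element of the hypercenter gives a nilpotent group -/
theorem isNilpotent_closure {n : ℕ} {g : G} (hg : g ∈ Subgroup.upperCentralSeries G n) (x : G) :
    Group.IsNilpotent (Subgroup.closure ({x, g} : Set G)) := by
  set K := Subgroup.closure ({x, g} : Set G) with hK
  have hcomm : ∀ a b : K, ⁅(a : G), (b : G)⁆ ∈ Subgroup.upperCentralSeries G n := by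
    intro a b
    rw [← QuotientGroup.ker_mk' (Subgroup.upperCentralSeries G n), MonoidHom.mem_ker, map_commutatorElement,
      commutatorElement_eq_one_iff_commute]
    have hle : K.map (QuotientGroup.mk' (Subgroup.upperCentralSeries G n)) ≤
        Subgroup.zpowers (QuotientGroup.mk' (Subgroup.upperCentralSeries G n) x) := by
      rw [hK, MonoidHom.map_closure, Subgroup.closure_le]
      rintro _ ⟨y, hy, rfl⟩
      rcases hy with rfl | hy
      · exact Subgroup.mem_zpowers _
      · rw [Set.mem_singleton_iff] at hy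
        subst hy
        have : QuotientGroup.mk' (Subgroup.upperCentralSeries G n) y = 1 := by
          rw [← MonoidHom.mem_ker, QuotientGroup.ker_mk']; exact hg
        rw [this]
        exact one_mem _
    obtain ⟨i, hi⟩ := hle (Subgroup.mem_map_of_mem _ a.2)
    obtain ⟨j, hj⟩ := hle (Subgroup.mem_map_of_mem _ b.2)
    rw [← hi, ← hj]
    exact (Commute.refl _).zpow_zpow i j
  refine ⟨⟨n + 1, ?_⟩⟩
  rw [eq_top_iff]
  intro a _ b
  apply subgroupOf_le
  rw [Subgroup.mem_subgroupOf]
  exact hcomm a b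

theorem mem_iSup_iff {g : G} : g ∈ ⨆ n : ℕ, Subgroup.upperCentralSeries G n ↔
    ∃ n, g ∈ Subgroup.upperCentralSeries G n := by
  rw [Subgroup.mem_iSup_of_directed]
  exact (Subgroup.upperCentralSeries_mono G).directed_le

/-- elements of coprime order generating a nilpotent group commute -/
theorem commute_of_isNilpotent [Finite G] {p : ℕ} [hp : Fact p.Prime] {x g : G}
    (h : Group.IsNilpotent (Subgroup.closure ({x, g} : Set G))) (hx : Nat.Coprime (orderOf x) p)
    {k : ℕ} (hg : orderOf g = p ^ k) : Commute x g := by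
  set K := Subgroup.closure ({x, g} : Set G) with hK
  have hxK : x ∈ K := Subgroup.subset_closure (by simp)
  have hgK : g ∈ K := Subgroup.subset_closure (by simp)
  have h1 : IsPGroup p (Subgroup.zpowers (⟨g, hgK⟩ : K)) := by
    apply IsPGroup.of_card (n := k)
    rw [Nat.card_zpowers, Subgroup.orderOf_mk, hg]
  obtain ⟨P, hP⟩ := h1.exists_le_sylow
  have h4 := H2.Nilp.residual_le_centralizer_of_nilpotent h P
  have h5 : (⟨x, hxK⟩ : K) ∈ Cfsg.pResidual p K := by
    apply Subgroup.subset_closure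
    change Nat.Coprime _ _
    rwa [Subgroup.orderOf_mk]
  have h6 := h4 h5
  rw [Subgroup.mem_centralizer_iff] at h6
  have h7 := h6 _ (hP (Subgroup.mem_zpowers _))
  have h8 := congrArg Subtype.val h7
  exact h8.symm

/-- a normal `p`-subgroup centralized by `O^p(G)` is in the hypercenter -/
theorem inf_map_le [Finite G] {p : ℕ} [hp : Fact p.Prime] (N : Subgroup G) [hN : N.Normal]
    (P : Sylow p G) (hc : Cfsg.pResidual p G ≤ Subgroup.centralizer (N : Set G)) (n : ℕ) :
    N ⊓ (Subgroup.upperCentralSeries P n).map (P : Subgroup G).subtype ≤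
      Subgroup.upperCentralSeries G n := by
  induction n with
  | zero => simp
  | succ n ih =>
    rintro h ⟨hhN, hh⟩ y
    obtain ⟨h', hh', rfl⟩ := hh
    apply ih
    have h1 : y ∈ (((P : Subgroup G) ⊔ Cfsg.pResidual p G : Subgroup G) : Set G) := by
      rw [H2.Residual.sylow_sup_residual P]; trivial
    rw [Subgroup.mul_normal] at h1
    obtain ⟨u, hu, c, hcc, rfl⟩ := h1
    change (P : Subgroup G).subtype h' ∈ N at hhN
    have h2 : ⁅(P : Subgroup G).subtype h', u * c⁆ = ⁅(P : Subgroup G).subtype h', u⁆ := by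
      have h3 := Subgroup.mem_centralizer_iff.1 (hc hcc) _ hhN
      rw [commutatorElement_def, commutatorElement_def, mul_inv_rev]
      set a := (P : Subgroup G).subtype h'
      have h4 : c * a⁻¹ * c⁻¹ = a⁻¹ := by
        have : a * c * a⁻¹ * c⁻¹ = 1 := by rw [h3]; group
        calc c * a⁻¹ * c⁻¹ = a⁻¹ * (a * c * a⁻¹ * c⁻¹) := by group
          _ = a⁻¹ := by rw [this, mul_one]
      calc a * (u * c) * a⁻¹ * (c⁻¹ * u⁻¹) = a * u * (c * a⁻¹ * c⁻¹) * u⁻¹ := by group
        _ = _ := by rw [h4]
    simp only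
    rw [h2]
    refine ⟨?_, ?_⟩
    · rw [commutatorElement_def]
      have h5 : u * ((P : Subgroup G).subtype h')⁻¹ * u⁻¹ ∈ N :=
        hN.conj_mem _ (N.inv_mem hhN) u
      have h6 := N.mul_mem hhN h5
      simpa [mul_assoc] using h6
    · exact ⟨⁅h', (⟨u, hu⟩ : P)⁆, hh' ⟨u, hu⟩, rfl⟩

theorem le_upper_of_le [Finite G] {p : ℕ} [hp : Fact p.Prime] (N : Subgroup G) [hN : N.Normal]
    (P : Sylow p G) (hNP : N ≤ P)
    (hc : Cfsg.pResidual p G ≤ Subgroup.centralizer (N : Set G)) :
    ∃ n, N ≤ Subgroup.upperCentralSeries G n := by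
  have hnil : Group.IsNilpotent P := P.2.isNilpotent
  obtain ⟨n, hn⟩ := hnil.nilpotent'
  refine ⟨n, ?_⟩
  refine le_trans ?_ (inf_map_le N P hc n)
  rw [hn]
  refine le_inf le_rfl ?_
  rw [← MonoidHom.range_eq_map, Subgroup.range_subtype]
  exact hNP

theorem mem_of_prime_pow [Finite G] {p : ℕ} [hp : Fact p.Prime] {g : G} {k : ℕ}
    (hg : orderOf g = p ^ k)
    (h : ∀ x : G, Group.IsNilpotent (Subgroup.closure ({x, g} : Set G))) :
    ∃ n, g ∈ Subgroup.upperCentralSeries G n := by
  have h1 : IsPGroup p (Subgroup.zpowers g) := by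
    apply IsPGroup.of_card (n := k)
    rw [Nat.card_zpowers, hg]
  obtain ⟨P, hP⟩ := h1.exists_le_sylow
  have hgP : g ∈ (P : Subgroup G) := hP (Subgroup.mem_zpowers g)
  have hcen : Cfsg.pResidual p G ≤ Subgroup.centralizer {g} := by
    rw [Cfsg.pResidual, Subgroup.closure_le]
    intro x hx
    rw [SetLike.mem_coe, Subgroup.mem_centralizer_singleton_iff]
    exact (commute_of_isNilpotent (h x) hx hg).eq
  set N := Subgroup.normalClosure ({g} : Set G) with hN
  have hNP : N ≤ P := by
    rw [hN, Subgroup.normalClosure, Subgroup.closure_le]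
    intro y hy
    rw [Group.mem_conjugatesOfSet_iff] at hy
    obtain ⟨g', hg', hy⟩ := hy
    rw [Set.mem_singleton_iff] at hg'
    subst hg'
    obtain ⟨w, rfl⟩ := isConj_iff.1 hy
    have h2 : w ∈ (((P : Subgroup G) ⊔ Cfsg.pResidual p G : Subgroup G) : Set G) := by
      rw [H2.Residual.sylow_sup_residual P]; trivial
    rw [Subgroup.mul_normal] at h2
    obtain ⟨u, hu, c, hcc, rfl⟩ := h2
    have h3 := Subgroup.mem_centralizer_singleton_iff.1 (hcen hcc)
    have h4 : (fun x1 x2 => x1 * x2) u c * g' * ((fun x1 x2 => x1 * x2) u c)⁻¹ = u * g' * u⁻¹ := by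
      change (u * c) * g' * (u * c)⁻¹ = u * g' * u⁻¹
      rw [mul_inv_rev]
      calc u * c * g' * (c⁻¹ * u⁻¹) = u * (c * g') * c⁻¹ * u⁻¹ := by group
        _ = u * (g' * c) * c⁻¹ * u⁻¹ := by rw [h3]
        _ = _ := by group
    rw [h4]
    exact (P : Subgroup G).mul_mem ((P : Subgroup G).mul_mem hu hgP) ((P : Subgroup G).inv_mem hu)
  have hcN : Cfsg.pResidual p G ≤ Subgroup.centralizer (N : Set G) := by
    rw [Subgroup.le_centralizer_iff]
    rw [hN]
    apply Subgroup.normalClosure_le_normal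
    rintro y hy
    rw [Set.mem_singleton_iff] at hy
    subst hy
    rw [SetLike.mem_coe, Subgroup.mem_centralizer_iff]
    intro c hc
    exact Subgroup.mem_centralizer_singleton_iff.1 (hcen hc)
  obtain ⟨n, hn⟩ := le_upper_of_le N P hNP hcN
  exact ⟨n, hn (Subgroup.subset_normalClosure rfl)⟩

end H68.Hyper
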