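import Cfsg.Agent.Lib.H68.CoverPGL
import Cfsg.Agent.Lib.H68.Hyper

/-! `2 × 2` matrices: nonsplit tori. -/

namespace H68.CoverPGL2

open Matrix H68.CoverPGL

variable {F : Type*} [Field F]

/-- no eigenvectors -/
def Irr (x : Matrix (Fin 2) (Fin 2) F) : Prop := ∀ w : Fin 2 → F, w ≠ 0 → ∀ c : F, x *ᵥ w ≠ c • w

/-- `y ∈ F[x]` -/
def InE (x y : Matrix (Fin 2) (Fin 2) F) : Prop := ∃ a b : F, y = a • 1 + b • x

theorem Irr.ne {x : Matrix (Fin 2) (Fin 2) F} (h : Irr x) : x 1 0 ≠ 0 := by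
  intro h0
  apply h ![1, 0] (by intro h1; have := congrFun h1 0; simp at this) (x 0 0)
  ext i
  fin_cases i
  · simp [mulVec, dotProduct]
  · simp [mulVec, dotProduct, h0]

theorem cayley (x : Matrix (Fin 2) (Fin 2) F) : x * x = x.trace • x - x.det • 1 := by
  ext i j
  fin_cases i <;> fin_cases j <;>
    simp [mul_apply, trace_fin_two, det_fin_two] <;> ring

/-- the centralizer of an irreducible matrix -/
theorem inE_of_comm {x y : Matrix (Fin 2) (Fin 2) F} (h : Irr x) (hc : y * x = x * y) : InE x y := by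
  have h10 := h.ne
  have e1 := congrFun (congrFun hc 0) 0
  have e2 := congrFun (congrFun hc 1) 0
  simp only [mul_apply, Fin.sum_univ_two] at e1 e2
  refine ⟨y 0 0 - y 1 0 / x 1 0 * x 0 0, y 1 0 / x 1 0, ?_⟩
  ext i j
  fin_cases i <;> fin_cases j
  · simp
  · simp only [Fin.zero_eta, Fin.mk_one, Matrix.add_apply, Matrix.smul_apply, one_apply, smul_eq_mul]
    rw [if_neg (by decide)]
    field_simp
    linear_combination e1
  · simp [h10]
  · simp only [Fin.mk_one, Matrix.add_apply, Matrix.smul_apply, one_apply, smul_eq_mul, if_true]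
    field_simp
    linear_combination e2

theorem Irr.injective {x : Matrix (Fin 2) (Fin 2) F} (h : Irr x) {a b : F} {w : Fin 2 → F}
    (hw : w ≠ 0) (h0 : (a • (1 : Matrix (Fin 2) (Fin 2) F) + b • x) *ᵥ w = 0) : a = 0 ∧ b = 0 := by
  rw [add_mulVec, smul_mulVec, smul_mulVec, one_mulVec] at h0
  by_cases hb : b = 0
  · rw [hb, zero_smul, add_zero] at h0
    rcases smul_eq_zero.1 h0 with h1 | h1
    · exact ⟨h1, hb⟩
    · exact absurd h1 hw
  · exfalso
    apply h w hw (-(b⁻¹ * a))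
    have h1 : b • (x *ᵥ w) = -(a • w) := by
      rw [eq_neg_iff_add_eq_zero, add_comm]; exact h0
    calc x *ᵥ w = b⁻¹ • (b • (x *ᵥ w)) := by rw [smul_smul, inv_mul_cancel₀ hb, one_smul]
      _ = _ := by rw [h1, smul_neg, smul_smul, neg_smul]

/-- `F[x]` is a domain -/
theorem Irr.eq_zero {x p q : Matrix (Fin 2) (Fin 2) F} (h : Irr x) (hp : InE x p) (hq : InE x q)
    (hpq : p * q = 0) : p = 0 ∨ q = 0 := by
  obtain ⟨a, b, rfl⟩ := hp
  obtain ⟨c, d, rfl⟩ := hq
  by_contra hcon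
  push Not at hcon
  have hw : ((c • (1 : Matrix (Fin 2) (Fin 2) F) + d • x) *ᵥ ![1, 0]) ≠ 0 := by
    intro h0
    obtain ⟨h1, h2⟩ := h.injective (by intro h1; have := congrFun h1 0; simp at this) h0
    apply hcon.2
    rw [h1, h2, zero_smul, zero_smul, add_zero]
  have h3 : (a • (1 : Matrix (Fin 2) (Fin 2) F) + b • x) *ᵥ ((c • (1 : Matrix (Fin 2) (Fin 2) F) + d • x) *ᵥ ![1, 0]) = 0 := by
    rw [mulVec_mulVec, hpq, zero_mulVec]
  obtain ⟨h1, h2⟩ := h.injective hw h3
  apply hcon.1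
  rw [h1, h2, zero_smul, zero_smul, add_zero]

/-- the normalizer of `F[x]` -/
def nor (x : Matrix (Fin 2) (Fin 2) F) (hx : Irr x) : Subgroup (GL (Fin 2) F) where
  carrier := {g | InE x (g.1 * x * g⁻¹.1)}
  one_mem' := ⟨0, 1, by simp⟩
  mul_mem' := by
    rintro g h ⟨a, b, hg⟩ ⟨c, d, hh⟩
    refine ⟨c + d * a, d * b, ?_⟩
    have h1 : (g * h).1 * x * (g * h)⁻¹.1 = g.1 * (h.1 * x * h⁻¹.1) * g⁻¹.1 := by
      rw [_root_.mul_inv_rev, Units.val_mul, Units.val_mul]; noncomm_ring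
    have h2 : g.1 * g⁻¹.1 = 1 := by rw [← Units.val_mul, mul_inv_cancel, Units.val_one]
    rw [h1, hh]
    have h3 : g.1 * (c • (1 : Matrix (Fin 2) (Fin 2) F) + d • x) * g⁻¹.1 = c • (g.1 * g⁻¹.1) + d • (g.1 * x * g⁻¹.1) := by
      rw [mul_add, add_mul, mul_smul_comm, smul_mul_assoc, mul_one, mul_smul_comm, smul_mul_assoc]
    rw [h3, h2, hg, smul_add, smul_smul, smul_smul, add_smul, add_assoc]
  inv_mem' := by
    rintro g ⟨a, b, hg⟩
    have hb : b ≠ 0 := by
      rintro rfl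
      rw [zero_smul, add_zero] at hg
      have h1 : x = a • 1 := by
        calc x = g⁻¹.1 * (g.1 * x * g⁻¹.1) * g.1 := by
              have h2 : g⁻¹.1 * g.1 = 1 := by rw [← Units.val_mul, inv_mul_cancel, Units.val_one]
              calc x = (g⁻¹.1 * g.1) * x * (g⁻¹.1 * g.1) := by rw [h2, one_mul, mul_one]
                _ = _ := by noncomm_ring
          _ = a • 1 := by
              have h2 : g⁻¹.1 * g.1 = 1 := by rw [← Units.val_mul, inv_mul_cancel, Units.val_one]
              rw [hg, mul_smul_comm, smul_mul_assoc, mul_one, h2]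
      have h2 := hx.ne
      rw [h1] at h2
      simp at h2
    refine ⟨-(b⁻¹ * a), b⁻¹, ?_⟩
    have h2 : g⁻¹.1 * g.1 = 1 := by rw [← Units.val_mul, inv_mul_cancel, Units.val_one]
    have h3 : x = a • (1 : Matrix (Fin 2) (Fin 2) F) + b • (g⁻¹.1 * x * g⁻¹⁻¹.1) := by
      have h4 : g⁻¹.1 * (g.1 * x * g⁻¹.1) * g.1 = x := by
        calc g⁻¹.1 * (g.1 * x * g⁻¹.1) * g.1 = (g⁻¹.1 * g.1) * x * (g⁻¹.1 * g.1) := by noncomm_ring
          _ = x := by rw [h2, one_mul, mul_one]
      rw [inv_inv]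
      conv_lhs => rw [← h4, hg]
      rw [mul_add, add_mul, mul_smul_comm, smul_mul_assoc, mul_one, mul_smul_comm, smul_mul_assoc, h2]
    have h5 : g⁻¹.1 * x * g⁻¹⁻¹.1 = b⁻¹ • (x - a • (1 : Matrix (Fin 2) (Fin 2) F)) := by
      conv_rhs => rw [h3]
      rw [add_sub_cancel_left, smul_smul, inv_mul_cancel₀ hb, one_smul]
    rw [h5, smul_sub, smul_smul, neg_smul]
    abel

theorem mem_nor {x : Matrix (Fin 2) (Fin 2) F} {hx : Irr x} {g : GL (Fin 2) F} :
    g ∈ nor x hx ↔ InE x (g.1 * x * g⁻¹.1) := Iff.rfl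

theorem inv_mul_val (g : GL (Fin 2) F) : g⁻¹.1 * g.1 = 1 := by
  rw [← Units.val_mul, inv_mul_cancel, Units.val_one]

theorem mul_inv_val (g : GL (Fin 2) F) : g.1 * g⁻¹.1 = 1 := by
  rw [← Units.val_mul, mul_inv_cancel, Units.val_one]

theorem trace_conj (g : GL (Fin 2) F) (x : Matrix (Fin 2) (Fin 2) F) : (g.1 * x * g⁻¹.1).trace = x.trace := by
  rw [trace_mul_comm, ← mul_assoc, inv_mul_val, one_mul]

theorem det_conj (g : GL (Fin 2) F) (x : Matrix (Fin 2) (Fin 2) F) : (g.1 * x * g⁻¹.1).det = x.det := by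
  rw [det_mul_comm, ← mul_assoc, inv_mul_val, one_mul]

/-- elements normalizing `F[x]` are in `F[x]` or have trace `0` -/
theorem inE_or_trace {x : Matrix (Fin 2) (Fin 2) F} (hx : Irr x) {y : GL (Fin 2) F} (hy : y ∈ nor x hx) :
    InE x y.1 ∨ y.1.trace = 0 := by
  obtain ⟨a, b, hab⟩ := hy
  set x' := y.1 * x * y⁻¹.1 with hx'
  have hyx : y.1 * x = x' * y.1 := by
    rw [hx', mul_assoc, inv_mul_val, mul_one]
  have htr : x'.trace = x.trace := trace_conj y x
  have hdet : x'.det = x.det := det_conj y x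
  have hc' := cayley x'
  have hc := cayley x
  rw [htr, hdet] at hc'
  have hcomm : x * x' = x' * x := by
    rw [hab, mul_add, add_mul, mul_smul_comm, smul_mul_assoc, mul_smul_comm, smul_mul_assoc, mul_one, one_mul]
  have hprod : (x' - x) * (x' - (x.trace • 1 - x)) = 0 := by
    have h1 : (x' - x) * (x' - (x.trace • 1 - x)) = x' * x' - x.trace • x' + (x' * x - x * x') + (x.trace • x - x * x) := by
      simp only [sub_mul, mul_sub, mul_smul_comm, mul_one, smul_sub]
      abel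
    rw [h1, hc, hc', hcomm]
    abel
  rcases hx.eq_zero (p := x' - x) (q := x' - (x.trace • 1 - x))
    ⟨a, b - 1, by rw [hab, sub_smul, one_smul]; abel⟩
    ⟨a - x.trace, b + 1, by rw [hab, sub_smul, add_smul, one_smul]; abel⟩ hprod with h | h
  · left
    apply inE_of_comm hx
    rw [hyx, sub_eq_zero.1 h]
  · rw [sub_eq_zero] at h
    by_cases ht : y.1.trace = 0
    · exact Or.inr ht
    left
    rw [h, sub_mul, smul_mul_assoc, one_mul] at hyx
    -- `y x = τ y - x y`
    have h2 : (y.1 * y.1) * x = x * (y.1 * y.1) := by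
      calc (y.1 * y.1) * x = y.1 * (y.1 * x) := by rw [mul_assoc]
        _ = x.trace • (y.1 * y.1) - (y.1 * x) * y.1 := by
            rw [hyx, mul_sub, mul_smul_comm]
            rw [sub_mul, smul_mul_assoc]
            have : y.1 * (x * y.1) = (y.1 * x) * y.1 := by rw [mul_assoc]
            rw [this, hyx, sub_mul, smul_mul_assoc]
        _ = x * (y.1 * y.1) := by
            rw [hyx, sub_mul, smul_mul_assoc, mul_assoc]
            abel
    obtain ⟨c, d, hcd⟩ := inE_of_comm hx h2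
    refine ⟨y.1.trace⁻¹ * (c + y.1.det), y.1.trace⁻¹ * d, ?_⟩
    have h3 := cayley y.1
    rw [hcd] at h3
    have h4 : y.1 = y.1.trace⁻¹ • (c • (1 : Matrix (Fin 2) (Fin 2) F) + d • x + y.1.det • 1) := by
      rw [h3, sub_add_cancel, smul_smul, inv_mul_cancel₀ ht, one_smul]
    conv_lhs => rw [h4]
    rw [smul_add, smul_add, smul_smul, smul_smul, smul_smul, mul_add, add_smul]
    abel

theorem self_nor {x : GL (Fin 2) F} (hx : Irr x.1) (ht : x.1.trace ≠ 0) (g : GL (Fin 2) F)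
    (hg : g * x * g⁻¹ ∈ nor x.1 hx) : g ∈ nor x.1 hx := by
  rcases inE_or_trace hx hg with h | h
  · rw [mem_nor]
    rwa [Units.val_mul, Units.val_mul] at h
  · exfalso
    rw [Units.val_mul, Units.val_mul, trace_conj] at h
    exact ht h

theorem self_mem_nor {x : GL (Fin 2) F} (hx : Irr x.1) : x ∈ nor x.1 hx := by
  refine ⟨0, 1, ?_⟩
  rw [mul_assoc, mul_inv_val, mul_one, zero_smul, one_smul, zero_add]

theorem nor_le_of_inE {x y : Matrix (Fin 2) (Fin 2) F} (hx : Irr x) (hy : Irr y) (h : InE x y) :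
    nor x hx ≤ nor y hy := by
  obtain ⟨a, b, rfl⟩ := h
  have hb : b ≠ 0 := by
    rintro rfl
    have := hy.ne
    simp at this
  rintro g ⟨c, d, hg⟩
  refine ⟨a + b * c - d * a, d, ?_⟩
  have h3 : g.1 * (a • (1 : Matrix (Fin 2) (Fin 2) F) + b • x) * g⁻¹.1 = a • (g.1 * g⁻¹.1) + b • (g.1 * x * g⁻¹.1) := by
    rw [mul_add, add_mul, mul_smul_comm, smul_mul_assoc, mul_one, mul_smul_comm, smul_mul_assoc]
  rw [h3, mul_inv_val, hg, smul_add, smul_smul, smul_smul, smul_add, smul_smul, smul_smul, sub_smul, add_smul,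
    mul_comm d b]
  abel

theorem inE_symm {x y : Matrix (Fin 2) (Fin 2) F} (hy : Irr y) (h : InE x y) : InE y x := by
  obtain ⟨a, b, rfl⟩ := h
  have hb : b ≠ 0 := by
    rintro rfl
    have := hy.ne
    simp at this
  refine ⟨-(b⁻¹ * a), b⁻¹, ?_⟩
  rw [smul_add, smul_smul, smul_smul, inv_mul_cancel₀ hb, one_smul, neg_smul]
  abel

theorem nor_eq {x y : Matrix (Fin 2) (Fin 2) F} (hx : Irr x) (hy : Irr y) (h : InE x y) :
    nor x hx = nor y hy :=
  le_antisymm (nor_le_of_inE hx hy h) (nor_le_of_inE hy hx (inE_symm hy h))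

theorem center_le_nor {x : Matrix (Fin 2) (Fin 2) F} (hx : Irr x) :
    Subgroup.center (GL (Fin 2) F) ≤ nor x hx := by
  intro g hg
  rw [GeneralLinearGroup.center_eq_range_scalar] at hg
  obtain ⟨a, rfl⟩ := hg
  refine ⟨0, 1, ?_⟩
  have h1 : (GeneralLinearGroup.scalar (Fin 2) a).1 * x = x * (GeneralLinearGroup.scalar (Fin 2) a).1 := by
    ext i j
    simp [GeneralLinearGroup.scalar, Matrix.diagonal_mul, Matrix.mul_diagonal, mul_comm]
  rw [h1, mul_assoc, mul_inv_val, mul_one, zero_smul, one_smul, zero_add]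

theorem Irr.of_inE {x y : Matrix (Fin 2) (Fin 2) F} (hx : Irr x) {a b : F} (hb : b ≠ 0)
    (h : y = a • 1 + b • x) : Irr y := by
  intro w hw c hc
  have : ((a - c) • (1 : Matrix (Fin 2) (Fin 2) F) + b • x) *ᵥ w = 0 := by
    rw [h, add_mulVec, smul_mulVec, smul_mulVec, one_mulVec] at hc
    rw [add_mulVec, smul_mulVec, smul_mulVec, one_mulVec, sub_smul]
    rw [sub_add_eq_add_sub, hc, sub_self]
  exact hb (hx.injective hw this).2

/-- the unipotent element with fixed point `⟨v⟩` -/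
def uni (v : Fin 2 → F) : Matrix.SpecialLinearGroup (Fin 2) F :=
  ⟨!![1 - v 0 * v 1, v 0 * v 0; -(v 1 * v 1), 1 + v 0 * v 1], by rw [det_fin_two_of]; ring⟩

theorem uni_mulVec (v w : Fin 2 → F) :
    (uni v).1 *ᵥ w = w + (v 0 * w 1 - v 1 * w 0) • v := by
  ext i
  fin_cases i
  · simp [uni, mulVec, dotProduct]; ring
  · simp [uni, mulVec, dotProduct]; ring

theorem uni_eig {v : Fin 2 → F} (hv : v ≠ 0) (w : Fin 2 → F) (c : F) (_hw : w ≠ 0)
    (h : (uni v).1 *ᵥ w = c • w) : ∃ k : F, w = k • v := by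
  rw [uni_mulVec] at h
  by_cases hc : c = 1
  · rw [hc, one_smul] at h
    have h1 : (v 0 * w 1 - v 1 * w 0) • v = 0 := by simpa using h
    rcases smul_eq_zero.1 h1 with h2 | h2
    · by_cases h0 : v 0 = 0
      · have hv1 : v 1 ≠ 0 := by
          intro h1; apply hv; ext i; fin_cases i
          · exact h0
          · exact h1
        refine ⟨w 1 / v 1, ?_⟩
        ext i
        fin_cases i
        · simp only [Fin.zero_eta, Pi.smul_apply, smul_eq_mul]
          rw [h0, mul_zero]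
          rw [h0, zero_mul, zero_sub, neg_eq_zero] at h2
          exact (mul_eq_zero.1 h2).resolve_left hv1
        · simp [hv1]
      · refine ⟨w 0 / v 0, ?_⟩
        ext i
        fin_cases i
        · simp [h0]
        · simp only [Fin.mk_one, Pi.smul_apply, smul_eq_mul]
          field_simp
          linear_combination h2
    · exact absurd h2 hv
  · have h1 : (c - 1) • w = (v 0 * w 1 - v 1 * w 0) • v := by
      rw [sub_smul, one_smul, ← h]; abel
    refine ⟨(c - 1)⁻¹ * (v 0 * w 1 - v 1 * w 0), ?_⟩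
    rw [mul_smul, ← h1, smul_smul, inv_mul_cancel₀ (sub_ne_zero.2 hc), one_smul]

end H68.CoverPGL2
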