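import Cfsg.Agent.Lib.H68.CoverPGL2

/-! `n = 2`: no nilpotent minimal cover. -/

namespace H68.CoverPGL2

open Matrix H68.CoverPGL

variable {F : Type*} [Field F]

theorem exists_good_shift [Fintype F] (hF : 4 ≤ Fintype.card F) {y : Matrix (Fin 2) (Fin 2) F} (hy : Irr y) :
    ∃ c : F, y.trace + 2 * c ≠ 0 ∧ (y.trace + 2 * c) ^ 2 ≠ 2 * (y.det + c * y.trace + c ^ 2) := by
  by_cases h2 : (2 : F) = 0
  · have ht : y.trace ≠ 0 := by
      intro h0
      have hch : CharP F 2 := CharTwo.of_one_ne_zero_of_two_eq_zero one_ne_zero h2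
      have hsq : IsSquare y.det := FiniteField.isSquare_of_char_two (by
        exact ringChar.eq F 2) _
      obtain ⟨d, hd⟩ := hsq
      have hc := cayley y
      rw [h0, zero_smul, zero_sub, hd] at hc
      have h3 : (y - d • 1) * (y - d • 1) = 0 := by
        have h4 : (y - d • 1) * (y - d • 1) = y * y + (d * d) • (1 : Matrix (Fin 2) (Fin 2) F) - (2 * d) • y := by
          simp only [sub_mul, mul_sub, mul_smul_comm, mul_one, smul_mul_assoc, one_mul, smul_smul, two_mul, add_smul,
            smul_sub]
          abel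
        rw [h4, hc, h2, zero_mul, zero_smul]
        simp
      have h5 : InE y (y - d • 1) := ⟨-d, 1, by rw [neg_smul, one_smul]; abel⟩
      have h6 : y - d • 1 = 0 := by
        rcases hy.eq_zero h5 h5 h3 with h | h <;> exact h
      have h7 := hy.ne
      rw [sub_eq_zero.1 h6] at h7
      simp at h7
    refine ⟨0, by simpa using ht, ?_⟩
    rw [h2, zero_mul, zero_mul, add_zero]
    exact pow_ne_zero 2 ht
  · let P : Polynomial F := (Polynomial.C y.trace + Polynomial.C 2 * Polynomial.X) *
      (Polynomial.C 2 * Polynomial.X ^ 2 + Polynomial.C (2 * y.trace) * Polynomial.X + Polynomial.C (y.trace ^ 2 - 2 * y.det))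
    have hP1 : (Polynomial.C y.trace + Polynomial.C 2 * Polynomial.X : Polynomial F) ≠ 0 := by
      intro h
      have := congrArg (fun q => Polynomial.coeff q 1) h
      simp [Polynomial.coeff_C] at this
      exact h2 this
    have hP2 : (Polynomial.C 2 * Polynomial.X ^ 2 + Polynomial.C (2 * y.trace) * Polynomial.X + Polynomial.C (y.trace ^ 2 - 2 * y.det) : Polynomial F) ≠ 0 := by
      intro h
      have := congrArg (fun q => Polynomial.coeff q 2) h
      simp only [Polynomial.coeff_add, Polynomial.coeff_C_mul, Polynomial.coeff_X_pow, Polynomial.coeff_X,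
        Polynomial.coeff_C, Polynomial.coeff_zero] at this
      norm_num at this
      exact h2 this
    have hP : P ≠ 0 := mul_ne_zero hP1 hP2
    have hdeg : P.natDegree < Cardinal.mk F := by
      have h3 : P.natDegree ≤ 3 := by
        simp only [P]
        compute_degree
      rw [Cardinal.mk_fintype]
      exact_mod_cast (by omega : P.natDegree < Fintype.card F)
    obtain ⟨c, hc⟩ := Polynomial.exists_eval_ne_zero_of_natDegree_lt_card P hP hdeg
    simp only [P, Polynomial.eval_mul, Polynomial.eval_add, Polynomial.eval_C, Polynomial.eval_X, Polynomial.eval_pow] at hc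
    refine ⟨c, fun h => hc ?_, fun h => hc ?_⟩
    · rw [h, zero_mul]
    · have : 2 * c ^ 2 + 2 * y.trace * c + (y.trace ^ 2 - 2 * y.det) = 0 := by linear_combination h
      rw [this, mul_zero]

theorem exists_nice [Fintype F] (hF : 4 ≤ Fintype.card F) {y : Matrix (Fin 2) (Fin 2) F} (hy : Irr y) :
    ∃ x : Matrix.SpecialLinearGroup (Fin 2) F, Irr x.1 ∧ x.1.trace ≠ 0 ∧ InE y x.1 := by
  obtain ⟨c, h1, h2⟩ := exists_good_shift hF hy
  set z : Matrix (Fin 2) (Fin 2) F := c • 1 + (1 : F) • y with hz
  have htr : z.trace = y.trace + 2 * c := by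
    rw [hz]; simp [trace_fin_two]; ring
  have hdet : z.det = y.det + c * y.trace + c ^ 2 := by
    rw [hz]; simp [det_fin_two, trace_fin_two]; ring
  have hzI : Irr z := Irr.of_inE hy one_ne_zero hz
  have hz0 : z.det ≠ 0 := by
    intro h0
    obtain ⟨w, hw, hw0⟩ := Matrix.exists_mulVec_eq_zero_iff.2 h0
    exact hzI w hw 0 (by rw [hw0, zero_smul])
  have hc := cayley z
  have hx : (z.det⁻¹ • (z * z)).det = 1 := by
    rw [det_smul, det_mul, Fintype.card_fin]
    field_simp
  have hform : z.det⁻¹ • (z * z) = (z.det⁻¹ * z.trace * c - 1) • (1 : Matrix (Fin 2) (Fin 2) F) + (z.det⁻¹ * z.trace) • y := by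
    rw [hc, smul_sub, smul_smul, smul_smul, inv_mul_cancel₀ hz0]
    conv_lhs => rw [hz]
    rw [smul_add, smul_smul, smul_smul, mul_one, ← hz, sub_smul]
    abel
  refine ⟨⟨_, hx⟩, ?_, ?_, ?_⟩
  · exact Irr.of_inE hy (mul_ne_zero (inv_ne_zero hz0) (by rw [htr]; exact h1)) hform
  · change (z.det⁻¹ • (z * z)).trace ≠ 0
    rw [trace_smul, hc, trace_sub, trace_smul, trace_smul, trace_one, Fintype.card_fin]
    intro h3
    rw [smul_eq_mul, smul_eq_mul, smul_eq_mul] at h3
    have h4 := (mul_eq_zero.1 h3).resolve_left (inv_ne_zero hz0)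
    apply h2
    rw [← htr, ← hdet]
    push_cast at h4
    linear_combination h4
  · exact ⟨_, _, hform⟩

/-- the diagonal element -/
def dia (a : F) (ha : a ≠ 0) : Matrix.SpecialLinearGroup (Fin 2) F :=
  ⟨!![a, 0; 0, a⁻¹], by rw [det_fin_two_of, mul_inv_cancel₀ ha]; ring⟩

theorem dia_not_inE {a : F} (ha : a ≠ 0) (ha2 : a ^ 2 ≠ 1) {x : Matrix (Fin 2) (Fin 2) F} (hx : Irr x) :
    ¬ InE x (dia a ha).1 := by
  rintro ⟨c, d, h⟩
  by_cases hd : d = 0
  · rw [hd, zero_smul, add_zero] at h
    have h0 := congrFun (congrFun h 0) 0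
    have h1 := congrFun (congrFun h 1) 1
    simp [dia] at h0 h1
    apply ha2
    rw [← h0] at h1
    rw [sq]
    nth_rewrite 1 [← h1]
    exact inv_mul_cancel₀ ha
  · have h1 := Irr.of_inE hx hd h
    apply h1.ne
    simp [dia]

theorem exists_a [Fintype F] (hF : 4 ≤ Fintype.card F) :
    ∃ a : F, a ≠ 0 ∧ a ^ 2 ≠ 1 ∧ (Fintype.card F = 5 ∨ a ^ 4 ≠ 1) := by
  classical
  by_cases h5 : Fintype.card F = 5
  · let P : Polynomial F := Polynomial.X * (Polynomial.X ^ 2 - 1)
    have hP : P ≠ 0 := by
      apply mul_ne_zero Polynomial.X_ne_zero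
      exact Polynomial.X_pow_sub_C_ne_zero (by norm_num) 1
    have hdeg : P.natDegree < Cardinal.mk F := by
      have h3 : P.natDegree ≤ 3 := by
        simp only [P]
        compute_degree
      rw [Cardinal.mk_fintype]
      exact_mod_cast (by omega : P.natDegree < Fintype.card F)
    obtain ⟨c, hc⟩ := Polynomial.exists_eval_ne_zero_of_natDegree_lt_card P hP hdeg
    simp only [P, Polynomial.eval_mul, Polynomial.eval_X, Polynomial.eval_sub, Polynomial.eval_pow, Polynomial.eval_one] at hc
    refine ⟨c, fun h => hc (by rw [h, zero_mul]), fun h => hc (by rw [h, sub_self, mul_zero]), Or.inl h5⟩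
  by_cases h4 : Fintype.card F = 4
  · obtain ⟨a, ha⟩ : ∃ a : F, a ∉ ({0, 1} : Finset F) := by
      by_contra hcon
      push Not at hcon
      have h1 : (Finset.univ : Finset F) ⊆ {0, 1} := fun a _ => hcon a
      have h2 := Finset.card_le_card h1
      have h3 : ({0, 1} : Finset F).card ≤ 2 := Finset.card_le_two
      rw [Finset.card_univ] at h2
      omega
    simp only [Finset.mem_insert, Finset.mem_singleton, not_or] at ha
    have h3 : a ^ 3 = 1 := by
      have := FiniteField.pow_card_sub_one_eq_one a ha.1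
      rwa [h4] at this
    refine ⟨a, ha.1, ?_, Or.inr ?_⟩
    · intro h
      apply ha.2
      have : a ^ 3 = a ^ 2 * a := by ring
      rw [h, one_mul] at this
      rw [← this, h3]
    · intro h
      apply ha.2
      have : a ^ 4 = a ^ 3 * a := by ring
      rw [h3, one_mul] at this
      rw [← this, h]
  · let P : Polynomial F := Polynomial.X * (Polynomial.X ^ 4 - 1)
    have hP : P ≠ 0 := by
      apply mul_ne_zero Polynomial.X_ne_zero
      exact Polynomial.X_pow_sub_C_ne_zero (by norm_num) 1
    have hdeg : P.natDegree < Cardinal.mk F := by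
      have h3 : P.natDegree ≤ 5 := by
        simp only [P]
        compute_degree
      rw [Cardinal.mk_fintype]
      exact_mod_cast (by omega : P.natDegree < Fintype.card F)
    obtain ⟨c, hc⟩ := Polynomial.exists_eval_ne_zero_of_natDegree_lt_card P hP hdeg
    simp only [P, Polynomial.eval_mul, Polynomial.eval_X, Polynomial.eval_sub, Polynomial.eval_pow, Polynomial.eval_one] at hc
    have hc4 : c ^ 4 ≠ 1 := fun h => hc (by rw [h, sub_self, mul_zero])
    refine ⟨c, fun h => hc (by rw [h, zero_mul]), fun h => hc4 ?_, Or.inr hc4⟩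
    rw [show c ^ 4 = (c ^ 2) ^ 2 by ring, h, one_pow]

theorem commute_of_nilp {G : Type*} [Group G] [Finite G] {p : ℕ} [hp : Fact p.Prime] {x g : G}
    {A : Subgroup G} (hA : Group.IsNilpotent A) (hxA : x ∈ A) (hgA : g ∈ A)
    (hx : Nat.Coprime (orderOf x) p) {k : ℕ} (hg : g ^ p ^ k = 1) : Commute x g := by
  obtain ⟨j, _, hj⟩ := (Nat.dvd_prime_pow hp.out).1 (orderOf_dvd_of_pow_eq_one hg)
  apply H68.Hyper.commute_of_isNilpotent (p := p) _ hx hj
  have hle : Subgroup.closure ({x, g} : Set G) ≤ A := by
    rw [Subgroup.closure_le]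
    rintro y (rfl | hy)
    · exact hxA
    · rw [Set.mem_singleton_iff] at hy
      subst hy
      exact hgA
  exact Subgroup.isNilpotent_of_ker_le_center (Subgroup.inclusion hle) (by
            rw [(MonoidHom.ker_eq_bot_iff _).2 (Subgroup.inclusion_injective hle)]; exact bot_le)

theorem uni_pow (p : ℕ) [hp : Fact p.Prime] [CharP F p] (v : Fin 2 → F) : (uni v) ^ p = 1 := by
  suffices h : (uni v).1 ^ p = 1 from Subtype.ext ((Matrix.SpecialLinearGroup.coe_pow (uni v) p).trans h)
  set N : Matrix (Fin 2) (Fin 2) F := (uni v).1 - 1 with hN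
  have hNN : N * N = 0 := by
    ext i j
    fin_cases i <;> fin_cases j <;> simp [hN, uni, mul_apply] <;> ring
  have h1 : (uni v).1 = 1 + N := by rw [hN]; abel
  have : CharP (Matrix (Fin 2) (Fin 2) F) p := inferInstance
  rw [h1, add_pow_char_of_commute _ (Commute.one_left N), one_pow]
  have h2 : N ^ p = 0 := by
    obtain ⟨k, hk⟩ : ∃ k, p = k + 2 := ⟨p - 2, by have := hp.out.two_le; omega⟩
    rw [hk, pow_add, sq, hNN, mul_zero]
  rw [h2, add_zero]

theorem dia_pow [Fintype F] {a : F} (ha : a ≠ 0) (k : ℕ) (hk : a ^ k = 1) : (dia a ha) ^ k = 1 := by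
  suffices h : (dia a ha).1 ^ k = 1 from Subtype.ext ((Matrix.SpecialLinearGroup.coe_pow (dia a ha) k).trans h)
  have h1 : (dia a ha).1 = diagonal ![a, a⁻¹] := by
    ext i j
    fin_cases i <;> fin_cases j <;> simp [dia]
  rw [h1, diagonal_pow]
  ext i j
  fin_cases i <;> fin_cases j <;> simp [hk]


theorem no_cover_two [Fintype F] (hF : 4 ≤ Fintype.card F)
    (G : Subgroup (GL (Fin 2) F ⧸ Subgroup.center (GL (Fin 2) F)))
    (hG : ((Matrix.SpecialLinearGroup.toGL : Matrix.SpecialLinearGroup (Fin 2) F →* GL (Fin 2) F).range).map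
      (QuotientGroup.mk' (Subgroup.center (GL (Fin 2) F))) ≤ G) :
    ¬ ∃ 𝓐 : Finset (Subgroup ↥G), ((∀ A ∈ 𝓐, A ≠ ⊤) ∧ (∀ g : ↥G, ∃ A ∈ 𝓐, g ∈ A)) ∧ (∀ 𝓑 : Finset (Subgroup ↥G), (∀ A ∈ 𝓑, A ≠ ⊤) ∧ (∀ g : ↥G, ∃ A ∈ 𝓑, g ∈ A) → 𝓐.card ≤ 𝓑.card) ∧ (∀ A ∈ 𝓐, Group.IsNilpotent ↥A) := by
  classical
  have hfin : Finite (GL (Fin 2) F ⧸ Subgroup.center (GL (Fin 2) F)) := inferInstance
  have : Fintype (Subgroup ↥G) := Fintype.ofFinite _
  set π := QuotientGroup.mk' (Subgroup.center (GL (Fin 2) F)) with hπ
  have hG' : ∀ s : Matrix.SpecialLinearGroup (Fin 2) F, π (Matrix.SpecialLinearGroup.toGL s) ∈ G :=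
    fun s => hG ⟨_, ⟨s, rfl⟩, rfl⟩
  let τ : Matrix.SpecialLinearGroup (Fin 2) F →* G :=
    { toFun := fun s => ⟨π (Matrix.SpecialLinearGroup.toGL s), hG' s⟩
      map_one' := by ext; simp
      map_mul' := fun a b => by ext; simp }
  have hτ : ∀ s, π (Matrix.SpecialLinearGroup.toGL s) = τ s := fun s => rfl
  obtain ⟨p, hpchar⟩ := CharP.exists F
  have hp : Fact p.Prime := ⟨CharP.char_is_prime F p⟩
  obtain ⟨a, ha, ha2, ha4⟩ := exists_a hF
  -- good elements
  let Good : Subgroup G → Matrix.SpecialLinearGroup (Fin 2) F → Prop := fun H s =>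
    (∃ v : Fin 2 → F, v ≠ 0 ∧ H = hat G (stab v) ∧ s = uni v) ∨
      (∃ hx : Irr s.1, s.1.trace ≠ 0 ∧ H = hat G (nor s.1 hx))
  let 𝓗 : Finset (Subgroup G) := Finset.univ.filter (fun H => ∃ s, Good H s)
  have h𝓗 : ∀ H, H ∈ 𝓗 ↔ ∃ s, Good H s := fun H => by simp [𝓗]
  -- nilpotent groups containing a good element
  have hle : ∀ H s, Good H s → ∀ A : Subgroup G, Group.IsNilpotent A → τ s ∈ A → A ≤ H := by
    rintro H s (⟨v, hv, rfl, rfl⟩ | ⟨hx, ht, rfl⟩) A hA hsA
    · apply H68.Cover.le_of_isNilpotent (u := τ (uni v)) _ _ hA hsA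
      · rw [mem_hat (center_le_stab v) (hτ _)]
        refine ⟨1, ?_⟩
        rw [Units.val_one, one_smul]
        change (uni v).1 *ᵥ v = v
        rw [uni_mulVec]
        simp [mul_comm]
      · apply self_hat (center_le_stab v) (hτ _)
        exact self_stab (fun w c hw h => uni_eig hv w c hw h) hv
    · apply H68.Cover.le_of_isNilpotent (u := τ s) _ _ hA hsA
      · rw [mem_hat (center_le_nor hx) (hτ _)]
        exact self_mem_nor (x := Matrix.SpecialLinearGroup.toGL s) hx
      · apply self_hat (center_le_nor hx) (hτ _)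
        exact self_nor (x := Matrix.SpecialLinearGroup.toGL s) hx ht
  -- two good elements in the same nilpotent group
  have hgood : ∀ H s H' s', Good H s → Good H' s' → ∀ A : Subgroup G, Group.IsNilpotent A → τ s ∈ A →
      τ s' ∈ A → H = H' := by
    intro H s H' s' h1 h2 A hA hs hs'
    have hAH := hle H s h1 A hA hs
    have hAH' := hle H' s' h2 A hA hs'
    rcases h1 with ⟨v, hv, rfl, rfl⟩ | ⟨hx, ht, rfl⟩ <;> rcases h2 with ⟨w, hw, rfl, rfl⟩ | ⟨hx', ht', rfl⟩
    · have h3 := hAH' hs
      rw [mem_hat (center_le_stab w) (hτ _)] at h3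
      obtain ⟨c, hc⟩ := h3
      obtain ⟨k, hk⟩ := uni_eig hv w c hw hc
      have hk0 : k ≠ 0 := by rintro rfl; rw [zero_smul] at hk; exact hw hk
      have : stab v = stab w := by
        ext g
        rw [mem_stab, mem_stab, hk]
        constructor
        · rintro ⟨c, hc⟩
          exact ⟨c, by rw [mulVec_smul, hc, smul_comm]⟩
        · rintro ⟨c, hc⟩
          refine ⟨c, ?_⟩
          rw [mulVec_smul, smul_comm] at hc
          exact smul_right_injective _ hk0 hc
      rw [this]
    · exfalso
      have h3 := hAH hs'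
      rw [mem_hat (center_le_stab v) (hτ _)] at h3
      obtain ⟨c, hc⟩ := h3
      exact hx' v hv c hc
    · exfalso
      have h3 := hAH' hs
      rw [mem_hat (center_le_stab w) (hτ _)] at h3
      obtain ⟨c, hc⟩ := h3
      exact hx w hw c hc
    · have h3 := hAH' hs
      rw [mem_hat (center_le_nor hx') (hτ _)] at h3
      rcases inE_or_trace hx' h3 with h4 | h4
      · rw [nor_eq hx' hx h4]
      · exact absurd h4 ht
  -- the diagonal element
  have hqp : ∃ k : ℕ, Fintype.card F = p ^ k := by
    obtain ⟨k, _, hk⟩ := FiniteField.card F p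
    exact ⟨k, hk⟩
  have hcomm0 : ∀ s : Matrix.SpecialLinearGroup (Fin 2) F, Commute (τ (dia a ha)) (τ s) →
      ∃ c : F, (dia a ha).1 * s.1 = c • (s.1 * (dia a ha).1) := by
    intro s hs
    have h1 : τ (dia a ha * s) = τ (s * dia a ha) := by rw [map_mul, map_mul]; exact hs.eq
    have h2 := congrArg Subtype.val h1
    change π (Matrix.SpecialLinearGroup.toGL (dia a ha * s)) = π (Matrix.SpecialLinearGroup.toGL (s * dia a ha)) at h2
    rw [hπ, QuotientGroup.mk'_apply, QuotientGroup.mk'_apply, eq_comm, QuotientGroup.eq,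
      GeneralLinearGroup.center_eq_range_scalar] at h2
    obtain ⟨c, hc⟩ := h2
    refine ⟨c, ?_⟩
    rw [eq_inv_mul_iff_mul_eq] at hc
    have h3 := congrArg Units.val hc
    rw [Units.val_mul] at h3
    change (s.1 * (dia a ha).1) * (GeneralLinearGroup.scalar (Fin 2) c).1 = (dia a ha).1 * s.1 at h3
    rw [← h3]
    ext i j
    simp [GeneralLinearGroup.scalar, Matrix.mul_diagonal, mul_comm]
  have hdia : ∀ H s, Good H s → ∀ A : Subgroup G, Group.IsNilpotent A → τ (dia a ha) ∈ A → τ s ∈ A → False := by
    intro H s h A hA hdA hsA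
    have hAH := hle H s h A hA hsA
    rcases h with ⟨v, hv, rfl, rfl⟩ | ⟨hx, ht, rfl⟩
    · -- unipotent element
      have hord : Nat.Coprime (orderOf (τ (dia a ha))) p := by
        have h1 : τ (dia a ha) ^ (Fintype.card F - 1) = 1 := by
          rw [← map_pow, dia_pow ha _ (FiniteField.pow_card_sub_one_eq_one a ha), map_one]
        have h2 := orderOf_dvd_of_pow_eq_one h1
        apply Nat.Coprime.coprime_dvd_left h2
        obtain ⟨k, hk⟩ := hqp
        rw [Nat.coprime_comm, hp.out.coprime_iff_not_dvd]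
        intro h3
        have hk0 : k ≠ 0 := by rintro rfl; rw [hk] at hF; norm_num at hF
        have h4 : p ∣ Fintype.card F := by rw [hk]; exact dvd_pow_self p hk0
        have h5 := (Nat.dvd_sub_iff_right (by omega) h4).1 h3
        exact hp.out.one_lt.not_ge (Nat.le_of_dvd one_pos h5)
      have hcm := commute_of_nilp (p := p) hA hdA hsA hord (k := 1) (by
        rw [pow_one, ← map_pow, uni_pow p, map_one])
      obtain ⟨c, hc⟩ := hcomm0 _ hcm
      -- `c = 1`
      have e00 := congrFun (congrFun hc 0) 0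
      have e01 := congrFun (congrFun hc 0) 1
      have e10 := congrFun (congrFun hc 1) 0
      have e11 := congrFun (congrFun hc 1) 1
      have hda : ∀ i j, (dia a ha).1 i j = (!![a, 0; 0, a⁻¹] : Matrix (Fin 2) (Fin 2) F) i j := fun i j => rfl
      have hun : ∀ i j, (uni v).1 i j = (!![1 - v 0 * v 1, v 0 * v 0; -(v 1 * v 1), 1 + v 0 * v 1] : Matrix (Fin 2) (Fin 2) F) i j :=
        fun i j => rfl
      simp only [mul_apply, Fin.sum_univ_two, Matrix.smul_apply, hda, hun, smul_eq_mul] at e00 e01 e10 e11
      simp at e00 e01 e10 e11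
      have hab : a - a⁻¹ ≠ 0 := by
        intro h; apply ha2
        have : a = a⁻¹ := sub_eq_zero.1 h
        rw [sq]; nth_rewrite 2 [this]; exact mul_inv_cancel₀ ha
      have hai : a⁻¹ ≠ 0 := inv_ne_zero ha
      by_cases hc1 : c = 1
      · apply hv
        rw [hc1] at e01 e10
        have hv0 : v 0 = 0 := by
          have : (a - a⁻¹) * (v 0 * v 0) = 0 := by linear_combination e01
          exact mul_self_eq_zero.1 ((mul_eq_zero.1 this).resolve_left hab)
        have hv1 : v 1 = 0 := by
          have : (a - a⁻¹) * (v 1 * v 1) = 0 := by linear_combination -e10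
          exact mul_self_eq_zero.1 ((mul_eq_zero.1 this).resolve_left hab)
        ext i; fin_cases i
        · exact hv0
        · exact hv1
      · have hc1' : c - 1 ≠ 0 := sub_ne_zero.2 hc1
        have h1 : 1 - v 0 * v 1 = 0 := by
          have : (c - 1) * (a * (1 - v 0 * v 1)) = 0 := by linear_combination -e00
          exact (mul_eq_zero.1 ((mul_eq_zero.1 this).resolve_left hc1')).resolve_left ha
        have h2 : 1 + v 0 * v 1 = 0 := by
          have : (c - 1) * (a⁻¹ * (1 + v 0 * v 1)) = 0 := by linear_combination -e11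
          exact (mul_eq_zero.1 ((mul_eq_zero.1 this).resolve_left hc1')).resolve_left hai
        have h20 : (2 : F) = 0 := by linear_combination h1 + h2
        have hv01 : v 0 * v 1 ≠ 0 := by
          intro h; rw [h, sub_zero] at h1; exact one_ne_zero h1
        have hv0 : v 0 ≠ 0 := left_ne_zero_of_mul hv01
        have hv1 : v 1 ≠ 0 := right_ne_zero_of_mul hv01
        have h3 : a - c * a⁻¹ = 0 := by
          have : (v 0 * v 0) * (a - c * a⁻¹) = 0 := by linear_combination e01
          exact (mul_eq_zero.1 this).resolve_left (mul_ne_zero hv0 hv0)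
        have h4 : a⁻¹ - c * a = 0 := by
          have : (v 1 * v 1) * (a⁻¹ - c * a) = 0 := by linear_combination e10
          exact (mul_eq_zero.1 this).resolve_left (mul_ne_zero hv1 hv1)
        have h5 : (c - 1) * (c - 1) = 0 := by
          have h6 : a * (1 - c * c) = 0 := by linear_combination h3 + c * h4
          have h7 := (mul_eq_zero.1 h6).resolve_left ha
          linear_combination -h7 + (1 - c) * h20
        exact hc1' (mul_self_eq_zero.1 h5)
    · -- nonsplit torus
      have hdn : τ (dia a ha) ∈ hat G (nor s.1 hx) := hAH hdA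
      rw [mem_hat (center_le_nor hx) (hτ _)] at hdn
      rcases inE_or_trace hx hdn with h4 | h4
      · exact dia_not_inE ha ha2 hx h4
      · have h5 : a + a⁻¹ = 0 := by
          change (dia a ha).1.trace = 0 at h4
          rw [trace_fin_two] at h4
          simpa [dia] using h4
        have h6 : a ^ 2 = -1 := by
          have : a * (a + a⁻¹) = 0 := by rw [h5, mul_zero]
          rw [mul_add, mul_inv_cancel₀ ha] at this
          linear_combination this
        have h7 : a ^ 4 = 1 := by
          rw [show a ^ 4 = (a ^ 2) ^ 2 by ring, h6]; ring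
        have hF5 : Fintype.card F = 5 := by
          rcases ha4 with h | h
          · exact h
          · exact absurd h7 h
        have h50 : (5 : F) = 0 := by
          have := FiniteField.cast_card_eq_zero F
          rw [hF5] at this
          exact_mod_cast this
        have hdet : s.1.det = 1 := s.2
        have hcay := cayley s.1
        rw [hdet, one_smul] at hcay
        set t := s.1.trace with htdef
        have ht4 : t ^ 4 = 1 := by
          have := FiniteField.pow_card_sub_one_eq_one t ht
          rwa [hF5] at this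
        have ht2 : t ^ 2 = 1 := by
          have h8 : (t ^ 2 - 1) * (t ^ 2 + 1) = 0 := by linear_combination ht4
          rcases mul_eq_zero.1 h8 with h9 | h9
          · linear_combination h9
          · exfalso
            have h10 : (s.1 - (3 * t) • 1) * (s.1 - (3 * t) • 1) = 0 := by
              have h11 : (s.1 - (3 * t) • 1) * (s.1 - (3 * t) • 1) =
                  s.1 * s.1 - (6 * t) • s.1 + (9 * t ^ 2) • (1 : Matrix (Fin 2) (Fin 2) F) := by
                ext i j
                fin_cases i <;> fin_cases j <;> simp [mul_apply] <;> ring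
              rw [h11, hcay]
              have h12 : t • s.1 - 1 - (6 * t) • s.1 + (9 * t ^ 2) • (1 : Matrix (Fin 2) (Fin 2) F) =
                  (-(5 * t)) • s.1 + (9 * t ^ 2 - 1) • (1 : Matrix (Fin 2) (Fin 2) F) := by
                rw [sub_smul, one_smul, show -(5 * t) = t - 6 * t by ring, sub_smul]
                abel
              have h13 : 9 * t ^ 2 - 1 = (0 : F) := by linear_combination 9 * h9 - 2 * h50
              rw [h12, h50, h13, zero_mul, neg_zero, zero_smul, zero_smul, add_zero]
            have h14 : InE s.1 (s.1 - (3 * t) • 1) := ⟨-(3 * t), 1, by rw [neg_smul, one_smul]; abel⟩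
            have h15 : s.1 - (3 * t) • 1 = 0 := by
              rcases hx.eq_zero h14 h14 h10 with h | h <;> exact h
            have h16 := hx.ne
            rw [sub_eq_zero.1 h15] at h16
            simp at h16
        have hone : ∀ z : Matrix.SpecialLinearGroup (Fin 2) F, (∃ c : F, z.1 = c • (1 : Matrix (Fin 2) (Fin 2) F)) → τ z = 1 := by
          rintro z ⟨c, hz⟩
          apply Subtype.ext
          change π (Matrix.SpecialLinearGroup.toGL z) = 1
          rw [hπ, QuotientGroup.mk'_apply, QuotientGroup.eq_one_iff,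
            GeneralLinearGroup.mem_center_iff_val_mem_range_scalar]
          refine ⟨c, ?_⟩
          change _ = z.1
          rw [hz]
          ext i j
          simp [Matrix.diagonal_apply, Matrix.one_apply]
        have hs3 : (τ s) ^ 3 = 1 := by
          rw [← map_pow]
          apply hone
          refine ⟨-t, ?_⟩
          refine (Matrix.SpecialLinearGroup.coe_pow s 3).trans ?_
          change s.1 ^ 3 = _
          have h17 : s.1 ^ 3 = s.1 * (s.1 * s.1) := by rw [pow_succ', sq]
          have h18 : s.1 * (t • s.1 - 1) = t • (s.1 * s.1) - s.1 := by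
            rw [mul_sub, mul_smul_comm, mul_one]
          rw [h17, hcay, h18, hcay, smul_sub, smul_smul, ← sq, ht2, one_smul, neg_smul]
          abel
        have hd2 : (τ (dia a ha)) ^ 2 = 1 := by
          rw [← map_pow]
          apply hone
          refine ⟨-1, ?_⟩
          refine (Matrix.SpecialLinearGroup.coe_pow _ 2).trans ?_
          change (dia a ha).1 ^ 2 = _
          have h19 : (a⁻¹) ^ 2 = -1 := by rw [inv_pow, h6]; norm_num
          rw [sq] at h6 h19 ⊢
          ext i j
          fin_cases i <;> fin_cases j <;> simp [dia, mul_apply, h6]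
          rw [← mul_inv, h6]; norm_num
        have h3p : Fact (Nat.Prime 3) := ⟨Nat.prime_three⟩
        have hord : Nat.Coprime (orderOf (τ (dia a ha))) 3 :=
          Nat.Coprime.coprime_dvd_left (orderOf_dvd_of_pow_eq_one hd2) (by norm_num)
        have hcm := commute_of_nilp (p := 3) hA hdA hsA hord (k := 1) (by rw [pow_one]; exact hs3)
        obtain ⟨c, hc⟩ := hcomm0 _ hcm
        have hdd : (dia a ha).1 * (dia a ha)⁻¹.1 = 1 := by
          have := congrArg Subtype.val (mul_inv_cancel (dia a ha))
          exact this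
        have hdd' : (dia a ha)⁻¹.1 * (dia a ha).1 = 1 := by
          have := congrArg Subtype.val (inv_mul_cancel (dia a ha))
          exact this
        have hc1 : c = 1 := by
          have h20 : ((dia a ha).1 * s.1 * (dia a ha)⁻¹.1).trace = t := by
            rw [trace_mul_comm, ← mul_assoc, hdd', one_mul]
          rw [hc, smul_mul_assoc, mul_assoc, hdd, mul_one, trace_smul, smul_eq_mul] at h20
          have h21 : c * t = 1 * t := by rw [one_mul]; exact h20
          exact mul_right_cancel₀ ht h21
        rw [hc1, one_smul] at hc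
        exact dia_not_inE ha ha2 hx (inE_of_comm hx hc)
  choose f hf using fun H : {H // H ∈ 𝓗} => (h𝓗 H.1).1 H.2
  apply H68.Cover.not_isNilMin_of_cover 𝓗 _ _ (ι := Option {H // H ∈ 𝓗}) _
    (fun i => match i with
      | none => τ (dia a ha)
      | some H => τ (f H))
  · intro i j A hA hi hj
    rcases i with _ | H <;> rcases j with _ | H'
    · rfl
    · exact (hdia _ _ (hf H') A hA hi hj).elim
    · exact (hdia _ _ (hf H) A hA hj hi).elim
    · rw [Subtype.ext (hgood _ _ _ _ (hf H) (hf H') A hA hi hj)]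
  · intro H hH htop
    obtain ⟨s, hs⟩ := (h𝓗 H).1 hH
    rcases hs with ⟨v, hv, rfl, rfl⟩ | ⟨hx, ht, rfl⟩
    · have key : ∀ w : Fin 2 → F, w ≠ 0 → ∃ k : F, v = k • w := by
        intro w hw
        have h1 : τ (uni w) ∈ hat G (stab v) := htop ▸ Subgroup.mem_top _
        rw [mem_hat (center_le_stab v) (hτ _)] at h1
        obtain ⟨c, hc⟩ := h1
        exact uni_eig hw v c hv hc
      obtain ⟨k, hk⟩ := key ![1, 0] (by intro h; have := congrFun h 0; simp at this)
      obtain ⟨l, hl⟩ := key ![0, 1] (by intro h; have := congrFun h 1; simp at this)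
      apply hv
      ext i
      fin_cases i
      · have := congrFun hl 0; simpa using this
      · have := congrFun hk 1; simpa using this
    · have h1 : τ (dia a ha) ∈ hat G (nor s.1 hx) := htop ▸ Subgroup.mem_top _
      have h2 : τ (uni ![1, 0]) ∈ hat G (nor s.1 hx) := htop ▸ Subgroup.mem_top _
      rw [mem_hat (center_le_nor hx) (hτ _)] at h1 h2
      have h3 : a + a⁻¹ = 0 := by
        rcases inE_or_trace hx h1 with h4 | h4
        · exact (dia_not_inE ha ha2 hx h4).elim
        · change (dia a ha).1.trace = 0 at h4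
          rw [trace_fin_two] at h4
          simpa [dia] using h4
      rcases inE_or_trace hx h2 with h4 | h4
      · obtain ⟨c, d, hcd⟩ := h4
        change (uni ![1, 0]).1 = _ at hcd
        by_cases hd : d = 0
        · rw [hd, zero_smul, add_zero] at hcd
          have := congrFun (congrFun hcd 0) 1
          simp [uni] at this
        · have h5 := (Irr.of_inE hx hd hcd).ne
          simp [uni] at h5
      · change (uni ![1, 0]).1.trace = 0 at h4
        rw [trace_fin_two] at h4
        simp [uni] at h4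
        apply ha2
        have h5 : a * (a + a⁻¹) = 0 := by rw [h3, mul_zero]
        rw [mul_add, mul_inv_cancel₀ ha] at h5
        linear_combination h5 - h4
  · intro g
    obtain ⟨x, hx⟩ := exists_lift g
    by_cases hI : Irr x.1
    · obtain ⟨s, hs, hst, hxs⟩ := exists_nice hF hI
      refine ⟨hat G (nor s.1 hs), (h𝓗 _).2 ⟨s, Or.inr ⟨hs, hst, rfl⟩⟩, ?_⟩
      rw [mem_hat (center_le_nor hs) hx, ← nor_eq hI hs hxs]
      exact self_mem_nor hI
    · simp only [Irr] at hI
      push Not at hI
      obtain ⟨w, hw, c, hc⟩ := hI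
      refine ⟨hat G (stab w), (h𝓗 _).2 ⟨uni w, Or.inl ⟨w, hw, rfl, rfl⟩⟩, ?_⟩
      rw [mem_hat (center_le_stab w) hx]
      have hc0 : c ≠ 0 := by
        rintro rfl
        rw [zero_smul] at hc
        apply hw
        have h1 : x⁻¹.1 *ᵥ (x.1 *ᵥ w) = w := by
          rw [mulVec_mulVec, inv_mul_val, one_mulVec]
        rw [← h1, hc, mulVec_zero]
      exact ⟨Units.mk0 c hc0, hc⟩
  · rw [Fintype.card_option, Fintype.card_coe]
    omega

end H68.CoverPGL2
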