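import Cfsg.Agent.Lib.H68.CoverPGL

/-! `n ≥ 3`: no nilpotent minimal cover. -/

namespace H68.CoverPGL

open Matrix

variable {F : Type*} [Field F] {n : ℕ}

theorem no_cover_three [Fintype F] (hn : 3 ≤ n)
    (G : Subgroup (GL (Fin n) F ⧸ Subgroup.center (GL (Fin n) F)))
    (hG : ((Matrix.SpecialLinearGroup.toGL : Matrix.SpecialLinearGroup (Fin n) F →* GL (Fin n) F).range).map
      (QuotientGroup.mk' (Subgroup.center (GL (Fin n) F))) ≤ G) :
    ¬ ∃ 𝓐 : Finset (Subgroup ↥G), ((∀ A ∈ 𝓐, A ≠ ⊤) ∧ (∀ g : ↥G, ∃ A ∈ 𝓐, g ∈ A)) ∧ (∀ 𝓑 : Finset (Subgroup ↥G), (∀ A ∈ 𝓑, A ≠ ⊤) ∧ (∀ g : ↥G, ∃ A ∈ 𝓑, g ∈ A) → 𝓐.card ≤ 𝓑.card) ∧ (∀ A ∈ 𝓐, Group.IsNilpotent ↥A) := by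
  classical
  have : Finite (GL (Fin n) F ⧸ Subgroup.center (GL (Fin n) F)) := inferInstance
  set π := QuotientGroup.mk' (Subgroup.center (GL (Fin n) F)) with hπ
  have hG' : ∀ s : Matrix.SpecialLinearGroup (Fin n) F, π (SpecialLinearGroup.toGL s) ∈ G :=
    fun s => hG ⟨_, ⟨s, rfl⟩, rfl⟩
  have hn0 : 0 < n := by omega
  let i0 : Fin n := ⟨0, by omega⟩
  let i1 : Fin n := ⟨1, by omega⟩
  let l : Fin n := ⟨n - 1, by omega⟩
  have h0l : i0 ≠ l := by simp only [i0, l, ne_eq, Fin.mk.injEq]; omega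
  have h1l : i1 ≠ l := by simp only [i1, l, ne_eq, Fin.mk.injEq]; omega
  have h01 : i0 ≠ i1 := by simp [i0, i1]
  have hl : (l : ℕ) + 1 = n := by simp only [l]; omega
  let e : Fin n → F := Pi.single i0 1
  let f : Fin n → F := Pi.single l 1
  have he : e ≠ 0 := by
    intro h; have := congrFun h i0; simp [e] at this
  have hf : f ≠ 0 := by
    intro h; have := congrFun h l; simp [f] at this
  let U : Matrix.SpecialLinearGroup (Fin n) F := ⟨jordan n F, det_jordan⟩
  let S : Matrix.SpecialLinearGroup (Fin n) F := ⟨transvection l i1 1, det_transvection_of_ne l i1 h1l.symm 1⟩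
  let T : Matrix.SpecialLinearGroup (Fin n) F := ⟨transvection i1 i0 1, det_transvection_of_ne i1 i0 h01.symm 1⟩
  let u : GL (Fin n) F := SpecialLinearGroup.toGL U
  let s : GL (Fin n) F := SpecialLinearGroup.toGL S
  let t : GL (Fin n) F := SpecialLinearGroup.toGL T
  have hue : u ∈ stab e := by
    refine ⟨1, ?_⟩
    rw [Units.val_one, one_smul]
    change jordan n F *ᵥ e = e
    ext i
    by_cases hi : (i : ℕ) + 1 < n
    · rw [jordan_mulVec_lt e i hi]
      have : e ⟨i + 1, hi⟩ = 0 := by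
        apply Pi.single_eq_of_ne
        intro h; have := congrArg Fin.val h; simp [i0] at this
      rw [this, add_zero]
    · rw [jordan_mulVec_last e i (by have := i.2; omega)]
  have huf : u ∈ rstab f := by
    refine ⟨1, ?_⟩
    rw [Units.val_one, one_smul]
    change f ᵥ* jordan n F = f
    ext i
    by_cases hi : (i : ℕ) = 0
    · rw [jordan_vecMul_zero f i hi]
    · have h3 : (⟨(i : ℕ) - 1 + 1, by omega⟩ : Fin n) = i := by ext; simp only; omega
      have h4 := jordan_vecMul_pos f ⟨(i : ℕ) - 1, by omega⟩ (by simp only; omega)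
      simp only [h3] at h4
      rw [h4]
      have : f ⟨(i : ℕ) - 1, by omega⟩ = 0 := by
        apply Pi.single_eq_of_ne
        intro h; have := congrArg Fin.val h; simp only [l] at this; have := i.2; omega
      rw [this, add_zero]
  have hus : ∀ g : GL (Fin n) F, g * u * g⁻¹ ∈ stab e → g ∈ stab e :=
    self_stab (fun w c hw h => jordan_eig hn0 w c hw h) he
  have hur : ∀ g : GL (Fin n) F, g * u * g⁻¹ ∈ rstab f → g ∈ rstab f :=
    self_rstab (fun w c hw h => jordan_reig l hl w c hw h) hf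
  have hse : s ∈ stab e := by
    refine ⟨1, ?_⟩
    rw [Units.val_one, one_smul]
    change transvection l i1 (1 : F) *ᵥ e = e
    rw [transvection, add_mulVec, one_mulVec, single_mulVec]
    have : e i1 = 0 := Pi.single_eq_of_ne h01.symm 1
    rw [this, mul_zero]
    ext i
    simp
  have hsf : s ∉ rstab f := by
    rintro ⟨c, hc⟩
    have h1 := congrFun hc i1
    change (f ᵥ* transvection l i1 (1 : F)) i1 = _ at h1
    rw [transvection, vecMul_add, vecMul_one, Pi.add_apply, Pi.smul_apply] at h1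
    have h2 : f i1 = 0 := Pi.single_eq_of_ne h1l 1
    rw [h2, smul_zero, zero_add] at h1
    simp [f, vecMul, dotProduct, Pi.single_apply] at h1
  have hte : t ∉ stab e := by
    rintro ⟨c, hc⟩
    have h1 := congrFun hc i1
    change (transvection i1 i0 (1 : F) *ᵥ e) i1 = _ at h1
    rw [transvection, add_mulVec, one_mulVec, single_mulVec, Pi.add_apply, Pi.smul_apply] at h1
    have h2 : e i1 = 0 := Pi.single_eq_of_ne h01.symm 1
    rw [h2, smul_zero, zero_add] at h1
    simp [e] at h1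
  let u' : GL (Fin n) F := s * u * s⁻¹
  have hu'e : u' ∈ stab e := (stab e).mul_mem ((stab e).mul_mem hse hue) ((stab e).inv_mem hse)
  have hu's : ∀ g : GL (Fin n) F, g * u' * g⁻¹ ∈ stab e → g ∈ stab e := by
    intro g hg
    have h1 : g * s ∈ stab e := by
      apply hus
      have : g * s * u * (g * s)⁻¹ = g * u' * g⁻¹ := by simp only [u']; group
      rwa [this]
    have := (stab e).mul_mem h1 ((stab e).inv_mem hse)
    simpa using this
  have hu'r : u' ∉ rstab f := fun h => hsf (hur s h)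
  let ub : G := ⟨π u, hG' U⟩
  have hu'G : π u' ∈ G := by
    have : u' = SpecialLinearGroup.toGL (S * U * S⁻¹) := by simp only [map_mul, map_inv]; rfl
    rw [this]; exact hG' _
  let ub' : G := ⟨π u', hu'G⟩
  have hcs := center_le_stab (F := F) e
  have hcr := center_le_rstab (F := F) f
  apply H68.Cover.not_isNilMin_of_two (hat G (stab e)) _ ub ub'
  · exact (mem_hat hcs (x := ub) rfl).2 hue
  · exact self_hat hcs (x := ub) rfl hus
  · exact (mem_hat hcs (x := ub') rfl).2 hu'e
  · exact self_hat hcs (x := ub') rfl hu's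
  · intro A hA h1 h2
    have h3 : A ≤ hat G (rstab f) :=
      H68.Cover.le_of_isNilpotent (u := ub) ((mem_hat hcr (x := ub) rfl).2 huf) (self_hat hcr (x := ub) rfl hur) hA h1
    exact hu'r ((mem_hat hcr (x := ub') rfl).1 (h3 h2))
  · intro htop
    have h1 : (⟨π t, hG' T⟩ : G) ∈ hat G (stab e) := htop ▸ Subgroup.mem_top _
    exact hte ((mem_hat hcs (x := ⟨π t, hG' T⟩) rfl).1 h1)

end H68.CoverPGL
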