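import Cfsg.Agent.Lib.H68.Cover
import Cfsg.Agent.Lib.H68.CoverPGL2b

/-! No nilpotent minimal cover for certain Zassenhaus groups. -/

namespace H68.CoverZass

open MulAction

variable {G Ω : Type*} [Group G] [MulAction G Ω]

theorem odd_pow_swap {g : G} {i j : Ω} (h1 : g • i = j) (h2 : g • j = i) {m : ℕ} (hm : Odd m) :
    g ^ m • i = j := by
  obtain ⟨k, rfl⟩ := hm
  have h3 : ∀ k : ℕ, (g ^ (2 * k)) • i = i := by
    intro k
    induction k with
    | zero => simp
    | succ k ih =>
      rw [show 2 * (k + 1) = 1 + (1 + 2 * k) by ring, pow_add, pow_add, pow_one, mul_smul, mul_smul, ih, h1, h2]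
  rw [pow_succ', mul_smul, h3, h1]

theorem main [Finite G] [Fintype Ω] [DecidableEq Ω] (hodd : Odd (Fintype.card Ω)) (hcard : 3 < Fintype.card Ω)
    (hex : ∀ i j : Ω, i ≠ j → ∃ t : G, t ≠ 1 ∧ t • i = i ∧ t • j = j)
    (hord : ∀ (g : G) (i j : Ω), i ≠ j → g • i = i → g • j = j → Odd (orderOf g))
    (h3 : ∀ (g : G) (i j k : Ω), i ≠ j → i ≠ k → j ≠ k → g • i = i → g • j = j → g • k = k → g = 1)
    (hne : ∀ i : Ω, stabilizer G i ≠ ⊤) :
    ¬ ∃ 𝓐 : Finset (Subgroup G), ((∀ A ∈ 𝓐, A ≠ ⊤) ∧ ∀ g : G, ∃ A ∈ 𝓐, g ∈ A) ∧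
    (∀ 𝓑 : Finset (Subgroup G), (∀ A ∈ 𝓑, A ≠ ⊤) ∧ (∀ g : G, ∃ A ∈ 𝓑, g ∈ A) → 𝓐.card ≤ 𝓑.card) ∧
    (∀ A ∈ 𝓐, Group.IsNilpotent ↥A) := by
  classical
  -- the elements attached to pairs
  have hch : ∀ s : {s : Finset Ω // s ∈ Finset.powersetCard 2 (Finset.univ : Finset Ω)},
      ∃ t : G, t ≠ 1 ∧ ∀ x ∈ s.1, t • x = x := by
    rintro ⟨s, hs⟩
    obtain ⟨_, hs2⟩ := Finset.mem_powersetCard.1 hs
    obtain ⟨i, j, hij, rfl⟩ := Finset.card_eq_two.1 hs2
    obtain ⟨t, ht1, hti, htj⟩ := hex i j hij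
    refine ⟨t, ht1, ?_⟩
    intro x hx
    rcases Finset.mem_insert.1 hx with rfl | hx
    · exact hti
    · rw [Finset.mem_singleton.1 hx]; exact htj
  choose t ht1 ht using hch
  -- pointwise stabilization
  have key : ∀ (s : {s : Finset Ω // s ∈ Finset.powersetCard 2 (Finset.univ : Finset Ω)}) (A : Subgroup G),
      Group.IsNilpotent A → t s ∈ A → ∀ a ∈ A, ∀ x ∈ s.1, a • x = x := by
    rintro ⟨s, hs⟩ A hA htA
    obtain ⟨_, hs2⟩ := Finset.mem_powersetCard.1 hs
    obtain ⟨i, j, hij, rfl⟩ := Finset.card_eq_two.1 hs2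
    set u := t ⟨{i, j}, hs⟩ with hu
    have hu1 : u ≠ 1 := ht1 _
    have hui : u • i = i := ht ⟨{i, j}, hs⟩ i (by simp)
    have huj : u • j = j := ht ⟨{i, j}, hs⟩ j (by simp)
    have huodd : Odd (orderOf u) := hord u i j hij hui huj
    -- the setwise stabilizer
    let H : Subgroup G :=
      { carrier := {g | (g • i = i ∧ g • j = j) ∨ (g • i = j ∧ g • j = i)}
        one_mem' := Or.inl ⟨one_smul _ _, one_smul _ _⟩
        mul_mem' := by
          rintro g h (⟨a, b⟩ | ⟨a, b⟩) (⟨c, d⟩ | ⟨c, d⟩)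
          · exact Or.inl ⟨by rw [mul_smul, c, a], by rw [mul_smul, d, b]⟩
          · exact Or.inr ⟨by rw [mul_smul, c, b], by rw [mul_smul, d, a]⟩
          · exact Or.inr ⟨by rw [mul_smul, c, a], by rw [mul_smul, d, b]⟩
          · exact Or.inl ⟨by rw [mul_smul, c, b], by rw [mul_smul, d, a]⟩
        inv_mem' := by
          rintro g (⟨a, b⟩ | ⟨a, b⟩)
          · exact Or.inl ⟨inv_smul_eq_iff.2 a.symm, inv_smul_eq_iff.2 b.symm⟩
          · exact Or.inr ⟨inv_smul_eq_iff.2 b.symm, inv_smul_eq_iff.2 a.symm⟩ }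
    have hmemH : ∀ g, g ∈ H ↔ (g • i = i ∧ g • j = j) ∨ (g • i = j ∧ g • j = i) := fun g => Iff.rfl
    have hAH : A ≤ H := by
      apply H68.Cover.le_of_isNilpotent (u := u) ((hmemH u).2 (Or.inl ⟨hui, huj⟩)) _ hA htA
      intro a ha
      -- `u` preserves `a⁻¹{i,j}`
      set i' := a⁻¹ • i with hi'
      set j' := a⁻¹ • j with hj'
      have hij' : i' ≠ j' := fun h => hij (MulAction.injective a⁻¹ h)
      have hfix : u • i' = i' ∧ u • j' = j' := by
        rcases (hmemH _).1 ha with ⟨h1, h2⟩ | ⟨h1, h2⟩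
        · constructor
          · rw [mul_smul, mul_smul, ← hi', ← eq_inv_smul_iff] at h1
            exact h1
          · rw [mul_smul, mul_smul, ← hj', ← eq_inv_smul_iff] at h2
            exact h2
        · exfalso
          have e1 : u • i' = j' := by
            rw [mul_smul, mul_smul, ← hi', ← eq_inv_smul_iff] at h1
            exact h1
          have e2 : u • j' = i' := by
            rw [mul_smul, mul_smul, ← hj', ← eq_inv_smul_iff] at h2
            exact h2
          have := odd_pow_swap e1 e2 huodd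
          rw [pow_orderOf_eq_one, one_smul] at this
          exact hij' this
      have hmem : ∀ r, u • r = r → r = i ∨ r = j := by
        intro r hr
        by_contra hcon
        push Not at hcon
        exact hu1 (h3 u i j r hij (Ne.symm hcon.1) (Ne.symm hcon.2) hui huj hr)
      rw [← inv_mem_iff]
      rw [hmemH]
      rcases hmem i' hfix.1 with h1 | h1 <;> rcases hmem j' hfix.2 with h2 | h2
      · exact absurd (h1.trans h2.symm) hij'
      · exact Or.inl ⟨h1, h2⟩
      · exact Or.inr ⟨h1, h2⟩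
      · exact absurd (h1.trans h2.symm) hij'
    have hfixi : ∀ a ∈ A, a • i = i ∧ a • j = j := by
      intro a ha
      rcases (hmemH a).1 (hAH ha) with h | ⟨h1, h2⟩
      · exact h
      exfalso
      -- the 2-part
      have ho0 : orderOf a ≠ 0 := (orderOf_pos a).ne'
      obtain ⟨k, m, hm, hkm⟩ := Nat.exists_eq_two_pow_mul_odd ho0
      set b := a ^ m with hb
      have hbij : b • i = j := odd_pow_swap h1 h2 hm
      have hbji : b • j = i := odd_pow_swap h2 h1 hm
      have hbpow : b ^ 2 ^ k = 1 := by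
        rw [hb, ← pow_mul, mul_comm, ← hkm, pow_orderOf_eq_one]
      have hb1 : b ≠ 1 := by
        intro h; rw [h, one_smul] at hbij; exact hij hbij
      have h2p : Fact (Nat.Prime 2) := ⟨Nat.prime_two⟩
      have hcm : Commute u b := H68.CoverPGL2.commute_of_nilp (p := 2) hA htA (A.pow_mem ha m)
        (Nat.coprime_two_right.2 huodd) hbpow
      -- `b` has a fixed point
      obtain ⟨r, hr⟩ : ∃ r : Ω, b • r = r := by
        have hP : IsPGroup 2 (Subgroup.zpowers b) := by
          intro y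
          obtain ⟨l, hl⟩ := y.2
          refine ⟨k, Subtype.ext ?_⟩
          have hl' : (y : G) = b ^ l := hl.symm
          rw [Subgroup.coe_pow, hl', Subgroup.coe_one, ← zpow_natCast, ← zpow_mul, mul_comm, zpow_mul,
            zpow_natCast, hbpow, one_zpow]
        obtain ⟨r, hr⟩ := hP.nonempty_fixed_point_of_prime_not_dvd_card Ω (by
          rw [Nat.card_eq_fintype_card]
          intro h
          exact (Nat.not_even_iff_odd.2 hodd) (even_iff_two_dvd.2 h))
        exact ⟨r, hr ⟨b, Subgroup.mem_zpowers b⟩⟩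
      have hri : r ≠ i := by
        rintro rfl; exact hij (hr.symm.trans hbij)
      have hrj : r ≠ j := by
        rintro rfl; exact hij (hbji.symm.trans hr)
      have hur : u • r = r := by
        by_contra hne
        have h4 : b • (u • r) = u • r := by
          rw [← mul_smul, ← hcm.eq, mul_smul, hr]
        have h5 := hord b r (u • r) (Ne.symm hne) hr h4
        obtain ⟨l, _, hl⟩ := (Nat.dvd_prime_pow Nat.prime_two).1 (orderOf_dvd_of_pow_eq_one hbpow)
        rw [hl] at h5
        rcases Nat.eq_zero_or_pos l with h6 | h6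
        · rw [h6, pow_zero, orderOf_eq_one_iff] at hl
          exact hb1 hl
        · exact (Nat.not_even_iff_odd.2 h5) (Even.pow_of_ne_zero even_two h6.ne')
      exact hu1 (h3 u i j r hij hri.symm hrj.symm hui huj hur)
    intro a ha x hx
    rcases Finset.mem_insert.1 hx with rfl | hx
    · exact (hfixi a ha).1
    · rw [Finset.mem_singleton.1 hx]; exact (hfixi a ha).2
  apply H68.Cover.not_isNilMin (Finset.univ.image (fun i : Ω => stabilizer G i)) _
    (ι := {s : Finset Ω // s ∈ Finset.powersetCard 2 (Finset.univ : Finset Ω)}) _ t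
  · intro s A hA hsA
    obtain ⟨_, hs2⟩ := Finset.mem_powersetCard.1 s.2
    obtain ⟨i, j, hij, hs⟩ := Finset.card_eq_two.1 hs2
    refine ⟨stabilizer G i, Finset.mem_image_of_mem _ (Finset.mem_univ i), ?_⟩
    intro a ha
    exact key s A hA hsA a ha i (by rw [hs]; simp)
  · intro s s' A hA hs hs'
    have h4 := key s A hA hs (t s') hs'
    have h5 := ht s'
    apply Subtype.ext
    obtain ⟨_, hs2⟩ := Finset.mem_powersetCard.1 s.2
    obtain ⟨_, hs2'⟩ := Finset.mem_powersetCard.1 s'.2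
    apply Finset.eq_of_subset_of_card_le _ (by rw [hs2, hs2'])
    intro x hx
    by_contra hx'
    obtain ⟨i, j, hij, hs''⟩ := Finset.card_eq_two.1 hs2'
    have hxi : i ≠ x := by rintro rfl; apply hx'; rw [hs'']; simp
    have hxj : j ≠ x := by rintro rfl; apply hx'; rw [hs'']; simp
    exact ht1 s' (h3 (t s') i j x hij hxi hxj (h5 i (by rw [hs'']; simp)) (h5 j (by rw [hs'']; simp)) (h4 x hx))
  · intro H hH
    obtain ⟨i, _, rfl⟩ := Finset.mem_image.1 hH
    exact hne i
  · have h4 : (Finset.univ.image (fun i : Ω => stabilizer G i)).card ≤ Fintype.card Ω := Finset.card_image_le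
    rw [Fintype.card_coe, Finset.card_powersetCard, Finset.card_univ]
    apply lt_of_le_of_lt h4
    rw [Nat.choose_two_right]
    obtain ⟨k, hk⟩ : ∃ k, Fintype.card Ω = k + 4 := ⟨Fintype.card Ω - 4, by omega⟩
    rw [hk]
    have h5 : (k + 4) * (k + 4 - 1) = (k + 4) * (k + 3) := by rfl
    rw [h5, Nat.lt_iff_add_one_le, Nat.le_div_iff_mul_le (by norm_num)]
    nlinarith

end H68.CoverZass
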