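import Cfsg.Agent.Lib.H26.Components

/-! Groups in which cyclic 2-subgroups of the same order are conjugate: uniqueness of the component. -/

namespace H68.CycConj

open Subgroup Cfsg

universe u

/-- a noncentral 2-element in a quasisimple group (uses the odd order theorem) -/
theorem exists_noncentral {K : Type u} [Group K] [Finite K]
    (FT : ∀ (H : Type u) [Group H] [Finite H], Odd (Nat.card H) → Group.IsSolvable H)
    (hK : IsQuasisimple K) : ∃ x : K, (∃ a : ℕ, orderOf x = 2 ^ a) ∧ x ∉ center K := by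
  have h1 : ¬ Odd (Nat.card (K ⧸ center K)) := by
    intro h
    have h2 := FT _ h
    have h3 : Nontrivial (K ⧸ center K) := hK.2.toNontrivial
    have h4 := hK.1
    have h5 : Group.IsPerfect (K ⧸ center K) := by
      rw [Group.isPerfect_def, commutator_def]
      have h8 := Subgroup.map_commutator (⊤ : Subgroup K) ⊤ (QuotientGroup.mk' (center K))
      have h6 := H26.Quasisimple.commutator_eq_top hK
      rw [commutator_def] at h6
      rw [h6, Subgroup.map_top_of_surjective _ (QuotientGroup.mk'_surjective (center K))] at h8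
      exact h8.symm
    exact Group.IsPerfect.not_isSolvable (K ⧸ center K) h2
  rw [Nat.not_odd_iff_even, even_iff_two_dvd] at h1
  obtain ⟨q, hq⟩ := exists_prime_orderOf_dvd_card' 2 h1
  obtain ⟨y, rfl⟩ := QuotientGroup.mk_surjective q
  obtain ⟨a, m, hm, he⟩ := Nat.exists_eq_two_pow_mul_odd (n := orderOf y) (orderOf_pos y).ne'
  refine ⟨y ^ m, ?_, ?_⟩
  · have h2 : orderOf (y ^ m) ∣ 2 ^ a := by
      rw [orderOf_dvd_iff_pow_eq_one, ← pow_mul, mul_comm, ← he, pow_orderOf_eq_one]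
    obtain ⟨k, _, hk⟩ := (Nat.dvd_prime_pow Nat.prime_two).1 h2
    exact ⟨k, hk⟩
  · intro h
    rw [← QuotientGroup.eq_one_iff, QuotientGroup.mk_pow] at h
    have h2 := orderOf_dvd_of_pow_eq_one h
    rw [hq] at h2
    exact (Nat.not_even_iff_odd.2 hm) (even_iff_two_dvd.2 h2)

/-- `x` centralizes `L` -/
def Cent {G : Type u} [Group G] (x : G) (L : Subgroup G) : Prop := ∀ k ∈ L, x * k = k * x

theorem Cent.of_mem_zpowers {G : Type u} [Group G] {x y : G} {L : Subgroup G} (h : Cent x L)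
    (hy : y ∈ Subgroup.zpowers x) : Cent y L := by
  obtain ⟨n, rfl⟩ := Subgroup.mem_zpowers_iff.1 hy
  intro k hk
  exact (Commute.zpow_left (h k hk) n)

theorem Cent.conj {G : Type u} [Group G] {x : G} {L : Subgroup G} (g : G)
    (h : Cent x (L.map (MulAut.conj g⁻¹).toMonoidHom)) : Cent (g * x * g⁻¹) L := by
  intro k hk
  have h1 := h (g⁻¹ * k * g) ⟨k, hk, by simp [MulAut.conj_apply]⟩
  calc g * x * g⁻¹ * k = g * (x * (g⁻¹ * k * g)) * g⁻¹ := by group
    _ = g * ((g⁻¹ * k * g) * x) * g⁻¹ := by rw [h1]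
    _ = k * (g * x * g⁻¹) := by group

theorem unique {G : Type u} [Group G] [Finite G]
    (FT : ∀ (H : Type u) [Group H] [Finite H], Odd (Nat.card H) → Group.IsSolvable H)
    (hP : ∀ A B : Subgroup G, IsCyclic ↥A → IsCyclic ↥B → IsPGroup 2 ↥A →
      Nat.card ↥A = Nat.card ↥B → ∃ g : G, B = A.map (MulAut.conj g).toMonoidHom)
    (K₁ K₂ : Subgroup G) (h1 : IsComponent K₁) (h2 : IsComponent K₂) : K₁ = K₂ := by
  by_contra hne
  -- good pairs
  have hex : ∀ K : Subgroup G, IsComponent K → ∃ x ∈ K, (∃ a : ℕ, orderOf x = 2 ^ a) ∧ ¬ Cent x K := by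
    intro K hK
    obtain ⟨x, ⟨a, ha⟩, hx⟩ := exists_noncentral FT hK.2
    refine ⟨x, x.2, ⟨a, by rw [Subgroup.orderOf_coe]; exact ha⟩, ?_⟩
    intro h
    apply hx
    rw [Subgroup.mem_center_iff]
    intro k
    exact Subtype.ext (h k k.2).symm
  let P : ℕ → Prop := fun n => ∃ K : Subgroup G, IsComponent K ∧ ∃ x ∈ K, orderOf x = 2 ^ n ∧ ¬ Cent x K
  have hPex : ∃ n, P n := by
    obtain ⟨x, hx, ⟨a, ha⟩, hc⟩ := hex K₁ h1
    exact ⟨a, K₁, h1, x, hx, ha, hc⟩
  classical
  obtain ⟨L₁, hL₁, x₁, hx₁, ha, hc₁⟩ := Nat.find_spec hPex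
  set a := Nat.find hPex with hadef
  have hmin : ∀ m, m < a → ¬ P m := fun m hm => Nat.find_min hPex hm
  obtain ⟨L₂, hL₂, hL12⟩ : ∃ L₂ : Subgroup G, IsComponent L₂ ∧ L₁ ≠ L₂ := by
    by_cases h : L₁ = K₁
    · exact ⟨K₂, h2, by rw [h]; exact hne⟩
    · exact ⟨K₁, h1, h⟩
  obtain ⟨x₂, hx₂, ⟨b, hb⟩, hc₂⟩ := hex L₂ hL₂
  have hab : a ≤ b := by
    by_contra hlt
    exact hmin b (not_le.1 hlt) ⟨L₂, hL₂, x₂, hx₂, hb, hc₂⟩
  -- elements of a component centralize the others
  have hother : ∀ K L : Subgroup G, IsComponent K → IsComponent L → K ≠ L → ∀ x ∈ K, Cent x L := by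
    intro K L hK hL hKL x hx k hk
    exact H26.Basic.commute_of_commutator_eq_bot
      (H26.Components.commutator_eq_bot_of_ne hK hL hKL) hx hk
  have hcomm : Commute x₁ x₂ := hother L₁ L₂ hL₁ hL₂ hL12 x₁ hx₁ x₂ hx₂
  set w := x₁ * x₂ with hw
  have hwc₁ : ¬ Cent w L₁ := by
    intro h
    apply hc₁
    intro k hk
    have h3 := h k hk
    have h4 : x₂ * k = k * x₂ := hother L₂ L₁ hL₂ hL₁ hL12.symm x₂ hx₂ k hk
    have h5 : x₁ * k * x₂ = k * x₁ * x₂ := by
      calc x₁ * k * x₂ = x₁ * (k * x₂) := by group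
        _ = x₁ * (x₂ * k) := by rw [h4]
        _ = w * k := by rw [hw]; group
        _ = k * w := h3
        _ = k * x₁ * x₂ := by rw [hw]; group
    exact mul_right_cancel h5
  have hwc₂ : ¬ Cent w L₂ := by
    intro h
    apply hc₂
    intro k hk
    have h3 := h k hk
    have h4 : x₁ * k = k * x₁ := hother L₁ L₂ hL₁ hL₂ hL12 x₁ hx₁ k hk
    have h5 : x₁ * (x₂ * k) = x₁ * (k * x₂) := by
      calc x₁ * (x₂ * k) = w * k := by rw [hw]; group
        _ = k * w := h3
        _ = (k * x₁) * x₂ := by rw [hw]; group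
        _ = (x₁ * k) * x₂ := by rw [h4]
        _ = x₁ * (k * x₂) := by group
    exact mul_left_cancel h5
  have hwdvd : orderOf w ∣ 2 ^ b := by
    rw [orderOf_dvd_iff_pow_eq_one, hw, hcomm.mul_pow]
    have h3 : x₁ ^ 2 ^ b = 1 := by
      rw [← orderOf_dvd_iff_pow_eq_one, ha]; exact pow_dvd_pow 2 hab
    have h4 : x₂ ^ 2 ^ b = 1 := by rw [← hb, pow_orderOf_eq_one]
    rw [h3, h4, one_mul]
  obtain ⟨c, hcb, hc⟩ := (Nat.dvd_prime_pow Nat.prime_two).1 hwdvd
  have hconj : ∀ x y : G, (∃ n : ℕ, orderOf x = 2 ^ n) → orderOf x = orderOf y →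
      ∃ g : G, ∀ L : Subgroup G, Cent x (L.map (MulAut.conj g⁻¹).toMonoidHom) → Cent y L := by
    intro x y hx hxy
    obtain ⟨g, hg⟩ := hP (Subgroup.zpowers x) (Subgroup.zpowers y) inferInstance inferInstance (by
        obtain ⟨n, hn⟩ := hx
        exact IsPGroup.of_card (n := n) (by rw [Nat.card_zpowers, hn]))
      (by rw [Nat.card_zpowers, Nat.card_zpowers, hxy])
    refine ⟨g, fun L hL => ?_⟩
    have h3 : y ∈ (Subgroup.zpowers x).map (MulAut.conj g).toMonoidHom := by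
      rw [← hg]; exact Subgroup.mem_zpowers y
    obtain ⟨z, hz, hzy⟩ := h3
    have h4 : g * z * g⁻¹ = y := hzy
    rw [← h4]
    exact Cent.conj g (hL.of_mem_zpowers hz)
  by_cases hcb' : c = b
  · subst hcb'
    obtain ⟨g, hg⟩ := hconj x₂ w ⟨c, hb⟩ (by rw [hb, hc])
    have hcomp : ∀ L : Subgroup G, IsComponent L → IsComponent (L.map (MulAut.conj g⁻¹).toMonoidHom) :=
      fun L hL => (H26.Components.map_conj_iff g⁻¹).2 hL
    have h3 : L₁.map (MulAut.conj g⁻¹).toMonoidHom = L₂ := by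
      by_contra h
      exact hwc₁ (hg L₁ (hother L₂ _ hL₂ (hcomp L₁ hL₁) (Ne.symm h) x₂ hx₂))
    have h4 : L₂.map (MulAut.conj g⁻¹).toMonoidHom = L₂ := by
      by_contra h
      exact hwc₂ (hg L₂ (hother L₂ _ hL₂ (hcomp L₂ hL₂) (Ne.symm h) x₂ hx₂))
    exact hL12 (Subgroup.map_injective (f := (MulAut.conj g⁻¹).toMonoidHom) (MulAut.conj g⁻¹).injective
      (h3.trans h4.symm))
  · have hcb2 : c < b := lt_of_le_of_ne hcb hcb'
    have hab2 : a = b := by
      by_contra h
      have hlt : a < b := lt_of_le_of_ne hab h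
      have h3 : w ^ 2 ^ (b - 1) = 1 := by
        rw [← orderOf_dvd_iff_pow_eq_one, hc]; exact pow_dvd_pow 2 (by omega)
      have h4 : x₁ ^ 2 ^ (b - 1) = 1 := by
        rw [← orderOf_dvd_iff_pow_eq_one, ha]; exact pow_dvd_pow 2 (by omega)
      rw [hw, hcomm.mul_pow, h4, one_mul, ← orderOf_dvd_iff_pow_eq_one, hb,
        Nat.pow_dvd_pow_iff_le_right (by norm_num)] at h3
      omega
    have hca : c < a := by omega
    set y := x₁ ^ 2 ^ (a - c) with hy
    have hyo : orderOf y = 2 ^ c := by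
      rw [hy, orderOf_pow_of_dvd (by positivity) (by rw [ha]; exact pow_dvd_pow 2 (by omega)), ha]
      have : 2 ^ a = 2 ^ c * 2 ^ (a - c) := by rw [← pow_add]; congr 1; omega
      rw [this, Nat.mul_div_cancel _ (by positivity)]
    have hyL : y ∈ L₁ := L₁.pow_mem hx₁ _
    have hyc : Cent y L₁ := by
      by_contra h
      exact hmin c hca ⟨L₁, hL₁, y, hyL, hyo, h⟩
    obtain ⟨g, hg⟩ := hconj y w ⟨c, hyo⟩ (by rw [hyo, hc])
    apply hwc₁
    apply hg
    have hcomp := (H26.Components.map_conj_iff (K := L₁) g⁻¹).2 hL₁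
    by_cases h : L₁ = L₁.map (MulAut.conj g⁻¹).toMonoidHom
    · rw [← h]; exact hyc
    · exact hother L₁ _ hL₁ hcomp h y hyL

theorem main {G : Type u} [Group G] [Finite G]
    (FT : ∀ (H : Type u) [Group H] [Finite H], Odd (Nat.card H) → Group.IsSolvable H)
    (hP : ∀ A B : Subgroup G, IsCyclic ↥A → IsCyclic ↥B → IsPGroup 2 ↥A →
      Nat.card ↥A = Nat.card ↥B → ∃ g : G, B = A.map (MulAut.conj g).toMonoidHom)
    (hE : layer G ≠ ⊥) :
    IsSimpleGroup (↥(layer G) ⧸ Subgroup.center ↥(layer G)) ∧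
      ¬ IsMulCommutative (↥(layer G) ⧸ Subgroup.center ↥(layer G)) := by
  obtain ⟨K, hK⟩ : ∃ K : Subgroup G, IsComponent K := by
    by_contra h
    push Not at h
    exact hE (H26.Components.layer_eq_bot_iff.2 h)
  have h1 : layer G = K := by
    apply le_antisymm
    · refine sSup_le fun L hL => ?_
      rw [unique FT hP L K hL hK]
    · exact H26.Components.le_layer hK
  have hq : IsQuasisimple (layer G) := by rw [h1]; exact hK.2
  refine ⟨hq.2, ?_⟩
  intro h
  have h2 : commutator (layer G) ≤ center (layer G) :=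
    Subgroup.Normal.quotient_commutative_iff_commutator_le.mp h
  rw [H26.Quasisimple.commutator_eq_top hq, top_le_iff] at h2
  exact H26.Quasisimple.center_ne_top hq h2

end H68.CycConj
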