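import Cfsg.Agent.Lib.H3.RankTwo
import Cfsg.Agent.Lib.H1.Cyc
import Cfsg.Agent.S3761

set_option autoImplicit false
set_option linter.unusedVariables false
set_option linter.unusedSectionVars false
set_option linter.style.haveILetI false
set_option maxHeartbeats 800000

/-!
# Four-groups of operators on 2-groups: the basic computation in a dihedral section
-/

namespace H68.FourOp

open Subgroup

section cyc
variable {Q : Type*} [Group Q]

theorem eq_one_of_odd {x : Q} {e : ℕ} (hx : x ^ (2 ^ e) = 1) {m : ℤ} (hm : m % 2 = 1)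
    (h : x ^ m = 1) : x = 1 := by
  have h1 : (orderOf x : ℤ) ∣ m := orderOf_dvd_iff_zpow_eq_one.2 h
  have h2 : orderOf x ∣ 2 ^ e := orderOf_dvd_of_pow_eq_one hx
  obtain ⟨f, hf, hf2⟩ := (Nat.dvd_prime_pow Nat.prime_two).1 h2
  rcases Nat.eq_zero_or_pos f with h0 | h0
  · rw [h0, pow_zero] at hf2
    exact orderOf_eq_one_iff.1 hf2
  · exfalso
    have h3 : (2 : ℤ) ∣ m := by
      refine dvd_trans ?_ h1
      have h4 : 2 ∣ orderOf x := by
        rw [hf2]
        exact dvd_pow_self 2 (by omega)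
      exact_mod_cast h4
    omega

/-- conjugation of powers -/
theorem conj_zpow' {u q x : Q} (h : u * q * u⁻¹ = x) (i : ℤ) : u * q ^ i * u⁻¹ = x ^ i := by
  rw [← h, conj_zpow]

theorem core {q s u z : Q} {e : ℕ} (hq : q ^ (2 ^ e) = 1) (hzq : z ∈ zpowers q) (hz1 : z ≠ 1)
    (hz2 : z * z = 1) (huniq : ∀ x ∈ zpowers q, x * x = 1 → x = 1 ∨ x = z)
    (hu : u * u = 1) {m j : ℤ} (hm : u * q * u⁻¹ = q ^ m) (hj : u * s * u⁻¹ = q ^ (2 * j) * s)
    (hfix : ∀ i : ℤ, u * (q ^ i * s) * u⁻¹ ≠ q ^ i * s) :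
    u * q * u⁻¹ = q ∧ u * s * u⁻¹ = z * s := by
  have hui : u⁻¹ = u := inv_eq_of_mul_eq_one_right hu
  have hq1 : q ≠ 1 := by
    rintro rfl
    rw [zpowers_one_eq_bot, mem_bot] at hzq
    exact hz1 hzq
  have huu : ∀ x : Q, u * (u * x * u⁻¹) * u⁻¹ = x := by
    intro x
    rw [hui]
    calc u * (u * x * u) * u = (u * u) * x * (u * u) := by group
      _ = x := by rw [hu]; group
  have hm2 : q ^ (m * m) = q := by
    have h1 := huu q
    rw [hm, conj_zpow' hm m, ← zpow_mul] at h1
    exact h1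
  have hm2' : q ^ (m * m - 1) = 1 := by
    rw [zpow_sub, hm2, zpow_one, mul_inv_cancel]
  have hodd : m % 2 = 1 := by
    by_contra hcon
    have h0 : m % 2 = 0 := by omega
    have h1 : (m * m - 1) % 2 = 1 := by
      obtain ⟨t, ht⟩ : ∃ t, m = 2 * t := ⟨m / 2, by omega⟩
      rw [ht]
      have : (2 * t * (2 * t) - 1) = 2 * (2 * t * t - 1) + 1 := by ring
      rw [this]; omega
    exact hq1 (eq_one_of_odd hq h1 hm2')
  have hact : ∀ i : ℤ, u * (q ^ i * s) * u⁻¹ = q ^ (m * i + 2 * j) * s := by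
    intro i
    calc u * (q ^ i * s) * u⁻¹ = (u * q ^ i * u⁻¹) * (u * s * u⁻¹) := by group
      _ = q ^ (m * i) * (q ^ (2 * j) * s) := by rw [conj_zpow' hm i, hj, ← zpow_mul]
      _ = q ^ (m * i + 2 * j) * s := by rw [← mul_assoc, ← zpow_add]
  have h4 : m % 4 = 1 ∨ m % 4 = 3 := by omega
  rcases h4 with h4 | h4
  · -- the good case
    obtain ⟨m', hm'⟩ : ∃ m', m + 1 = 2 * m' := ⟨(m + 1) / 2, by omega⟩
    have hm'o : m' % 2 = 1 := by omega
    have h5 : q ^ (2 * j * (m + 1)) = 1 := by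
      have h6 := huu s
      rw [hj] at h6
      have h7 : u * (q ^ (2 * j) * s) * u⁻¹ = q ^ (m * (2 * j) + 2 * j) * s := hact _
      rw [h7] at h6
      have h8 : q ^ (m * (2 * j) + 2 * j) = 1 := by
        have := mul_right_cancel (b := s) (c := 1) (a := q ^ (m * (2 * j) + 2 * j)) (by rw [h6, one_mul])
        exact this
      rw [show 2 * j * (m + 1) = m * (2 * j) + 2 * j by ring]
      exact h8
    have h6 : q ^ (2 * j) * q ^ (2 * j) = 1 := by
      have h7 : (q ^ (4 * j)) ^ m' = 1 := by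
        rw [← zpow_mul, show 4 * j * m' = 2 * j * (2 * m') by ring, ← hm']
        exact h5
      have h8 : q ^ (4 * j) = 1 := by
        refine eq_one_of_odd (e := e) ?_ hm'o h7
        rw [← zpow_natCast, ← zpow_mul, mul_comm, zpow_mul, zpow_natCast, hq, one_zpow]
      rw [← zpow_add, show 2 * j + 2 * j = 4 * j by ring]
      exact h8
    have h7 : q ^ (2 * j) = z := by
      rcases huniq _ (zpow_mem (mem_zpowers q) _) h6 with h | h
      · exfalso
        apply hfix 0
        rw [hact 0, mul_zero, zero_add, h, zpow_zero]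
      · exact h
    have h8 : q ^ (m - 1) * q ^ (m - 1) = 1 := by
      have h9 : (q ^ (2 * (m - 1))) ^ m' = 1 := by
        rw [← zpow_mul, show 2 * (m - 1) * m' = (m - 1) * (2 * m') by ring, ← hm',
          show (m - 1) * (m + 1) = m * m - 1 by ring]
        exact hm2'
      have h10 : q ^ (2 * (m - 1)) = 1 := by
        refine eq_one_of_odd (e := e) ?_ hm'o h9
        rw [← zpow_natCast, ← zpow_mul, mul_comm, zpow_mul, zpow_natCast, hq, one_zpow]
      rw [← zpow_add, show m - 1 + (m - 1) = 2 * (m - 1) by ring]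
      exact h10
    have h9 : q ^ (m - 1) = 1 := by
      rcases huniq _ (zpow_mem (mem_zpowers q) _) h8 with h | h
      · exact h
      · exfalso
        apply hfix 1
        rw [hact 1, mul_one, show m + 2 * j = (m - 1) + 2 * j + 1 by ring, zpow_add, zpow_add, h, h7, hz2,
          one_mul]
    refine ⟨?_, by rw [hj, h7]⟩
    rw [hm, show m = (m - 1) + 1 by ring, zpow_add, h9, one_mul, zpow_one]
  · exfalso
    obtain ⟨m', hm'⟩ : ∃ m', m - 1 = 2 * m' := ⟨(m - 1) / 2, by omega⟩
    have hm'o : m' % 2 = 1 := by omega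
    have hcop : IsCoprime m' ((2 : ℤ) ^ e) := by
      apply IsCoprime.pow_right
      rw [Int.isCoprime_iff_gcd_eq_one]
      have : Int.gcd m' 2 ∣ 2 := by
        have := Int.gcd_dvd_right m' 2
        exact_mod_cast this
      rcases (Nat.dvd_prime Nat.prime_two).1 this with h | h
      · exact h
      · exfalso
        have h2 : ((Int.gcd m' 2 : ℕ) : ℤ) ∣ m' := Int.gcd_dvd_left _ _
        rw [h] at h2
        push_cast at h2
        omega
    obtain ⟨a, b, hab⟩ := hcop
    apply hfix (-(j * a))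
    rw [hact]
    congr 1
    have h5 : m * -(j * a) + 2 * j = -(j * a) + (2 * j * b) * 2 ^ e := by
      have : m = 2 * m' + 1 := by omega
      rw [this]
      linear_combination (-(2 * j)) * hab
    rw [h5, zpow_add]
    have h6 : q ^ ((2 * j * b) * (2 : ℤ) ^ e) = 1 := by
      rw [mul_comm, zpow_mul]
      have : q ^ ((2 : ℤ) ^ e) = 1 := by
        have : ((2 : ℤ) ^ e) = ((2 ^ e : ℕ) : ℤ) := by push_cast; rfl
        rw [this, zpow_natCast, hq]
      rw [this, one_zpow]
    rw [h6, mul_one]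

end cyc

end H68.FourOp
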