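import Cfsg.Agent.Lib.H68.FourOp1
import Cfsg.Agent.Lib.H17.FourGrp
import Cfsg.Agent.Lib.H65.SympType

set_option autoImplicit false
set_option linter.unusedVariables false
set_option linter.unusedSectionVars false
set_option linter.style.haveILetI false
set_option maxHeartbeats 1000000

/-!
# A four-group of operators on a 2-group, no fixed four-groups
-/

namespace H68.FourOp

open Subgroup H17.FourGrp

variable {Q : Type*} [Group Q]

theorem rel2 {H K : Subgroup Q} (h : H.relIndex K = 2) {x y : Q} (hx : x ∈ K) (hy : y ∈ K)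
    (hxH : x ∉ H) (hyH : y ∉ H) : x * y⁻¹ ∈ H := by
  have h1 := Subgroup.mul_mem_iff_of_index_two (H := H.subgroupOf K) h (a := ⟨x, hx⟩)
    (b := (⟨y, hy⟩ : K)⁻¹)
  have h2 : (⟨x, hx⟩ : K) ∉ H.subgroupOf K := fun h => hxH (mem_subgroupOf.1 h)
  have h3 : (⟨y, hy⟩ : K)⁻¹ ∉ H.subgroupOf K := by
    rw [inv_mem_iff]
    exact fun h => hyH (mem_subgroupOf.1 h)
  exact mem_subgroupOf.1 (h1.2 (iff_of_false h2 h3))

theorem rel2_of_card [Finite Q] {H K : Subgroup Q} (h : H ≤ K) (hc : Nat.card K = 2 * Nat.card H) :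
    H.relIndex K = 2 := by
  have h1 : Nat.card H * H.relIndex K = Nat.card K := by
    have := (H.subgroupOf K).card_mul_index
    rw [Nat.card_congr (subgroupOfEquivOfLe h).toEquiv] at this
    exact this
  rw [hc, mul_comm 2] at h1
  exact Nat.eq_of_mul_eq_mul_left Nat.card_pos h1

/-- an element of a normal subgroup of order two is central -/
theorem central_of_card_two [Finite Q] {M : Subgroup Q} (hM : M.Normal) (hc : Nat.card M = 2) {z : Q}
    (hz : z ∈ M) (g : Q) : g * z = z * g := by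
  by_cases hz1 : z = 1
  · rw [hz1, mul_one, one_mul]
  have h1 : g * z * g⁻¹ ∈ M := hM.conj_mem z hz g
  have h2 : (M : Set Q).ncard = 2 := by
    rw [← Nat.card_coe_set_eq]; exact hc
  have h3 : g * z * g⁻¹ = z := by
    by_contra hne
    have h4 : ({1, z, g * z * g⁻¹} : Set Q) ⊆ M := by
      rintro x (rfl | rfl | rfl)
      · exact one_mem _
      · exact hz
      · exact h1
    have h5 : ({1, z, g * z * g⁻¹} : Set Q).ncard = 3 := by
      rw [Set.ncard_eq_three]
      refine ⟨1, z, g * z * g⁻¹, fun h => hz1 h.symm, ?_, fun h => hne h.symm, rfl⟩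
      intro h
      apply hz1
      have : z = g⁻¹ * 1 * g := by rw [h]; group
      rw [this]; group
    have h6 := Set.ncard_le_ncard h4 (Set.toFinite _)
    omega
  calc g * z = (g * z * g⁻¹) * g := by group
    _ = z * g := by rw [h3]

section
variable [Finite Q] (hQ : IsPGroup 2 Q) (S U : Subgroup Q) [hSn : S.Normal] (hU : IsKleinFour U)
  (hfix : ∀ u ∈ U, u ≠ 1 → ∀ V : Subgroup Q, V ≤ S → IsKleinFour V → ¬ (∀ v ∈ V, u * v = v * u))

include hQ hU hfix in
theorem no_normal (W : Subgroup Q) (hWS : W ≤ S) (hW : W.Normal) (hW4 : IsKleinFour W) : False := by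
  haveI : Fact (Nat.Prime 2) := ⟨Nat.prime_two⟩
  haveI := hW
  obtain ⟨M, hM, hMW, hMc⟩ := H3.RankTwo.exists_normal_card (p := 2) hQ W (k := 2)
    (by rw [hW4.card_four]; rfl) (j := 1) (by norm_num)
  rw [pow_one] at hMc
  obtain ⟨U1, hU1⟩ : ∃ x, x = U := ⟨U, rfl⟩
  have hrel : M.relIndex W = 2 := rel2_of_card hMW (by rw [hW4.card_four, hMc])
  have hlt : ¬ W ≤ M := by
    intro h
    have := Nat.card_le_card_of_injective (Subgroup.inclusion h) (Subgroup.inclusion_injective h)
    rw [hW4.card_four, hMc] at this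
    omega
  obtain ⟨a, haW, haM⟩ := SetLike.not_le_iff_exists.1 hlt
  -- every conjugate of `a` is in `M a`
  have hcj : ∀ g : Q, ∃ t ∈ M, g * a * g⁻¹ = t * a := by
    intro g
    refine ⟨g * a * g⁻¹ * a⁻¹, rel2 hrel (hW.conj_mem a haW g) haW ?_ haM, by group⟩
    intro h
    apply haM
    have := hM.conj_mem _ h g⁻¹
    rw [show g⁻¹ * (g * a * g⁻¹) * g⁻¹⁻¹ = a by group] at this
    exact this
  have hWc : ∀ u : Q, u * a = a * u → ∀ v ∈ W, u * v = v * u := by
    intro u hu v hv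
    by_cases hvM : v ∈ M
    · exact central_of_card_two hM hMc hvM u
    · have h1 := rel2 hrel hv haW hvM haM
      have h2 := central_of_card_two hM hMc h1 u
      calc u * v = u * (v * a⁻¹) * a := by group
        _ = (v * a⁻¹) * u * a := by rw [h2]
        _ = (v * a⁻¹) * (u * a) := by group
        _ = (v * a⁻¹) * (a * u) := by rw [hu]
        _ = v * u := by group
  obtain ⟨p, r, hpr, hUe⟩ := exists_pair hU
  have hpU : p ∈ U := by rw [hUe]; exact (mem_four hpr).2 (Or.inr (Or.inl rfl))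
  have hrU : r ∈ U := by rw [hUe]; exact (mem_four hpr).2 (Or.inr (Or.inr (Or.inl rfl)))
  obtain ⟨t1, ht1, h1⟩ := hcj p
  obtain ⟨t2, ht2, h2⟩ := hcj r
  have key : ∀ u ∈ U, u ≠ 1 → u * a * u⁻¹ ≠ a := by
    intro u hu hu1 h
    refine hfix u hu hu1 W hWS hW4 (hWc u ?_)
    calc u * a = (u * a * u⁻¹) * u := by group
      _ = a * u := by rw [h]
  have hM2 : ∀ x ∈ M, ∀ y ∈ M, x ≠ 1 → y ≠ 1 → x = y := by
    intro x hx y hy hx1 hy1
    by_contra hne
    have h4 : ({1, x, y} : Set Q) ⊆ M := by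
      rintro w (rfl | rfl | rfl)
      · exact one_mem _
      · exact hx
      · exact hy
    have h5 : ({1, x, y} : Set Q).ncard = 3 :=
      Set.ncard_eq_three.2 ⟨1, x, y, fun h => hx1 h.symm, fun h => hy1 h.symm, hne, rfl⟩
    have h6 := Set.ncard_le_ncard h4 (Set.toFinite _)
    have h7 : (M : Set Q).ncard = 2 := by rw [← Nat.card_coe_set_eq]; exact hMc
    omega
  have ht1' : t1 ≠ 1 := by
    rintro rfl
    exact key p hpU hpr.ha (by rw [h1, one_mul])
  have ht2' : t2 ≠ 1 := by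
    rintro rfl
    exact key r hrU hpr.hb (by rw [h2, one_mul])
  have ht : t1 = t2 := hM2 t1 ht1 t2 ht2 ht1' ht2'
  refine key (p * r) (mul_mem hpU hrU) hpr.mul_ne_one ?_
  have ht1s : t1 * t1 = 1 := by
    by_contra hne
    have := hM2 (t1 * t1) (mul_mem ht1 ht1) t1 ht1 hne ht1'
    exact ht1' (mul_eq_left.1 this)
  calc p * r * a * (p * r)⁻¹ = p * (r * a * r⁻¹) * p⁻¹ := by group
    _ = p * (t2 * a) * p⁻¹ := by rw [h2]
    _ = (p * t2) * a * p⁻¹ := by group
    _ = t2 * (p * a * p⁻¹) := by rw [central_of_card_two hM hMc ht2 p]; group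
    _ = t2 * (t1 * a) := by rw [h1]
    _ = (t1 * t1) * a := by rw [ht]; group
    _ = a := by rw [ht1s, one_mul]

include hQ hU hfix in
/-- a cyclic normal subgroup, self-centralising in `S` -/
theorem exists_cyclic : ∃ R : Subgroup Q, R.Normal ∧ R ≤ S ∧ IsCyclic R ∧
    ∀ x ∈ S, (∀ y ∈ R, x * y = y * x) → x ∈ R := by
  classical
  haveI : Fact (Nat.Prime 2) := ⟨Nat.prime_two⟩
  obtain ⟨R, ⟨hRn, hRS, hRc⟩, hmax⟩ := Set.exists_max_image
    {R : Subgroup Q | R.Normal ∧ R ≤ S ∧ ∀ x ∈ R, ∀ y ∈ R, x * y = y * x} (fun R => Nat.card R)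
    (Set.toFinite _) ⟨⊥, inferInstance, bot_le, by
      intro x hx y hy
      rw [mem_bot.1 hx, mem_bot.1 hy]⟩
  haveI := hRn
  -- self-centralising
  have hself : ∀ x ∈ S, (∀ y ∈ R, x * y = y * x) → x ∈ R := by
    intro x hxS hx
    by_contra hxR
    let C : Subgroup Q := centralizer (R : Set Q) ⊓ S
    haveI hCn : C.Normal := inferInstance
    have hRC : R ≤ C := by
      intro y hy
      exact ⟨mem_centralizer_iff.2 fun w hw => hRc w hw y hy, hRS hy⟩
    have hxC : x ∈ C := ⟨mem_centralizer_iff.2 fun w hw => (hx w hw).symm, hxS⟩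
    obtain ⟨k, hk⟩ := (IsPGroup.iff_card.1 (hQ.to_subgroup C))
    obtain ⟨i, hi⟩ := (IsPGroup.iff_card.1 (hQ.to_subgroup R))
    have hlt : Nat.card R < Nat.card C := by
      have h1 : Nat.card R ≤ Nat.card C :=
        Nat.card_le_card_of_injective (Subgroup.inclusion hRC) (Subgroup.inclusion_injective hRC)
      refine lt_of_le_of_ne h1 fun h => hxR ?_
      rw [Subgroup.eq_of_le_of_card_ge hRC h.ge]
      exact hxC
    have hik : i < k := by
      rw [hk, hi] at hlt
      exact (Nat.pow_lt_pow_iff_right (by norm_num)).1 hlt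
    obtain ⟨M, hM, hRM, hMC, hMc⟩ := H3.RankTwo.exists_normal_card_ge (p := 2) hQ C hk R hRC hi
      (i + 1) (by omega) (by omega)
    have hrel : R.relIndex M = 2 := rel2_of_card hRM (by rw [hMc, hi, pow_succ, mul_comm])
    have hne : ¬ M ≤ R := by
      intro h
      have := Nat.card_le_card_of_injective (Subgroup.inclusion h) (Subgroup.inclusion_injective h)
      rw [hMc, hi] at this
      have := (Nat.pow_le_pow_iff_right (by norm_num : 1 < 2)).1 this
      omega
    obtain ⟨b, hbM, hbR⟩ := SetLike.not_le_iff_exists.1 hne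
    have hcen : ∀ y ∈ M, ∀ w ∈ R, y * w = w * y := fun y hy w hw =>
      (mem_centralizer_iff.1 (hMC hy).1 w hw).symm
    have hMcomm : ∀ y ∈ M, ∀ w ∈ M, y * w = w * y := by
      intro y hy w hw
      by_cases hyR : y ∈ R
      · exact (hcen w hw y hyR).symm
      by_cases hwR : w ∈ R
      · exact hcen y hy w hwR
      have h1 := rel2 hrel hy hw hyR hwR
      have h2 := hcen w hw _ h1
      calc y * w = (y * w⁻¹) * w * w := by group
        _ = (w * (y * w⁻¹)) * w := by rw [h2]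
        _ = w * y := by group
    have h3 := hmax M ⟨hM, hMC.trans inf_le_right, hMcomm⟩
    change Nat.card M ≤ Nat.card R at h3
    rw [hMc, hi] at h3
    have := (Nat.pow_le_pow_iff_right (by norm_num : 1 < 2)).1 h3
    omega
  refine ⟨R, hRn, hRS, ?_, hself⟩
  -- cyclic
  have hRp : IsPGroup 2 R := hQ.to_subgroup R
  refine H1.Cyc.isCyclic_of_card_pow_le (p := 2) hRp
    (fun a b => Subtype.ext (hRc a a.2 b b.2)) ?_
  by_contra hcard
  rw [not_le] at hcard
  let Ω : Subgroup Q :=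
    { carrier := {x | x ∈ R ∧ x ^ 2 = 1}
      one_mem' := ⟨one_mem _, one_pow 2⟩
      mul_mem' := by
        rintro x y ⟨hx, hx2⟩ ⟨hy, hy2⟩
        refine ⟨mul_mem hx hy, ?_⟩
        rw [(show Commute x y from hRc x hx y hy).mul_pow, hx2, hy2, one_mul]
      inv_mem' := by
        rintro x ⟨hx, hx2⟩
        exact ⟨inv_mem hx, by rw [inv_pow, hx2, inv_one]⟩ }
  have hΩn : Ω.Normal := by
    constructor
    rintro x ⟨hx, hx2⟩ g
    exact ⟨hRn.conj_mem x hx g, by rw [conj_pow, hx2]; group⟩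
  haveI := hΩn
  have hΩc : Nat.card Ω = Nat.card {x : R // x ^ 2 = 1} := by
    refine Nat.card_congr ⟨fun x => ⟨⟨x.1, x.2.1⟩, Subtype.ext x.2.2⟩,
      fun x => ⟨x.1.1, x.1.2, congrArg Subtype.val x.2⟩, fun x => rfl, fun x => rfl⟩
  obtain ⟨k, hk⟩ := (IsPGroup.iff_card.1 (hQ.to_subgroup Ω))
  have hk2 : 2 ≤ k := by
    rw [← hΩc, hk] at hcard
    by_contra hcon
    have : k ≤ 1 := by omega
    have := Nat.pow_le_pow_right (show 0 < 2 by norm_num) this
    omega
  obtain ⟨W, hW, hWΩ, hWc⟩ := H3.RankTwo.exists_normal_card (p := 2) hQ Ω hk hk2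
  refine no_normal hQ S U hU hfix W (fun x hx => hRS (hWΩ hx).1) hW ?_
  refine isKlein_of (by rw [hWc]; rfl) ?_
  intro x hx
  have := (hWΩ hx).2
  rwa [pow_two] at this

end

end H68.FourOp
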