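import Cfsg.Agent.Lib.H68.FourOp2

set_option autoImplicit false
set_option linter.unusedVariables false
set_option linter.unusedSectionVars false
set_option linter.style.haveILetI false
set_option maxHeartbeats 1000000

/-!
# A four-group of operators on a 2-group: the structure of `S`
-/

namespace H68.FourOp

open Subgroup H17.FourGrp

variable {Q : Type*} [Group Q]

section
variable [Finite Q] (hQ : IsPGroup 2 Q) (S U : Subgroup Q) [hSn : S.Normal] (hU : IsKleinFour U)
  (hfix : ∀ u ∈ U, u ≠ 1 → ∀ V : Subgroup Q, V ≤ S → IsKleinFour V → ¬ (∀ v ∈ V, u * v = v * u))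

include hQ hU hfix in
theorem rel_two (R : Subgroup Q) [R.Normal] (hRS : R ≤ S) (hRc : IsCyclic R)
    (hself : ∀ x ∈ S, (∀ y ∈ R, x * y = y * x) → x ∈ R) (hns : ∃ s ∈ S, s ∉ R) :
    R.relIndex S = 2 := by
  haveI : Fact (Nat.Prime 2) := ⟨Nat.prime_two⟩
  obtain ⟨n, hn⟩ := (IsPGroup.iff_card.1 (hQ.to_subgroup R))
  have hna : ¬ IsMulCommutative S := by
    intro h
    obtain ⟨s, hs, hsR⟩ := hns
    exact hsR (hself s hs (fun y hy => congrArg Subtype.val (h.is_comm.comm ⟨s, hs⟩ ⟨y, hRS hy⟩)))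
  have hRcomm : ∀ x ∈ R, ∀ y ∈ R, x * y = y * x := by
    intro x hx y hy
    letI : CommGroup R := IsCyclic.commGroup
    exact congrArg Subtype.val (mul_comm (⟨x, hx⟩ : R) ⟨y, hy⟩)
  have hc : Subgroup.centralizer ((R.subgroupOf S : Subgroup S) : Set S) = R.subgroupOf S := by
    ext x
    constructor
    · intro hx
      rw [mem_subgroupOf]
      refine hself x x.2 (fun y hy => ?_)
      have := mem_centralizer_iff.1 hx ⟨y, hRS hy⟩ (mem_subgroupOf.2 hy)
      exact (congrArg Subtype.val this).symm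
    · intro hx
      rw [mem_centralizer_iff]
      intro y hy
      exact Subtype.ext (hRcomm y (mem_subgroupOf.1 hy) x (mem_subgroupOf.1 hx))
  have hcyc : IsCyclic (R.subgroupOf S) := (subgroupOfEquivOfLe hRS).isCyclic.2 hRc
  have hcard : Nat.card (R.subgroupOf S) = 2 ^ n := by
    rw [Nat.card_congr (subgroupOfEquivOfLe hRS).toEquiv, hn]
  rcases Cfsg.Agent.S3761.result (hQ.to_subgroup S) hna (R.subgroupOf S) hcyc n hcard hc with
    ⟨_, h1, _⟩ | ⟨_, h2, h3, h4⟩
  · exact rel2_of_card hRS (by rw [h1, hn, pow_succ, mul_comm])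
  · exfalso
    haveI := h4
    refine no_normal hQ S U hU hfix (Subgroup.map S.subtype _) (map_subtype_le _)
      (ConjAct.normal_of_characteristic_of_normal (K := Cfsg.omegaOne 2 (Subgroup.centralizer
        (Cfsg.powerClosure 2 1 (R.subgroupOf S) : Set S)))) (isKlein_of ?_ ?_)
    · rw [Subgroup.card_map_of_injective S.subtype_injective, h3]; rfl
    · rintro _ ⟨x, hx, rfl⟩
      have := h2.2 x hx
      rw [pow_two] at this
      exact congrArg Subtype.val this

end

theorem uniq_inv {r : Q} {n : ℕ} (hr : orderOf r = 2 ^ (n + 1)) {x : Q} (hx : x ∈ zpowers r)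
    (h2 : x * x = 1) : x = 1 ∨ x = r ^ (2 ^ n) := by
  obtain ⟨i, rfl⟩ := mem_zpowers_iff.1 hx
  have hz : r ^ (2 ^ n) * r ^ (2 ^ n) = 1 := by
    rw [← pow_add, ← two_mul, ← pow_succ', ← hr, pow_orderOf_eq_one]
  rw [← zpow_add] at h2
  have h3 := orderOf_dvd_iff_zpow_eq_one.2 h2
  rw [hr] at h3
  have h4 : ((2 : ℤ) ^ n) ∣ i := by
    have : (2 : ℤ) * 2 ^ n ∣ 2 * i := by
      rw [two_mul i]
      have e : (((2 : ℕ) ^ (n + 1) : ℕ) : ℤ) = 2 * 2 ^ n := by push_cast; ring
      rw [← e]; exact h3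
    exact (mul_dvd_mul_iff_left (by norm_num)).1 this
  obtain ⟨t, rfl⟩ := h4
  have h5 : r ^ ((2 : ℤ) ^ n * t) = (r ^ (2 ^ n)) ^ t := by
    rw [zpow_mul]
    congr 1
    have : ((2 : ℤ) ^ n) = ((2 ^ n : ℕ) : ℤ) := by push_cast; rfl
    rw [this, zpow_natCast]
  rw [h5]
  rcases Int.even_or_odd' t with ⟨c, rfl | rfl⟩
  · left
    rw [zpow_mul, zpow_two, hz, one_zpow]
  · right
    rw [zpow_add, zpow_mul, zpow_two, hz, one_zpow, one_mul, zpow_one]

theorem central_z {R : Subgroup Q} (hR : R.Normal) {z : Q} (hzR : z ∈ R) (hz1 : z ≠ 1) (hzz : z * z = 1)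
    (huniq : ∀ x ∈ R, x * x = 1 → x = 1 ∨ x = z) (g : Q) : g * z = z * g := by
  have h1 : g * z * g⁻¹ = z := by
    rcases huniq _ (hR.conj_mem z hzR g) (by
      calc g * z * g⁻¹ * (g * z * g⁻¹) = g * (z * z) * g⁻¹ := by group
        _ = 1 := by rw [hzz]; group) with h | h
    · exact absurd (by
        have : z = g⁻¹ * (g * z * g⁻¹) * g := by group
        rw [this, h]; group) hz1
    · exact h
  calc g * z = (g * z * g⁻¹) * g := by group
    _ = z * g := by rw [h1]

theorem odd_exp {r s : Q} {e : ℕ} (hr : r ^ (2 ^ e) = 1) (hr1 : r ≠ 1) (hss : s * s = 1) {k : ℤ}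
    (hk : s * r * s⁻¹ = r ^ k) : r ^ (k * k) = r ∧ k % 2 = 1 := by
  have hsi : s⁻¹ = s := inv_eq_of_mul_eq_one_right hss
  have h0 : r ^ (k * k) = r := by
    have h1 : s * (s * r * s⁻¹) * s⁻¹ = r := by
      rw [hsi]
      calc s * (s * r * s) * s = (s * s) * r * (s * s) := by group
        _ = r := by rw [hss]; group
    rw [hk, conj_zpow' hk k, ← zpow_mul] at h1
    exact h1
  refine ⟨h0, ?_⟩
  by_contra hcon
  have h2 : k % 2 = 0 := by omega
  have h1 : (k * k - 1) % 2 = 1 := by
    obtain ⟨t, ht⟩ : ∃ t, k = 2 * t := ⟨k / 2, by omega⟩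
    rw [ht]
    have : (2 * t * (2 * t) - 1) = 2 * (2 * t * t - 1) + 1 := by ring
    rw [this]; omega
  refine hr1 (eq_one_of_odd hr h1 ?_)
  rw [zpow_sub, h0, zpow_one, mul_inv_cancel]

theorem step_q [Finite Q] {S R : Subgroup Q} [hRn : R.Normal] (hSn : S.Normal) (hRS : R ≤ S) {r : Q}
    (hr : zpowers r = R) {n : ℕ} (hord : orderOf r = 2 ^ (n + 1))
    (hself : ∀ x ∈ S, (∀ y ∈ R, x * y = y * x) → x ∈ R) (hrel : R.relIndex S = 2) {s : Q} (hs : s ∈ S)
    (hsR : s ∉ R) (hss : s * s = 1)
    (hnn : ∀ W : Subgroup Q, W ≤ S → W.Normal → IsKleinFour W → False) :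
    ∃ q ∈ R, (∃ ρ ∈ zpowers q, ρ * ρ = r ^ (2 ^ n)) ∧ (∀ g, ∃ m : ℤ, g * q * g⁻¹ = q ^ m) ∧
      s * q * s⁻¹ = q⁻¹ ∧ (∀ x ∈ S, x ∉ R → x * x = 1 → ∃ i : ℤ, x = q ^ i * s) := by
  obtain ⟨z, hz⟩ : ∃ z, z = r ^ (2 ^ n) := ⟨_, rfl⟩
  rw [← hz]
  have hrn : r ^ (2 ^ (n + 1)) = 1 := by rw [← hord, pow_orderOf_eq_one]
  have hrR : r ∈ R := by rw [← hr]; exact mem_zpowers r
  have hz1 : z ≠ 1 := by
    rw [hz]
    refine pow_ne_one_of_lt_orderOf (by positivity) ?_
    rw [hord]
    exact Nat.pow_lt_pow_right (by norm_num) (by omega)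
  have hzz : z * z = 1 := by
    rw [hz, ← pow_add, ← two_mul, ← pow_succ', hrn]
  have hr1 : r ≠ 1 := by
    rintro rfl
    exact hz1 (by rw [hz, one_pow])
  have hzR : z ∈ R := by rw [hz]; exact pow_mem hrR _
  have huniq : ∀ x ∈ R, x * x = 1 → x = 1 ∨ x = z := by
    intro x hx h2
    rw [hz]
    exact uniq_inv hord (by rw [hr]; exact hx) h2
  have hzc := central_z hRn hzR hz1 hzz huniq
  have hnorm : ∀ g, ∃ m : ℤ, g * r * g⁻¹ = r ^ m := by
    intro g
    have h1 := hRn.conj_mem r hrR g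
    rw [← hr] at h1
    obtain ⟨m, hm⟩ := mem_zpowers_iff.1 h1
    exact ⟨m, hm.symm⟩
  obtain ⟨k, hk⟩ := hnorm s
  obtain ⟨hk2, hkodd⟩ := odd_exp hrn hr1 hss hk
  have hk2' : r ^ (k * k - 1) = 1 := by
    rw [zpow_sub, hk2, zpow_one, mul_inv_cancel]
  have hcomm : s * r ≠ r * s := by
    intro h
    apply hsR
    refine hself s hs ?_
    intro y hy
    rw [← hr] at hy
    obtain ⟨i, rfl⟩ := mem_zpowers_iff.1 hy
    exact ((show Commute s r from h).zpow_right i).eq
  have hS' : ∀ x ∈ S, x ∉ R → ∃ i : ℤ, x = r ^ i * s := by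
    intro x hx hxR
    have h1 := rel2 hrel hx hs hxR hsR
    rw [← hr] at h1
    obtain ⟨i, hi⟩ := mem_zpowers_iff.1 h1
    exact ⟨i, by rw [hi]; group⟩
  have h4 : k % 4 = 1 ∨ k % 4 = 3 := by omega
  have hmul : ∀ (i : ℤ), s * r ^ i = (s * r * s⁻¹) ^ i * s := by
    intro i
    rw [← conj_zpow' (u := s) (q := r) rfl i]
    group
  rcases h4 with h4 | h4
  · exfalso
    obtain ⟨k', hk'⟩ : ∃ k', k + 1 = 2 * k' := ⟨(k + 1) / 2, by omega⟩
    have h1 : r ^ (k - 1) * r ^ (k - 1) = 1 := by
      have h9 : (r ^ (2 * (k - 1))) ^ k' = 1 := by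
        rw [← zpow_mul, show 2 * (k - 1) * k' = (k - 1) * (2 * k') by ring, ← hk',
          show (k - 1) * (k + 1) = k * k - 1 by ring]
        exact hk2'
      have h10 : r ^ (2 * (k - 1)) = 1 := by
        refine eq_one_of_odd (e := n + 1) ?_ (by omega) h9
        rw [← zpow_natCast, ← zpow_mul, mul_comm, zpow_mul, zpow_natCast, hrn, one_zpow]
      rw [← zpow_add, show k - 1 + (k - 1) = 2 * (k - 1) by ring]
      exact h10
    rcases huniq _ (zpow_mem hrR _) h1 with h | h
    · apply hcomm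
      have : r ^ k = r := by
        rw [show k = (k - 1) + 1 by ring, zpow_add, h, one_mul, zpow_one]
      rw [this] at hk
      exact mul_inv_eq_iff_eq_mul.1 hk
    · have hr4 : r ^ (4 : ℤ) ≠ 1 := by
        intro h5
        apply hz1
        rw [← h]
        obtain ⟨t, ht⟩ : ∃ t, k - 1 = 4 * t := ⟨(k - 1) / 4, by omega⟩
        rw [ht, zpow_mul, h5, one_zpow]
      have hsr : s * r * s⁻¹ = z * r := by
        rw [hk, show k = (k - 1) + 1 by ring, zpow_add, h, zpow_one]
      have hp : IsPair z s := ⟨hz1, fun h => hsR (by rw [h]; exact one_mem _), fun h => hsR (h ▸ hzR),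
        hzz, hss, (hzc s).symm⟩
      have hinv : ∀ x ∈ S, x * x = 1 → x ∈ four z s hp := by
        intro x hx h2
        rw [mem_four]
        by_cases hxR : x ∈ R
        · rcases huniq x hxR h2 with h | h
          · exact Or.inl h
          · exact Or.inr (Or.inl h)
        · obtain ⟨i, rfl⟩ := hS' x hx hxR
          have e1 : (z * r) ^ i = z ^ i * r ^ i := (show Commute z r from (hzc r).symm).mul_zpow i
          have e2 : r ^ i * s * (r ^ i * s) = z ^ i * (r ^ i * r ^ i) := by
            calc r ^ i * s * (r ^ i * s) = r ^ i * (s * r ^ i) * s := by group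
              _ = r ^ i * (z ^ i * r ^ i * s) * s := by rw [hmul, hsr, e1]
              _ = (r ^ i * z ^ i) * r ^ i * (s * s) := by group
              _ = (z ^ i * r ^ i) * r ^ i := by
                rw [hss, mul_one]
                congr 1
                exact ((show Commute (r ^ i) z from hzc _).zpow_right i).eq
              _ = z ^ i * (r ^ i * r ^ i) := by group
          rw [e2] at h2
          rcases Int.even_or_odd' i with ⟨c, hc | hc⟩
          · have e3 : z ^ i = 1 := by rw [hc, zpow_mul, zpow_two, hzz, one_zpow]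
            rw [e3, one_mul] at h2
            rcases huniq _ (zpow_mem hrR i) h2 with h | h
            · right; right; left
              rw [h, one_mul]
            · right; right; right
              rw [h]
          · exfalso
            have e3 : z ^ i = z := by rw [hc, zpow_add, zpow_mul, zpow_two, hzz, one_zpow, one_mul, zpow_one]
            rw [e3] at h2
            apply hr4
            have e4 : (r ^ (4 : ℤ)) ^ i = 1 := by
              have e5 : r ^ i * r ^ i = z := by
                have : z = z⁻¹ := eq_inv_of_mul_eq_one_left hzz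
                rw [this]
                exact eq_inv_of_mul_eq_one_right h2
              rw [← zpow_mul, show 4 * i = (i + i) + (i + i) by ring, zpow_add, zpow_add, e5, hzz]
            refine eq_one_of_odd (e := n + 1) ?_ (m := i) (by omega) e4
            rw [← zpow_natCast, ← zpow_mul, mul_comm, zpow_mul, zpow_natCast, hrn, one_zpow]
      have hfS : four z s hp ≤ S := by
        rintro x (rfl | rfl | rfl | rfl)
        · exact one_mem _
        · exact hRS hzR
        · exact hs
        · exact mul_mem (hRS hzR) hs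
      refine hnn (four z s hp) hfS ⟨?_⟩ (isKlein_four hp)
      intro x hx g
      refine hinv _ (hSn.conj_mem x (hfS hx) g) ?_
      have hx2 : x * x = 1 := by
        haveI := isKlein_four hp
        have := IsKleinFour.mul_self (⟨x, hx⟩ : four z s hp)
        exact congrArg Subtype.val this
      calc g * x * g⁻¹ * (g * x * g⁻¹) = g * (x * x) * g⁻¹ := by group
        _ = 1 := by rw [hx2]; group
  · obtain ⟨k', hk'⟩ : ∃ k', k - 1 = 2 * k' := ⟨(k - 1) / 2, by omega⟩
    have h1 : r ^ (k + 1) * r ^ (k + 1) = 1 := by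
      have h9 : (r ^ (2 * (k + 1))) ^ k' = 1 := by
        rw [← zpow_mul, show 2 * (k + 1) * k' = (k + 1) * (2 * k') by ring, ← hk',
          show (k + 1) * (k - 1) = k * k - 1 by ring]
        exact hk2'
      have h10 : r ^ (2 * (k + 1)) = 1 := by
        refine eq_one_of_odd (e := n + 1) ?_ (by omega) h9
        rw [← zpow_natCast, ← zpow_mul, mul_comm, zpow_mul, zpow_natCast, hrn, one_zpow]
      rw [← zpow_add, show k + 1 + (k + 1) = 2 * (k + 1) by ring]
      exact h10
    rcases huniq _ (zpow_mem hrR _) h1 with h | h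
    · -- dihedral
      have hsr : s * r * s⁻¹ = r⁻¹ := by
        rw [hk, show k = (k + 1) + (-1) by ring, zpow_add, h, one_mul, zpow_neg_one]
      refine ⟨r, hrR, ?_, hnorm, hsr, fun x hx hxR _ => hS' x hx hxR⟩
      rcases n with _ | n
      · exfalso
        apply hcomm
        have h2 : r * r = 1 := by
          rw [← pow_two]; simpa using hrn
        have h3 : r⁻¹ = r := inv_eq_of_mul_eq_one_right h2
        rw [h3] at hsr
        exact mul_inv_eq_iff_eq_mul.1 hsr
      · refine ⟨r ^ (2 ^ n), pow_mem (mem_zpowers r) _, ?_⟩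
        rw [← pow_add, ← two_mul, ← pow_succ', hz]
    · -- semidihedral
      have hr4 : r ^ (4 : ℤ) ≠ 1 := by
        intro h5
        apply hz1
        rw [← h]
        obtain ⟨t, ht⟩ : ∃ t, k + 1 = 4 * t := ⟨(k + 1) / 4, by omega⟩
        rw [ht, zpow_mul, h5, one_zpow]
      have hsr : s * r * s⁻¹ = z * r⁻¹ := by
        rw [hk, show k = (k + 1) + (-1) by ring, zpow_add, h, zpow_neg_one]
      have hzr : (z * r⁻¹) * (z * r⁻¹) = (r * r)⁻¹ := by
        calc (z * r⁻¹) * (z * r⁻¹) = z * (r⁻¹ * z) * r⁻¹ := by group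
          _ = z * (z * r⁻¹) * r⁻¹ := by rw [hzc]
          _ = (z * z) * (r⁻¹ * r⁻¹) := by group
          _ = (r * r)⁻¹ := by rw [hzz]; group
      refine ⟨r * r, mul_mem hrR hrR, ?_, ?_, ?_, ?_⟩
      · rcases n with _ | n
        · exfalso
          apply hr4
          have h2 : r ^ 2 = 1 := by simpa using hrn
          have : r ^ (4 : ℤ) = (r ^ 2) ^ 2 := by rw [← pow_mul]; norm_cast
          rw [this, h2, one_pow]
        rcases n with _ | n
        · exfalso
          apply hr4
          have h2 : r ^ 4 = 1 := by simpa using hrn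
          have : r ^ (4 : ℤ) = r ^ 4 := by norm_cast
          rw [this, h2]
        refine ⟨(r * r) ^ (2 ^ n), pow_mem (mem_zpowers _) _, ?_⟩
        rw [← pow_add, ← pow_two, ← pow_mul, hz]
        congr 1
        ring
      · intro g
        obtain ⟨m, hm⟩ := hnorm g
        refine ⟨m, ?_⟩
        calc g * (r * r) * g⁻¹ = (g * r * g⁻¹) * (g * r * g⁻¹) := by group
          _ = r ^ m * r ^ m := by rw [hm]
          _ = (r * r) ^ m := by rw [(Commute.refl r).mul_zpow]
      · calc s * (r * r) * s⁻¹ = (s * r * s⁻¹) * (s * r * s⁻¹) := by group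
          _ = (r * r)⁻¹ := by rw [hsr, hzr]
      · intro x hx hxR hx2
        obtain ⟨i, rfl⟩ := hS' x hx hxR
        have e1 : (z * r⁻¹) ^ i = z ^ i * (r ^ i)⁻¹ := by
          rw [(show Commute z r⁻¹ from (hzc _).symm).mul_zpow i, inv_zpow]
        have e2 : r ^ i * s * (r ^ i * s) = z ^ i := by
          calc r ^ i * s * (r ^ i * s) = r ^ i * (s * r ^ i) * s := by group
            _ = r ^ i * (z ^ i * (r ^ i)⁻¹ * s) * s := by rw [hmul, hsr, e1]
            _ = (r ^ i * z ^ i) * (r ^ i)⁻¹ * (s * s) := by group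
            _ = (z ^ i * r ^ i) * (r ^ i)⁻¹ := by
              rw [hss, mul_one]
              congr 1
              exact ((show Commute (r ^ i) z from hzc _).zpow_right i).eq
            _ = z ^ i := by group
        rw [e2] at hx2
        rcases Int.even_or_odd' i with ⟨c, hc | hc⟩
        · refine ⟨c, ?_⟩
          rw [hc, zpow_mul, zpow_two]
        · exfalso
          apply hz1
          rw [hc, zpow_add, zpow_mul, zpow_two, hzz, one_zpow, one_mul, zpow_one] at hx2
          exact hx2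

end H68.FourOp
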