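import Cfsg.Agent.Lib.H68.FourOp3

set_option autoImplicit false
set_option linter.unusedVariables false
set_option linter.unusedSectionVars false
set_option linter.style.haveILetI false
set_option maxHeartbeats 1000000

/-!
# A four-group of operators on a 2-group: final form
-/

namespace H68.FourOp

open Subgroup H17.FourGrp

variable {Q : Type*} [Group Q]

section
variable [Finite Q] (hQ : IsPGroup 2 Q) (S U : Subgroup Q) [hSn : S.Normal] (hU : IsKleinFour U)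
  (hfix : ∀ u ∈ U, u ≠ 1 → ∀ V : Subgroup Q, V ≤ S → IsKleinFour V → ¬ (∀ v ∈ V, u * v = v * u))

include hQ hU hfix in
theorem two_group (hV : ∃ V : Subgroup Q, V ≤ S ∧ IsKleinFour V) :
    ∃ R : Subgroup Q, ∃ z s u w : Q, R.Normal ∧ R ≤ S ∧ R.relIndex S = 2 ∧ z ∈ R ∧ z ≠ 1 ∧ z * z = 1 ∧
      (∀ x ∈ R, x * x = 1 → x = 1 ∨ x = z) ∧ (∀ g, g * z = z * g) ∧ s ∈ S ∧ s ∉ R ∧ s * s = 1 ∧
      u ∈ U ∧ w * u⁻¹ ∈ S ∧ w * w = z ∧ w * s = s * w ∧ ∀ y, y * u⁻¹ ∈ S → y * y ∈ R := by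
  haveI : Fact (Nat.Prime 2) := ⟨Nat.prime_two⟩
  obtain ⟨R, hRn, hRS, hRc, hself⟩ := exists_cyclic hQ S U hU hfix
  haveI := hRn
  obtain ⟨V, hVS, hV4⟩ := hV
  obtain ⟨a, b, hab, hVe⟩ := exists_pair hV4
  have haV : a ∈ V := by rw [hVe]; exact (mem_four hab).2 (Or.inr (Or.inl rfl))
  have hbV : b ∈ V := by rw [hVe]; exact (mem_four hab).2 (Or.inr (Or.inr (Or.inl rfl)))
  -- a generator
  obtain ⟨⟨r, hrR⟩, hgen⟩ := hRc.exists_generator
  have hr : zpowers r = R := by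
    apply le_antisymm
    · rw [zpowers_le]; exact hrR
    · intro x hx
      obtain ⟨i, hi⟩ := mem_zpowers_iff.1 (hgen ⟨x, hx⟩)
      exact mem_zpowers_iff.2 ⟨i, congrArg Subtype.val hi⟩
  have hr1 : r ≠ 1 := by
    rintro rfl
    rw [zpowers_one_eq_bot] at hr
    have h1 : a ∈ R := by
      refine hself a (hVS haV) ?_
      intro y hy
      rw [← hr, mem_bot] at hy
      rw [hy, mul_one, one_mul]
    rw [← hr, mem_bot] at h1
    exact hab.ha h1
  obtain ⟨n, hord⟩ : ∃ n, orderOf r = 2 ^ (n + 1) := by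
    obtain ⟨k, hk⟩ := (IsPGroup.iff_orderOf.1 hQ) r
    rcases k with _ | k
    · rw [pow_zero, orderOf_eq_one_iff] at hk
      exact absurd hk hr1
    · exact ⟨k, hk⟩
  obtain ⟨z, hz⟩ : ∃ z, z = r ^ (2 ^ n) := ⟨_, rfl⟩
  have hrn : r ^ (2 ^ (n + 1)) = 1 := by rw [← hord, pow_orderOf_eq_one]
  have hz1 : z ≠ 1 := by
    rw [hz]
    refine pow_ne_one_of_lt_orderOf (by positivity) ?_
    rw [hord]
    exact Nat.pow_lt_pow_right (by norm_num) (by omega)
  have hzz : z * z = 1 := by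
    rw [hz, ← pow_add, ← two_mul, ← pow_succ', hrn]
  have hzR : z ∈ R := by rw [hz]; exact pow_mem hrR _
  have huniq : ∀ x ∈ R, x * x = 1 → x = 1 ∨ x = z := by
    intro x hx h2
    rw [hz]
    exact uniq_inv hord (by rw [hr]; exact hx) h2
  have hzc := central_z hRn hzR hz1 hzz huniq
  -- an involution outside `R`
  obtain ⟨s, hsV, hsR, hss⟩ : ∃ s ∈ V, s ∉ R ∧ s * s = 1 := by
    by_cases haR : a ∈ R
    · by_cases hbR : b ∈ R
      · exfalso
        have h1 := (huniq a haR hab.haa).resolve_left hab.ha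
        have h2 := (huniq b hbR hab.hbb).resolve_left hab.hb
        exact hab.hab (h1.trans h2.symm)
      · exact ⟨b, hbV, hbR, hab.hbb⟩
    · exact ⟨a, haV, haR, hab.haa⟩
  have hsS := hVS hsV
  have hrel := rel_two hQ S U hU hfix R hRS hRc hself ⟨s, hsS, hsR⟩
  obtain ⟨q, hqR, ⟨ρ, hρq, hρ⟩, hqn, hsq, hinv⟩ := step_q hSn hRS hr hord hself hrel hsS hsR hss
    (fun W hWS hWn hW4 => no_normal hQ S U hU hfix W hWS hWn hW4)
  rw [← hz] at hρ
  have hzq : z ∈ zpowers q := by rw [← hρ]; exact mul_mem hρq hρq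
  have hq1 : q ≠ 1 := by
    rintro rfl
    rw [zpowers_one_eq_bot, mem_bot] at hzq
    exact hz1 hzq
  obtain ⟨e, he⟩ := (IsPGroup.iff_orderOf.1 hQ) q
  have hqe : q ^ (2 ^ e) = 1 := by rw [← he, pow_orderOf_eq_one]
  have hgs : ∀ g, ∃ i : ℤ, g * s * g⁻¹ = q ^ i * s := by
    intro g
    refine hinv _ (hSn.conj_mem s hsS g) ?_ ?_
    · intro h
      apply hsR
      have := hRn.conj_mem _ h g⁻¹
      rw [show g⁻¹ * (g * s * g⁻¹) * g⁻¹⁻¹ = s by group] at this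
      exact this
    · calc g * s * g⁻¹ * (g * s * g⁻¹) = g * (s * s) * g⁻¹ := by group
        _ = 1 := by rw [hss]; group
  obtain ⟨u1, u2, hu12, hUe⟩ := exists_pair hU
  have hu1U : u1 ∈ U := by rw [hUe]; exact (mem_four hu12).2 (Or.inr (Or.inl rfl))
  have hu2U : u2 ∈ U := by rw [hUe]; exact (mem_four hu12).2 (Or.inr (Or.inr (Or.inl rfl)))
  have huU2 : ∀ u ∈ U, u * u = 1 := by
    intro u hu
    haveI := hU
    exact congrArg Subtype.val (IsKleinFour.mul_self (⟨u, hu⟩ : U))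
  obtain ⟨u, huU, hu1, j, hj⟩ : ∃ u ∈ U, u ≠ 1 ∧ ∃ j : ℤ, u * s * u⁻¹ = q ^ (2 * j) * s := by
    obtain ⟨i1, hi1⟩ := hgs u1
    obtain ⟨i2, hi2⟩ := hgs u2
    rcases Int.even_or_odd' i1 with ⟨c1, hc1 | hc1⟩
    · exact ⟨u1, hu1U, hu12.ha, c1, by rw [hi1, hc1]⟩
    rcases Int.even_or_odd' i2 with ⟨c2, hc2 | hc2⟩
    · exact ⟨u2, hu2U, hu12.hb, c2, by rw [hi2, hc2]⟩
    obtain ⟨m, hm⟩ := hqn u1
    have hmo := (odd_exp hqe hq1 hu12.haa hm).2
    obtain ⟨t, ht⟩ : ∃ t, m = 2 * t + 1 := ⟨m / 2, by omega⟩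
    refine ⟨u1 * u2, mul_mem hu1U hu2U, hu12.mul_ne_one, m * c2 + t + c1 + 1, ?_⟩
    calc u1 * u2 * s * (u1 * u2)⁻¹ = u1 * (u2 * s * u2⁻¹) * u1⁻¹ := by group
      _ = u1 * (q ^ i2 * s) * u1⁻¹ := by rw [hi2]
      _ = (u1 * q ^ i2 * u1⁻¹) * (u1 * s * u1⁻¹) := by group
      _ = q ^ (m * i2) * (q ^ i1 * s) := by rw [conj_zpow' hm i2, hi1, ← zpow_mul]
      _ = q ^ (m * i2 + i1) * s := by rw [← mul_assoc, ← zpow_add]
      _ = q ^ (2 * (m * c2 + t + c1 + 1)) * s := by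
        congr 2
        rw [hc1, hc2]
        linear_combination ht
  obtain ⟨m, hm⟩ := hqn u
  have hsqi : ∀ i : ℤ, s * q ^ i * s⁻¹ = (q ^ i)⁻¹ := by
    intro i
    rw [conj_zpow' hsq i, inv_zpow]
  have hnofix : ∀ i : ℤ, u * (q ^ i * s) * u⁻¹ ≠ q ^ i * s := by
    intro i hi
    have hxS : q ^ i * s ∈ S := mul_mem (hRS (zpow_mem hqR i)) hsS
    have hxR : q ^ i * s ∉ R := by
      intro h
      apply hsR
      exact (R.mul_mem_cancel_left (zpow_mem hqR i)).1 h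
    have hxx : (q ^ i * s) * (q ^ i * s) = 1 := by
      have hsi : s⁻¹ = s := inv_eq_of_mul_eq_one_right hss
      have h1 := hsqi i
      rw [hsi] at h1
      calc (q ^ i * s) * (q ^ i * s) = q ^ i * (s * q ^ i * s) := by group
        _ = 1 := by rw [h1, mul_inv_cancel]
    have hp : IsPair z (q ^ i * s) := ⟨hz1, fun h => hxR (by rw [h]; exact one_mem _),
      fun h => hxR (by rw [← h]; exact hzR), hzz, hxx, (hzc _).symm⟩
    refine hfix u huU hu1 (four z (q ^ i * s) hp) ?_ (isKlein_four hp) ?_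
    · rintro x (rfl | rfl | rfl | rfl)
      · exact one_mem _
      · exact hRS hzR
      · exact hxS
      · exact mul_mem (hRS hzR) hxS
    · have hc : u * (q ^ i * s) = (q ^ i * s) * u := mul_inv_eq_iff_eq_mul.1 hi
      rintro x (rfl | rfl | rfl | rfl)
      · rw [mul_one, one_mul]
      · exact hzc u
      · exact hc
      · exact ((show Commute u z from hzc u).mul_right (show Commute u (q ^ i * s) from hc)).eq
  obtain ⟨huq, hus⟩ := core hqe hzq hz1 hzz (fun x hx => huniq x (by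
      have : zpowers q ≤ R := by rw [zpowers_le]; exact hqR
      exact this hx)) (huU2 u huU) hm hj hnofix
  have huρ : u * ρ = ρ * u := by
    obtain ⟨i, rfl⟩ := mem_zpowers_iff.1 hρq
    exact ((show Commute u q from mul_inv_eq_iff_eq_mul.1 huq).zpow_right i).eq
  have hρR : ρ ∈ R := by
    have : zpowers q ≤ R := by rw [zpowers_le]; exact hqR
    exact this hρq
  have hsρ : s * ρ * s⁻¹ = ρ⁻¹ := by
    obtain ⟨i, rfl⟩ := mem_zpowers_iff.1 hρq
    exact hsqi i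
  have hzi : z⁻¹ = z := inv_eq_of_mul_eq_one_right hzz
  have hui : u⁻¹ = u := inv_eq_of_mul_eq_one_right (huU2 u huU)
  have hsi : s⁻¹ = s := inv_eq_of_mul_eq_one_right hss
  refine ⟨R, z, s, u, u * ρ⁻¹, hRn, hRS, hrel, hzR, hz1, hzz, huniq, hzc, hsS, hsR, hss, huU, ?_, ?_,
    ?_, ?_⟩
  · have : u * ρ⁻¹ * u⁻¹ ∈ S := hSn.conj_mem _ (inv_mem (hRS hρR)) u
    exact this
  · have h1 : ρ⁻¹ * u = u * ρ⁻¹ := ((show Commute u ρ from huρ).inv_right).eq.symm
    calc u * ρ⁻¹ * (u * ρ⁻¹) = u * (ρ⁻¹ * u) * ρ⁻¹ := by group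
      _ = u * (u * ρ⁻¹) * ρ⁻¹ := by rw [h1]
      _ = (u * u) * (ρ * ρ)⁻¹ := by group
      _ = z := by rw [huU2 u huU, hρ, one_mul, hzi]
  · have h1 : ρ⁻¹ * s = s * ρ := by
      rw [← hsρ]; group
    have h2 : s * ρ⁻¹ = ρ * s := by
      have h3 : ρ * s = s * ρ⁻¹ := by
        have h4 : s * (s * ρ * s⁻¹) * s⁻¹ = s * ρ⁻¹ * s⁻¹ := by rw [hsρ]
        have h5 : s * (s * ρ * s⁻¹) * s⁻¹ = ρ := by
          rw [hsi]
          calc s * (s * ρ * s) * s = (s * s) * ρ * (s * s) := by group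
            _ = ρ := by rw [hss]; group
        rw [h5] at h4
        calc ρ * s = s * ρ⁻¹ * s⁻¹ * s := by rw [← h4]
          _ = s * ρ⁻¹ := by group
      exact h3.symm
    have h3 : u * s = z * s * u := mul_inv_eq_iff_eq_mul.1 hus
    have h4 : s * ρ = (s * ρ⁻¹) * z := by
      rw [← hρ]; group
    calc u * ρ⁻¹ * s = u * (ρ⁻¹ * s) := by group
      _ = u * (s * ρ) := by rw [h1]
      _ = (u * s) * ρ := by group
      _ = z * s * (u * ρ) := by rw [h3]; group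
      _ = z * s * (ρ * u) := by rw [huρ]
      _ = z * (s * ρ) * u := by group
      _ = z * (s * ρ⁻¹ * z) * u := by rw [h4]
      _ = (z * z) * (s * ρ⁻¹) * u := by
        rw [hzc (s * ρ⁻¹)]; group
      _ = s * (ρ⁻¹ * u) := by rw [hzz]; group
      _ = s * (u * ρ⁻¹) := by rw [((show Commute u ρ from huρ).inv_right).eq]
  · intro y hy
    obtain ⟨x, hx⟩ : ∃ x, x = y * u⁻¹ := ⟨_, rfl⟩
    rw [← hx] at hy
    have hy2 : y * y = x * (u * x * u⁻¹) := by
      have : y = x * u := by rw [hx]; group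
      rw [this]
      calc x * u * (x * u) = x * (u * x * u⁻¹) * (u * u) := by group
        _ = x * (u * x * u⁻¹) := by rw [huU2 u huU, mul_one]
    rw [hy2]
    by_cases hxR : x ∈ R
    · exact mul_mem hxR (hRn.conj_mem x hxR u)
    · have h1 : u * x * u⁻¹ ∈ S := hSn.conj_mem x hy u
      have h2 : u * x * u⁻¹ ∉ R := by
        intro h
        apply hxR
        have := hRn.conj_mem _ h u⁻¹
        rw [show u⁻¹ * (u * x * u⁻¹) * u⁻¹⁻¹ = x by group] at this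
        exact this
      have h3 := rel2 hrel hy (inv_mem h1) hxR (fun h => h2 (by simpa using inv_mem h))
      rw [inv_inv] at h3
      exact h3

end

end H68.FourOp
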