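import Cfsg.Agent.Lib.H68.FourOp4
import Cfsg.Agent.Lib.H68.Util
import Cfsg.Agent.Lib.H28.RelSyl
import Cfsg.Agent.Lib.H3.ThompsonTransfer

set_option autoImplicit false
set_option linter.unusedVariables false
set_option linter.unusedSectionVars false
set_option linter.style.haveILetI false
set_option maxHeartbeats 1000000

/-!
# A four-group of operators with no fixed four-group: fusion
-/

namespace H68.FourOp

open Subgroup H17.FourGrp H28.RelSyl H28.Cj

variable {G : Type*} [Group G]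

theorem klein_map {G₁ G₂ : Type*} [Group G₁] [Group G₂] (f : G₁ →* G₂) (hf : Function.Injective f)
    {V : Subgroup G₁} (hV : IsKleinFour V) : IsKleinFour (V.map f) := by
  refine isKlein_of (by rw [Subgroup.card_map_of_injective hf, hV.card_four]) ?_
  rintro _ ⟨x, hx, rfl⟩
  rw [← map_mul]
  haveI := hV
  have : x * x = 1 := congrArg Subtype.val (IsKleinFour.mul_self (⟨x, hx⟩ : V))
  rw [this, map_one]

theorem klein_subgroupOf {V K : Subgroup G} (hVK : V ≤ K) (hV : IsKleinFour V) :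
    IsKleinFour (V.subgroupOf K) := by
  refine isKlein_of (by rw [Nat.card_congr (subgroupOfEquivOfLe hVK).toEquiv, hV.card_four]) ?_
  intro x hx
  haveI := hV
  have : (x : G) * x = 1 := congrArg Subtype.val (IsKleinFour.mul_self (⟨x, hx⟩ : V))
  exact Subtype.ext this

theorem main [Finite G] (A U : Subgroup G) (hUA : U ≤ normalizer (A : Set G)) (hU : IsKleinFour U)
    (hA : ∀ M : Subgroup A, M.index ≠ 2)
    (hfix : ∀ u ∈ U, u ≠ 1 → ∀ V : Subgroup G, V ≤ A → IsKleinFour V → ¬ (∀ v ∈ V, u * v = v * u))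
    (V : Subgroup G) (hVA : V ≤ A) (hV : IsKleinFour V) : False := by
  haveI : Fact (Nat.Prime 2) := ⟨Nat.prime_two⟩
  have hU2 : IsPGroup 2 U := IsPGroup.of_card (n := 2) (by rw [hU.card_four]; rfl)
  have hV2 : IsPGroup 2 V := IsPGroup.of_card (n := 2) (by rw [hV.card_four]; rfl)
  have hAN : (A ⊔ U) ≤ normalizer (A : Set G) := sup_le le_normalizer hUA
  obtain ⟨P, hP, hUP⟩ := exists_isSyl_ge hU2 (le_sup_right : U ≤ A ⊔ U)
  obtain ⟨g₀, hg₀, hgV⟩ := hP.exists_conj_le hV2 (hVA.trans le_sup_left)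
  have hcjA : ∀ g ∈ A ⊔ U, ∀ a ∈ A, g * a * g⁻¹ ∈ A := fun g hg a ha =>
    (mem_normalizer_iff.1 (hAN hg) a).1 ha
  -- the commutators of `A ⊔ U` lie in `A`
  have hcom : ∀ x ∈ A ⊔ U, ∀ y ∈ A ⊔ U, x * y * (y * x)⁻¹ ∈ A := by
    intro x hx y hy
    obtain ⟨a, ha, v, hv, rfl⟩ := (H68.Util.mem_sup_of_le_normalizer hUA).1 hx
    obtain ⟨b, hb, t, ht, rfl⟩ := (H68.Util.mem_sup_of_le_normalizer hUA).1 hy
    have hvt : v * t = t * v := by
      haveI := hU
      have hsq : ∀ x ∈ U, x * x = 1 := fun x hx =>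
        congrArg Subtype.val (IsKleinFour.mul_self (⟨x, hx⟩ : U))
      have h1 : v⁻¹ = v := inv_eq_of_mul_eq_one_right (hsq v hv)
      have h2 : t⁻¹ = t := inv_eq_of_mul_eq_one_right (hsq t ht)
      have h3 : (v * t)⁻¹ = v * t := inv_eq_of_mul_eq_one_right (hsq _ (mul_mem hv ht))
      rw [← h3, mul_inv_rev, h1, h2]
    have : a * v * (b * t) * (b * t * (a * v))⁻¹ =
        a * (v * b * v⁻¹) * (b * (t * a * t⁻¹))⁻¹ := by
      calc a * v * (b * t) * (b * t * (a * v))⁻¹
          = a * (v * b * v⁻¹) * ((v * t) * (t * v)⁻¹) * (b * (t * a * t⁻¹))⁻¹ := by group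
        _ = a * (v * b * v⁻¹) * (b * (t * a * t⁻¹))⁻¹ := by rw [hvt]; group
    rw [this]
    refine mul_mem (mul_mem ha (hcjA v (mem_sup_right hv) b hb)) (inv_mem (mul_mem hb ?_))
    exact hcjA t (mem_sup_right ht) a ha
  haveI hSn : (A.subgroupOf P).Normal := normal_subgroupOf_of_le_normalizer (hP.le.trans hAN)
  obtain ⟨R, z, s, u, w, hRn, hRS, hrel, hzR, hz1, hzz, huniq, hzc, hsS, hsR, hss, huU, hwu, hww, hws,
    hsq⟩ := two_group hP.isPGroup (A.subgroupOf P) (U.subgroupOf P) (klein_subgroupOf hUP hU) (by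
      intro u hu hu1 V' hV' hV'4 hcen
      refine hfix u (mem_subgroupOf.1 hu) (fun h => hu1 (Subtype.ext h)) (V'.map P.subtype) ?_
        (klein_map _ P.subtype_injective hV'4) ?_
      · rintro _ ⟨x, hx, rfl⟩
        exact mem_subgroupOf.1 (hV' hx)
      · rintro _ ⟨x, hx, rfl⟩
        exact congrArg Subtype.val (hcen x hx)) ⟨(cj g₀ V).subgroupOf P, by
      intro x hx
      rw [mem_subgroupOf, mem_cj] at hx
      have := hcjA g₀ hg₀ _ (hVA hx)
      rw [show g₀ * (g₀⁻¹ * (x : G) * g₀) * g₀⁻¹ = x by group] at this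
      exact mem_subgroupOf.2 this, klein_subgroupOf hgV (klein_map _ (MulAut.conj g₀).injective hV)⟩
  have hsA : (s : G) ∈ A := mem_subgroupOf.1 hsS
  -- transfer
  obtain ⟨g, hgA, hgs⟩ : ∃ g ∈ A, g * (s : G) * g⁻¹ = z := by
    by_contra hcon
    push Not at hcon
    obtain ⟨M, -, hM2, -⟩ := H3.ThompsonTransfer.exists_index_two (G := A) (P.subgroupOf A)
      ((R.map P.subtype).subgroupOf A) (by
        intro x hx
        obtain ⟨y, hy, hyx⟩ := mem_subgroupOf.1 hx
        rw [mem_subgroupOf]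
        have h0 : (y : G) = x := hyx
        rw [← h0]; exact y.2) (by
        have h1 := (hP.inf_normal hAN le_sup_left).not_dvd
        rw [inf_relIndex_right] at h1
        exact Nat.odd_iff.2 (by
          have : ¬ 2 ∣ (P.subgroupOf A).index := h1
          omega)) (by
        have h1 : ((R.map P.subtype).subgroupOf A).relIndex (P.subgroupOf A) *
            Nat.card ((R.map P.subtype).subgroupOf A) = Nat.card (P.subgroupOf A) := by
          refine relIndex_mul_card ?_
          intro x hx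
          obtain ⟨y, hy, hyx⟩ := mem_subgroupOf.1 hx
          rw [mem_subgroupOf]
          have h0 : (y : G) = x := hyx
          rw [← h0]; exact y.2
        have h2 := relIndex_mul_card hRS
        have h3 : Nat.card ((R.map P.subtype).subgroupOf A) = Nat.card R := by
          rw [Nat.card_congr (subgroupOfEquivOfLe (?_ : R.map P.subtype ≤ A)).toEquiv,
            Subgroup.card_map_of_injective P.subtype_injective]
          rintro _ ⟨x, hx, rfl⟩
          exact mem_subgroupOf.1 (hRS hx)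
        have h4 : Nat.card (P.subgroupOf A) = Nat.card (A.subgroupOf P) :=
          Nat.card_congr ⟨fun x => ⟨⟨x.1.1, mem_subgroupOf.1 x.2⟩, mem_subgroupOf.2 x.1.2⟩,
            fun x => ⟨⟨x.1.1, mem_subgroupOf.1 x.2⟩, mem_subgroupOf.2 x.1.2⟩, fun _ => rfl, fun _ => rfl⟩
        rw [h3, h4, ← h2, hrel] at h1
        exact Nat.eq_of_mul_eq_mul_right Nat.card_pos h1) ⟨(s : G), hsA⟩ (by
        rw [pow_two]
        exact Subtype.ext (show (s : G) * s = 1 from congrArg Subtype.val hss)) (by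
        intro g hg
        obtain ⟨y, hy, hyx⟩ := mem_subgroupOf.1 hg
        have hyx' : (y : G) = g * (s : G) * (g : G)⁻¹ := hyx
        have hy2 : y * y = 1 := by
          apply Subtype.ext
          change (y : G) * y = 1
          rw [hyx']
          calc (g : G) * (s : G) * (g : G)⁻¹ * (g * (s : G) * (g : G)⁻¹)
              = g * ((s : G) * s) * (g : G)⁻¹ := by group
            _ = 1 := by
              have : (s : G) * s = 1 := congrArg Subtype.val hss
              rw [this]; group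
        rcases huniq y hy hy2 with h | h
        · rw [h] at hyx'
          apply hsR
          have : (s : G) = 1 := by
            calc (s : G) = (g : G)⁻¹ * (g * (s : G) * (g : G)⁻¹) * g := by group
              _ = 1 := by rw [← hyx']; simp
          rw [show s = 1 from Subtype.ext this]
          exact one_mem _
        · rw [h] at hyx'
          exact hcon g g.2 hyx'.symm)
    exact hA M hM2
  -- the element `y`
  have hgX : g ∈ A ⊔ U := mem_sup_left hgA
  have hwX : (w : G) ∈ A ⊔ U := hP.le w.2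
  have hwwG : (w : G) * w = z := congrArg Subtype.val hww
  have hwsG : (w : G) * s = s * w := congrArg Subtype.val hws
  have hzzG : (z : G) * z = 1 := congrArg Subtype.val hzz
  have hz1G : (z : G) ≠ 1 := fun h => hz1 (Subtype.ext h)
  have hyz : (g * (w : G) * g⁻¹) * z = z * (g * (w : G) * g⁻¹) := by
    rw [← hgs]
    calc (g * (w : G) * g⁻¹) * (g * (s : G) * g⁻¹) = g * ((w : G) * s) * g⁻¹ := by group
      _ = g * ((s : G) * w) * g⁻¹ := by rw [hwsG]
      _ = (g * (s : G) * g⁻¹) * (g * (w : G) * g⁻¹) := by group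
  have hyy : (g * (w : G) * g⁻¹) * (g * (w : G) * g⁻¹) = g * (z : G) * g⁻¹ := by
    rw [← hwwG]; group
  have hz'z : g * (z : G) * g⁻¹ ≠ z := by
    intro h
    have h1 : (z : G) = s := mul_left_cancel (mul_right_cancel (h.trans hgs.symm))
    exact hsR (by rw [← show z = s from Subtype.ext h1]; exact hzR)
  have hPC : IsSyl 2 P ((A ⊔ U) ⊓ centralizer {(z : G)}) := by
    refine hP.of_le_of_le (le_inf hP.le ?_) inf_le_left
    intro x hx
    rw [mem_centralizer_singleton_iff]
    exact (congrArg Subtype.val (hzc ⟨x, hx⟩))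
  have hyC : g * (w : G) * g⁻¹ ∈ (A ⊔ U) ⊓ centralizer {(z : G)} := by
    refine mem_inf.2 ⟨mul_mem (mul_mem hgX hwX) (inv_mem hgX), ?_⟩
    rw [mem_centralizer_singleton_iff]
    exact hyz
  have hyp : IsPGroup 2 (zpowers (g * (w : G) * g⁻¹)) := by
    have h1 : orderOf (g * (w : G) * g⁻¹) ∣ 2 ^ 2 := by
      apply orderOf_dvd_of_pow_eq_one
      have : (g * (w : G) * g⁻¹) ^ (2 ^ 2) =
          ((g * (w : G) * g⁻¹) * (g * (w : G) * g⁻¹)) * ((g * (w : G) * g⁻¹) * (g * (w : G) * g⁻¹)) := by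
        rw [← pow_two, ← pow_two, ← pow_mul]; rfl
      rw [this, hyy]
      calc g * (z : G) * g⁻¹ * (g * (z : G) * g⁻¹) = g * ((z : G) * z) * g⁻¹ := by group
        _ = 1 := by rw [hzzG]; group
    obtain ⟨k, -, hk⟩ := (Nat.dvd_prime_pow Nat.prime_two).1 h1
    exact IsPGroup.of_card (n := k) (by rw [Nat.card_zpowers, hk])
  obtain ⟨c, hc, hcP⟩ := hPC.exists_conj_le hyp (zpowers_le.2 hyC)
  have hcz : c * (z : G) = z * c := (mem_centralizer_singleton_iff.1 hc.2)
  have hy'P : c * (g * (w : G) * g⁻¹) * c⁻¹ ∈ P := by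
    apply hcP
    rw [mem_cj]
    have : c⁻¹ * (c * (g * (w : G) * g⁻¹) * c⁻¹) * c = g * (w : G) * g⁻¹ := by group
    rw [this]
    exact mem_zpowers _
  have hy'u : (⟨_, hy'P⟩ : P) * u⁻¹ ∈ A.subgroupOf P := by
    rw [mem_subgroupOf]
    change c * (g * (w : G) * g⁻¹) * c⁻¹ * (u : G)⁻¹ ∈ A
    have h1 := hcom (c * g) (mul_mem hc.1 hgX) w hwX
    have h2 : (w : G) * (u : G)⁻¹ ∈ A := mem_subgroupOf.1 hwu
    have h3 : c * (g * (w : G) * g⁻¹) * c⁻¹ * (u : G)⁻¹ =
        (c * g * w * (w * (c * g))⁻¹) * ((w : G) * (u : G)⁻¹) := by group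
    rw [h3]
    exact mul_mem h1 h2
  have h1 := hsq _ hy'u
  have h2 : c * (g * (w : G) * g⁻¹) * c⁻¹ * (c * (g * (w : G) * g⁻¹) * c⁻¹) =
      c * (g * (z : G) * g⁻¹) * c⁻¹ := by
    rw [← hyy]; group
  rcases huniq _ h1 (by
    apply Subtype.ext
    change (c * (g * (w : G) * g⁻¹) * c⁻¹ * (c * (g * (w : G) * g⁻¹) * c⁻¹)) *
      (c * (g * (w : G) * g⁻¹) * c⁻¹ * (c * (g * (w : G) * g⁻¹) * c⁻¹)) = 1
    rw [h2]
    calc c * (g * (z : G) * g⁻¹) * c⁻¹ * (c * (g * (z : G) * g⁻¹) * c⁻¹)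
        = c * g * ((z : G) * z) * g⁻¹ * c⁻¹ := by group
      _ = 1 := by rw [hzzG]; group) with h | h
  · have h3 : c * (g * (w : G) * g⁻¹) * c⁻¹ * (c * (g * (w : G) * g⁻¹) * c⁻¹) = 1 :=
      congrArg Subtype.val h
    rw [h2] at h3
    apply hz1G
    calc (z : G) = (c * g)⁻¹ * (c * (g * (z : G) * g⁻¹) * c⁻¹) * (c * g) := by group
      _ = 1 := by rw [h3]; group
  · have h3 : c * (g * (w : G) * g⁻¹) * c⁻¹ * (c * (g * (w : G) * g⁻¹) * c⁻¹) = z :=
      congrArg Subtype.val h
    rw [h2] at h3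
    apply hz'z
    calc g * (z : G) * g⁻¹ = c⁻¹ * (c * (g * (z : G) * g⁻¹) * c⁻¹) * c := by group
      _ = c⁻¹ * z * c := by rw [h3]
      _ = c⁻¹ * (z * c) := by group
      _ = c⁻¹ * (c * z) := by rw [hcz]
      _ = z := by group

end H68.FourOp
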