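import Mathlib.GroupTheory.Sylow
import Mathlib.GroupTheory.Transfer
import Mathlib.Algebra.Group.Subgroup.Pointwise
import Mathlib.Algebra.Group.Conj

/-! Isolated elements of a Sylow subgroup: they form a central subgroup (no `Z*`-theorem needed),
and the count of classes of `p`-elements. -/

set_option autoImplicit false

namespace H68.Isolated

open Subgroup MulAction
open scoped Pointwise

variable {G : Type*} [Group G] {p : ℕ}

theorem mem_smul_sylow {P : Sylow p G} {g x : G} : x ∈ g • P ↔ g⁻¹ * x * g ∈ P := by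
  change x ∈ MulAut.conj g • (P : Subgroup G) ↔ _
  rw [Subgroup.mem_pointwise_smul_iff_inv_smul_mem, ← map_inv, MulAut.smul_def, MulAut.conj_apply, inv_inv]
  exact Iff.rfl

/-- Sylow in a subgroup `C`: if `P ≤ C` is Sylow in `G` and `Q ≤ C` is a `p`-subgroup, then `Q` is contained in a
`C`-conjugate of `P`. -/
theorem exists_conj_le_of_le [Finite G] [Fact p.Prime] (P : Sylow p G) (C : Subgroup G) (hP : (P : Subgroup G) ≤ C)
    (Q : Subgroup G) (hQC : Q ≤ C) (hQ : IsPGroup p Q) :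
    ∃ c ∈ C, ∀ y ∈ Q, c⁻¹ * y * c ∈ P := by
  have h1 : IsPGroup p (Q.subgroupOf C) := hQ.comap_of_injective C.subtype C.subtype_injective
  obtain ⟨R, hR⟩ := h1.exists_le_sylow
  obtain ⟨c, hc⟩ := exists_smul_eq C (P.subtype hP) R
  refine ⟨c, c.2, fun y hy => ?_⟩
  have hy' : (⟨y, hQC hy⟩ : C) ∈ R := hR (by simpa [Subgroup.mem_subgroupOf] using hy)
  rw [← hc, mem_smul_sylow] at hy'
  exact hy'

/-- `y` is isolated in `P` : the only conjugate of `y` in `P` is `y`. -/
def IsIso (P : Sylow p G) (y : G) : Prop :=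
  y ∈ P ∧ ∀ g : G, g * y * g⁻¹ ∈ P → g * y * g⁻¹ = y

theorem IsIso.comm {P : Sylow p G} {y : G} (hy : IsIso P y) {x : G} (hx : x ∈ P) : x * y = y * x := by
  have := hy.2 x (mul_mem (mul_mem hx hy.1) (inv_mem hx))
  rw [mul_inv_eq_iff_eq_mul] at this
  exact this

theorem IsIso.one (P : Sylow p G) : IsIso P 1 := ⟨one_mem _, fun g _ => by group⟩

theorem IsIso.inv {P : Sylow p G} {y : G} (hy : IsIso P y) : IsIso P y⁻¹ := by
  refine ⟨inv_mem hy.1, fun g hg => ?_⟩
  have h1 : g * y * g⁻¹ ∈ P := by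
    have := inv_mem hg
    have e : (g * y⁻¹ * g⁻¹)⁻¹ = g * y * g⁻¹ := by group
    rwa [e] at this
  have h2 := hy.2 g h1
  calc g * y⁻¹ * g⁻¹ = (g * y * g⁻¹)⁻¹ := by group
    _ = y⁻¹ := by rw [h2]

/-- Key lemma: if `y` is centralized by `P` and `w = g y g⁻¹ ∈ P`, some `c` centralizing `w` is such that
`c g` centralizes every isolated element. -/
theorem exists_fix [Finite G] [Fact p.Prime] {P : Sylow p G} {y g : G} (hyP : ∀ x ∈ P, x * y = y * x)
    (hg : g * y * g⁻¹ ∈ P) :
    ∃ c : G, c * (g * y * g⁻¹) = (g * y * g⁻¹) * c ∧ ∀ z : G, IsIso P z → (c * g) * z * (c * g)⁻¹ = z := by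
  set w := g * y * g⁻¹ with hw
  let C : Subgroup G := Subgroup.centralizer ({w} : Set G)
  have hgP : ((g • P : Sylow p G) : Subgroup G) ≤ C := by
    intro x hx
    have hx' : g⁻¹ * x * g ∈ P := mem_smul_sylow.1 hx
    have := hyP _ hx'
    rw [Subgroup.mem_centralizer_singleton_iff]
    rw [hw]
    have h2 : g * (g⁻¹ * x * g * y) * g⁻¹ = g * (y * (g⁻¹ * x * g)) * g⁻¹ := by rw [this]
    calc x * (g * y * g⁻¹) = g * (g⁻¹ * x * g * y) * g⁻¹ := by group
      _ = g * (y * (g⁻¹ * x * g)) * g⁻¹ := h2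
      _ = g * y * g⁻¹ * x := by group
  obtain ⟨c, hcC, hc⟩ := exists_conj_le_of_le (g • P) C hgP ((P : Subgroup G) ⊓ C) inf_le_right
    (P.2.to_le inf_le_left)
  rw [Subgroup.mem_centralizer_singleton_iff] at hcC
  refine ⟨c, hcC, fun z hz => ?_⟩
  have hzC : z ∈ (P : Subgroup G) ⊓ C := by
    refine Subgroup.mem_inf.2 ⟨hz.1, ?_⟩
    exact Subgroup.mem_centralizer_singleton_iff.2 (hz.comm hg).symm
  have h1 := hc z hzC
  have h2 : g⁻¹ * (c⁻¹ * z * c) * g ∈ P := mem_smul_sylow.1 h1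
  have h2' : (c * g)⁻¹ * z * (c * g)⁻¹⁻¹ ∈ P := by
    have e : (c * g)⁻¹ * z * (c * g)⁻¹⁻¹ = g⁻¹ * (c⁻¹ * z * c) * g := by group
    rwa [e]
  have h3 := hz.2 (c * g)⁻¹ h2'
  have h4 : z = (c * g) * z * (c * g)⁻¹ := by
    calc z = (c * g) * ((c * g)⁻¹ * z * (c * g)⁻¹⁻¹) * (c * g)⁻¹ := by group
      _ = _ := by rw [h3]
  exact h4.symm

theorem IsIso.mul [Finite G] [Fact p.Prime] {P : Sylow p G} {y₁ y₂ : G} (h₁ : IsIso P y₁) (h₂ : IsIso P y₂) :
    IsIso P (y₁ * y₂) := by
  refine ⟨mul_mem h₁.1 h₂.1, fun g hg => ?_⟩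
  have hyP : ∀ x ∈ P, x * (y₁ * y₂) = (y₁ * y₂) * x := fun x hx => by
    rw [← mul_assoc, h₁.comm hx, mul_assoc, h₂.comm hx, mul_assoc]
  obtain ⟨c, hc1, hc2⟩ := exists_fix hyP hg
  have e1 := hc2 _ h₁
  have e2 := hc2 _ h₂
  have e3 : (c * g) * (y₁ * y₂) * (c * g)⁻¹ = y₁ * y₂ := by
    calc (c * g) * (y₁ * y₂) * (c * g)⁻¹ = ((c * g) * y₁ * (c * g)⁻¹) * ((c * g) * y₂ * (c * g)⁻¹) := by group
      _ = y₁ * y₂ := by rw [e1, e2]
  calc g * (y₁ * y₂) * g⁻¹ = (g * (y₁ * y₂) * g⁻¹ * c) * c⁻¹ := by group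
    _ = (c * (g * (y₁ * y₂) * g⁻¹)) * c⁻¹ := by rw [← hc1]
    _ = (c * g) * (y₁ * y₂) * (c * g)⁻¹ := by group
    _ = y₁ * y₂ := e3

/-- The subgroup of isolated elements. -/
def isoSubgroup [Finite G] [Fact p.Prime] (P : Sylow p G) : Subgroup G where
  carrier := {y | IsIso P y}
  one_mem' := IsIso.one P
  mul_mem' := fun h1 h2 => IsIso.mul h1 h2
  inv_mem' := fun h => IsIso.inv h

theorem mem_isoSubgroup [Finite G] [Fact p.Prime] {P : Sylow p G} {y : G} : y ∈ isoSubgroup P ↔ IsIso P y := Iff.rfl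

theorem isoSubgroup_le [Finite G] [Fact p.Prime] (P : Sylow p G) : isoSubgroup P ≤ (P : Subgroup G) := fun _ h => h.1

/-- The type of classes of `p`-elements. -/
abbrev PClass (p : ℕ) (G : Type*) [Group G] := {c : ConjClasses G // ∀ x ∈ c.carrier, ∃ k : ℕ, orderOf x = p ^ k}

theorem orderOf_conj (g x : G) : orderOf (g * x * g⁻¹) = orderOf x := by
  have := orderOf_injective (MulAut.conj g).toMonoidHom (MulAut.conj g).injective x
  simpa using this

/-- the class of an element of `P`. -/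
def toClass [Fact p.Prime] (P : Sylow p G) (y : (P : Subgroup G)) : PClass p G :=
  ⟨ConjClasses.mk (y : G), fun x hx => by
    rw [ConjClasses.mem_carrier_iff_mk_eq, ConjClasses.mk_eq_mk_iff_isConj, isConj_iff] at hx
    obtain ⟨c, hc⟩ := hx
    obtain ⟨k, hk⟩ := (IsPGroup.iff_orderOf.1 P.2) y
    refine ⟨k, ?_⟩
    rw [← orderOf_conj c x, hc, ← hk, Subgroup.orderOf_coe]⟩

theorem toClass_eq_iff [Fact p.Prime] (P : Sylow p G) (y z : (P : Subgroup G)) :
    toClass P y = toClass P z ↔ ∃ g : G, g * y * g⁻¹ = z := by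
  rw [Subtype.ext_iff]
  change ConjClasses.mk _ = ConjClasses.mk _ ↔ _
  rw [ConjClasses.mk_eq_mk_iff_isConj, isConj_iff]

theorem toClass_surjective [Finite G] [Fact p.Prime] (P : Sylow p G) : Function.Surjective (toClass P) := by
  rintro ⟨c, hc⟩
  obtain ⟨x, rfl⟩ := ConjClasses.exists_rep c
  have hx := hc x ConjClasses.mem_carrier_mk
  obtain ⟨k, hk⟩ := hx
  have hp : IsPGroup p (Subgroup.zpowers x) := IsPGroup.of_card (n := k) (by rw [Nat.card_zpowers, hk])
  obtain ⟨R, hR⟩ := hp.exists_le_sylow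
  obtain ⟨g, hg⟩ := exists_smul_eq G P R
  have hx : g⁻¹ * x * g ∈ P := by
    rw [← mem_smul_sylow, hg]
    exact hR (Subgroup.mem_zpowers x)
  refine ⟨⟨g⁻¹ * x * g, hx⟩, ?_⟩
  rw [Subtype.ext_iff]
  change ConjClasses.mk _ = ConjClasses.mk _
  rw [ConjClasses.mk_eq_mk_iff_isConj, isConj_iff]
  exact ⟨g, by simp only []; group⟩

/-- `2 k_p(G) ≤ |P| + |Z|` where `Z` is the group of isolated elements. -/
theorem two_mul_card_le [Finite G] [Fact p.Prime] (P : Sylow p G) :
    2 * Nat.card (PClass p G) ≤ Nat.card (P : Subgroup G) + Nat.card (isoSubgroup P) := by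
  classical
  let K := PClass p G
  let s : K → (P : Subgroup G) := fun c => (toClass_surjective P c).choose
  have hs : ∀ c, toClass P (s c) = c := fun c => (toClass_surjective P c).choose_spec
  let f : K ⊕ K → (P : Subgroup G) ⊕ (isoSubgroup P) := fun c => match c with
    | Sum.inl c => Sum.inl (s c)
    | Sum.inr c => if h : ∃ y : (P : Subgroup G), y ≠ s c ∧ toClass P y = c then Sum.inl h.choose
        else Sum.inr ⟨s c, by
          refine ⟨(s c).2, fun g hg => ?_⟩
          by_contra hne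
          apply h
          refine ⟨⟨g * s c * g⁻¹, hg⟩, fun he => hne (congrArg Subtype.val he), ?_⟩
          exact ((toClass_eq_iff P _ _).2 ⟨g⁻¹, by simp only []; group⟩).trans (hs c)⟩
  have hf : Function.Injective f := by
    rintro (c | c) (d | d) h
    · simp only [f, Sum.inl.injEq] at h
      rw [← hs c, ← hs d, h]
    · simp only [f] at h
      split_ifs at h with h1
      · simp only [Sum.inl.injEq] at h
        have h2 := h1.choose_spec
        rw [← h, hs] at h2
        obtain ⟨h3, h4⟩ := h2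
        subst h4
        exact absurd rfl h3
    · simp only [f] at h
      split_ifs at h with h1
      · simp only [Sum.inl.injEq] at h
        have h2 := h1.choose_spec
        rw [h, hs] at h2
        obtain ⟨h3, h4⟩ := h2
        subst h4
        exact absurd rfl h3
    · simp only [f] at h
      split_ifs at h with h1 h2 h2
      · simp only [Sum.inl.injEq] at h
        have h3 := h1.choose_spec
        have h4 := h2.choose_spec
        rw [h, h4.2] at h3
        rw [h3.2]
      · simp only [Sum.inr.injEq] at h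
        have h' : ((s c : (P : Subgroup G)) : G) = s d := congrArg (fun x : isoSubgroup P => (x : G)) h
        have : s c = s d := Subtype.ext h'
        rw [← hs c, ← hs d, this]
  have : Finite K := Finite.of_surjective _ (toClass_surjective P)
  have := Nat.card_le_card_of_injective f hf
  rwa [Nat.card_sum, Nat.card_sum, ← two_mul] at this

end H68.Isolated
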