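import Cfsg.Agent.Lib.H89.MX0

/-!
S5316, piece PAR: an exceptional `p`-group of maximal class has order `p^n` with `n` even.
-/

set_option autoImplicit false

namespace H68.MXPar

open Subgroup Cfsg Cfsg.FusionSystem H67.HallPetrescu H57.Mc H89.MX

variable {G : Type*} [Group G] [Finite G] {p n : ℕ} [hp : Fact p.Prime]

theorem even_of_exc (h : MC p n G) (h5 : 5 ≤ p) (hn : 5 ≤ n) (hex : ¬ TC G 2 ≤ TC G (n - 2)) : Even n := by
  by_contra hne
  apply hex
  exact h.thmB hn (by omega) (Nat.not_even_iff_odd.1 hne) (fun i hi hin => (h.blackburn (by omega) (by omega)).1 i hi (by omega))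

end H68.MXPar
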