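import Cfsg.Agent.Lib.H68.NormMaxA
import Cfsg.Agent.Lib.H39.PNilp
import Cfsg.Agent.Lib.H5.KleinSylow
import Cfsg.Agent.Lib.H68.CGroup

/-!
# Normalizers maximal: case II (no Sylow 2-subgroup is the centralizer of an involution)
-/

set_option autoImplicit false
set_option linter.all false

universe u

namespace H68.NormMaxB
open Subgroup H68.NormMaxA

variable {G : Type u} [Group G] [Finite G]

/-- Feit–Thompson as a hypothesis -/
def FT : Prop := ∀ (H : Type u) [Group H] [Finite H], Odd (Nat.card H) → Group.IsSolvable H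

theorem solvable_of_normal {G : Type*} [Group G] (N : Subgroup G) [N.Normal] (h1 : Group.IsSolvable N)
    (h2 : Group.IsSolvable (G ⧸ N)) : Group.IsSolvable G := by
  apply Group.isSolvable_of_ker_le_range N.subtype (QuotientGroup.mk' N)
  rw [QuotientGroup.ker_mk', Subgroup.range_subtype]

theorem solvable_of_npc (ft : FT.{u}) (h : Cfsg.HasNormalPComplement 2 G) : Group.IsSolvable G := by
  haveI : Fact (Nat.Prime 2) := ⟨Nat.prime_two⟩
  obtain ⟨N, hN, hc, k, hk⟩ := H39.PNilp.iff_exists.1 h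
  apply solvable_of_normal N (ft N (Nat.coprime_two_right.1 hc))
  have hQ : IsPGroup 2 (G ⧸ N) := IsPGroup.of_card (n := k) (by rw [← Subgroup.index_eq_card]; exact hk)
  have : Group.IsNilpotent (G ⧸ N) := hQ.isNilpotent
  infer_instance

theorem exists_bad (ft : FT.{u}) (hns : ¬ Group.IsSolvable G) : ∃ D : Subgroup G, IsPGroup 2 D ∧
    ∃ g ∈ normalizer (D : Set G), ∃ q k : ℕ, q.Prime ∧ q ≠ 2 ∧ orderOf g = q ^ k ∧ ∃ d ∈ D, g * d ≠ d * g := by
  haveI : Fact (Nat.Prime 2) := ⟨Nat.prime_two⟩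
  obtain ⟨D, hD, g, hg, q, k, hq, hq2, ho, hc⟩ := H3.LocalNPC.exists_bad (p := 2) (fun h => hns (solvable_of_npc ft h))
  refine ⟨D, hD, g, hg, q, k, hq, hq2, ho, ?_⟩
  rw [mem_centralizer_iff] at hc
  push Not at hc
  obtain ⟨d, hd, h⟩ := hc
  exact ⟨d, hd, fun h' => h h'.symm⟩

theorem map_conj_le (S : Sylow 2 G) {D : Subgroup G} (hD : IsPGroup 2 D) :
    ∃ h : G, ∀ d ∈ D, h * d * h⁻¹ ∈ S := by
  haveI : Fact (Nat.Prime 2) := ⟨Nat.prime_two⟩
  obtain ⟨Q, hQ⟩ := hD.exists_le_sylow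
  obtain ⟨h, hh⟩ := MulAction.exists_smul_eq G Q S
  refine ⟨h, fun d hd => ?_⟩
  rw [← hh]
  rw [H68.CGroup.mem_smul_sylow]
  have : h⁻¹ * (h * d * h⁻¹) * h = d := by group
  rw [this]; exact hQ hd

theorem exists_bad_in (ft : FT.{u}) (hns : ¬ Group.IsSolvable G) (S : Sylow 2 G) : ∃ D : Subgroup G, D ≤ (S : Subgroup G) ∧
    ∃ g ∈ normalizer (D : Set G), ∃ q k : ℕ, q.Prime ∧ q ≠ 2 ∧ orderOf g = q ^ k ∧ ∃ d ∈ D, g * d ≠ d * g := by
  obtain ⟨D, hD, g, hg, q, k, hq, hq2, ho, d, hd, hgd⟩ := exists_bad ft hns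
  obtain ⟨h, hh⟩ := map_conj_le S hD
  refine ⟨D.map (MulAut.conj h).toMonoidHom, ?_, h * g * h⁻¹, ?_, q, k, hq, hq2, ?_, h * d * h⁻¹, ⟨d, hd, rfl⟩, ?_⟩
  · rintro _ ⟨x, hx, rfl⟩; exact hh x hx
  · apply mem_normalizer_fintype
    rintro _ ⟨x, hx, rfl⟩
    refine ⟨g * x * g⁻¹, (mem_normalizer_iff.1 hg x).1 hx, ?_⟩
    simp only [MulEquiv.coe_toMonoidHom, MulAut.conj_apply]
    group
  · rw [← ho]; exact MulEquiv.orderOf_eq (MulAut.conj h) g
  · intro he
    apply hgd
    have h1 : h * (g * d) * h⁻¹ = h * (d * g) * h⁻¹ := by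
      calc h * (g * d) * h⁻¹ = (h * g * h⁻¹) * (h * d * h⁻¹) := by group
        _ = (h * d * h⁻¹) * (h * g * h⁻¹) := he
        _ = _ := by group
    exact mul_left_cancel (mul_right_cancel h1)

theorem comm_of_norm {p q : ℕ} [hp : Fact p.Prime] [hq : Fact q.Prime] (hpq : p ≠ q) {X Y : Subgroup G} (hX : IsPGroup p X)
    (hY : IsPGroup q Y) {x y : G} (hx : x ∈ X) (hy : y ∈ Y) (h1 : x ∈ normalizer (Y : Set G)) (h2 : y ∈ normalizer (X : Set G)) :
    x * y = y * x := by
  have h3 : x * y * x⁻¹ * y⁻¹ ∈ Y := mul_mem ((mem_normalizer_iff.1 h1 y).1 hy) (inv_mem hy)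
  have h4 : x * y * x⁻¹ * y⁻¹ ∈ X := by
    have : x * y * x⁻¹ * y⁻¹ = x * (y * x⁻¹ * y⁻¹) := by group
    rw [this]
    exact mul_mem hx ((mem_normalizer_iff.1 h2 x⁻¹).1 (inv_mem hx))
  have h5 := disj hpq hX hY h4 h3
  rw [mul_inv_eq_one, mul_inv_eq_iff_eq_mul] at h5
  exact h5

structure Pair (S : Sylow 2 G) (t w : G) (r : ℕ) : Prop where
  tS : t ∈ S
  t2 : orderOf t = 2
  tZ : ∀ s ∈ S, s * t = t * s
  rp : r.Prime
  r2 : r ≠ 2
  wr : orderOf w = r
  tw : t * w = w * t

variable {S : Sylow 2 G} {t w : G} {r : ℕ}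

theorem Pair.N (hP : HP G) (h : Pair S t w r) : normalizer ((zpowers w : Subgroup G) : Set G) = centralizer {t} :=
  cent_eq' hP h.t2 h.rp h.r2 h.wr h.tw

theorem Pair.S_le (h : Pair S t w r) : (S : Subgroup G) ≤ centralizer {t} := by
  intro s hs
  rw [mem_centralizer_singleton_iff]
  exact h.tZ s hs

theorem Pair.bad (ft : FT.{u}) (hns : ¬ Group.IsSolvable G) (hP : HP G) (h : Pair S t w r) : ∃ s ∈ S, s * w ≠ w * s := by
  by_contra hcon
  push Not at hcon
  haveI : Fact (Nat.Prime 2) := ⟨Nat.prime_two⟩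
  haveI : Fact r.Prime := ⟨h.rp⟩
  obtain ⟨D, hD, g, hg, q, k, hq, hq2, ho, d, hd, hgd⟩ := exists_bad_in ft hns S
  haveI : Fact q.Prime := ⟨hq⟩
  have hD2 : IsPGroup 2 D := S.isPGroup'.to_le hD
  have hD1 : D ≠ ⊥ := by
    rintro rfl
    rw [mem_bot] at hd
    apply hgd; rw [hd]; simp
  have h1 : normalizer (D : Set G) = normalizer ((zpowers w : Subgroup G) : Set G) := by
    refine norm_eq hP (Ne.symm h.r2) hD2 (isP_zp h.wr) ?_ hD1 (zp_ne h.rp h.wr)
    rintro x hx _ ⟨j, rfl⟩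
    exact (Commute.zpow_right (show Commute x w from hcon x (hD hx)) j)
  rw [h1, h.N hP] at hg
  have hgq : IsPGroup q (zpowers g) := isP_zp' ho
  have hg1 : zpowers g ≠ ⊥ := by
    intro h2
    rw [zpowers_eq_bot] at h2
    apply hgd; rw [h2]; simp
  have h3 : normalizer ((zpowers g : Subgroup G) : Set G) = centralizer {t} := by
    apply cent_eq hP h.t2 hq2 hgq hg1
    rintro _ ⟨j, rfl⟩
    rw [mem_centralizer_singleton_iff] at hg
    exact (Commute.zpow_right (show Commute t g from hg.symm) j)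
  apply hgd
  refine (comm_of_norm (Ne.symm hq2) hD2 hgq hd (mem_zpowers g) ?_ ?_).symm
  · rw [h3]; exact h.S_le (hD hd)
  · rw [h1, h.N hP]; exact hg

theorem Pair.central_of_comm (hP : HP G) (h : Pair S t w r) {u : G} (hu2 : orderOf u = 2) (huw : u * w = w * u) :
    centralizer {u} = centralizer ({t} : Set G) := by
  rw [← h.N hP, ← cent_eq' hP hu2 h.rp h.r2 h.wr huw]

/-- central elements of `S` of order at most 2 -/
def ZS (S : Subgroup G) : Subgroup G where
  carrier := {z | z ∈ S ∧ (∀ s ∈ S, s * z = z * s) ∧ z * z = 1}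
  mul_mem' := by
    rintro a b ⟨ha, ha1, ha2⟩ ⟨hb, hb1, hb2⟩
    refine ⟨mul_mem ha hb, fun s hs => ?_, ?_⟩
    · rw [← mul_assoc, ha1 s hs, mul_assoc, hb1 s hs, mul_assoc]
    · calc a * b * (a * b) = a * (b * a) * b := by group
        _ = a * (a * b) * b := by rw [ha1 b hb]
        _ = (a * a) * (b * b) := by group
        _ = 1 := by rw [ha2, hb2, one_mul]
  one_mem' := ⟨one_mem _, fun s _ => by simp, by simp⟩
  inv_mem' := by
    rintro a ⟨ha, ha1, ha2⟩
    have : a⁻¹ = a := inv_eq_of_mul_eq_one_left ha2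
    rw [this]
    exact ⟨ha, ha1, ha2⟩

theorem mem_ZS {S : Subgroup G} {z : G} : z ∈ ZS S ↔ z ∈ S ∧ (∀ s ∈ S, s * z = z * s) ∧ z * z = 1 := Iff.rfl

theorem ZS_le (S : Subgroup G) : ZS S ≤ S := fun _ h => h.1

theorem norm_le_ZS (S : Subgroup G) : normalizer (S : Set G) ≤ normalizer ((ZS S : Subgroup G) : Set G) := by
  intro g hg
  apply mem_normalizer_fintype
  rintro z ⟨h1, h2, h3⟩
  refine ⟨(mem_normalizer_iff.1 hg z).1 h1, fun s hs => ?_, ?_⟩
  · have h4 : g⁻¹ * s * g ∈ S := by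
      have := (mem_normalizer_iff.1 (inv_mem hg) s).1 hs
      rwa [inv_inv] at this
    have h5 := h2 _ h4
    calc s * (g * z * g⁻¹) = g * ((g⁻¹ * s * g) * z) * g⁻¹ := by group
      _ = g * (z * (g⁻¹ * s * g)) * g⁻¹ := by rw [h5]
      _ = _ := by group
  · calc g * z * g⁻¹ * (g * z * g⁻¹) = g * (z * z) * g⁻¹ := by group
      _ = 1 := by rw [h3]; group

theorem Pair.t_mem (h : Pair S t w r) : t ∈ ZS (S : Subgroup G) := by
  refine ⟨h.tS, h.tZ, ?_⟩
  have := pow_orderOf_eq_one t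
  rwa [h.t2, sq] at this

theorem norm_S_eq (hP : HP G) {t : G} (ht : t ∈ ZS (S : Subgroup G)) (ht1 : t ≠ 1) :
    normalizer ((S : Subgroup G) : Set G) = normalizer ((ZS (S : Subgroup G) : Subgroup G) : Set G) := by
  haveI : Fact (Nat.Prime 2) := ⟨Nat.prime_two⟩
  have hZ1 : ZS (S : Subgroup G) ≠ ⊥ := by
    intro h; rw [h, mem_bot] at ht; exact ht1 ht
  have hS1 : (S : Subgroup G) ≠ ⊥ := by
    intro h; apply hZ1; rw [eq_bot_iff, ← h]; exact ZS_le _
  apply eq_of_le (hP _ hS1 (two_p S.isPGroup')) (norm_le_ZS _)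
  exact (hP _ hZ1 (two_p (S.isPGroup'.to_le (ZS_le _)))).1

/-- an involution acting on a group of prime order -/
theorem inv_or_comm {v w : G} {r : ℕ} (hr : r.Prime) (hw : orderOf w = r) (hv : v * v = 1)
    (hn : v ∈ normalizer ((zpowers w : Subgroup G) : Set G)) : v * w = w * v ∨ v * w * v⁻¹ = w⁻¹ := by
  obtain ⟨k, hk⟩ := (mem_normalizer_iff.1 hn w).1 (mem_zpowers w)
  change w ^ k = v * w * v⁻¹ at hk
  have h1 : v * (v * w * v⁻¹) * v⁻¹ = w := by
    have hvi : v⁻¹ = v := inv_eq_of_mul_eq_one_left hv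
    rw [hvi]
    calc v * (v * w * v) * v = (v * v) * w * (v * v) := by group
      _ = w := by rw [hv]; group
  rw [← hk] at h1
  have h2 : w ^ (k * k) = w := by
    rw [zpow_mul]
    calc (w ^ k) ^ k = (v * w * v⁻¹) ^ k := by rw [hk]
      _ = v * w ^ k * v⁻¹ := conj_zpow
      _ = w := h1
  have h3 : w ^ (k * k - 1) = 1 := by rw [zpow_sub, h2, zpow_one, mul_inv_cancel]
  have h4 : (r : ℤ) ∣ (k - 1) * (k + 1) := by
    rw [← hw]
    have := orderOf_dvd_iff_zpow_eq_one.2 h3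
    have e : (k - 1) * (k + 1) = k * k - 1 := by ring
    rw [e]; exact this
  rcases (Int.Prime.dvd_mul' hr h4) with h5 | h5
  · left
    have h6 : w ^ (k - 1) = 1 := orderOf_dvd_iff_zpow_eq_one.1 (by rw [hw]; exact h5)
    have h7 : w ^ k = w := by
      have : w ^ k = w ^ (k - 1) * w := by rw [← zpow_add_one]; congr 1; ring
      rw [this, h6, one_mul]
    rw [h7] at hk
    rw [← mul_inv_eq_iff_eq_mul, ← hk]
  · right
    have h6 : w ^ (k + 1) = 1 := orderOf_dvd_iff_zpow_eq_one.1 (by rw [hw]; exact h5)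
    rw [← hk]
    have : w ^ k * w = 1 := by rw [← zpow_add_one]; exact h6
    exact eq_inv_of_mul_eq_one_left this

theorem norm_cent (hP : HP G) (ht : orderOf t = 2) :
    normalizer ((centralizer ({t} : Set G) : Subgroup G) : Set G) = centralizer {t} := by
  by_contra hne
  have h1 := cent_coatom hP ht
  have h2 : normalizer ((centralizer ({t} : Set G) : Subgroup G) : Set G) = ⊤ := by
    by_contra h3
    exact hne (eq_of_le h1 le_normalizer h3).symm
  haveI hn : (centralizer ({t} : Set G)).Normal := normalizer_eq_top_iff.1 h2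
  let M := centralizer ({t} : Set G)
  haveI : ((center M).map M.subtype).Normal := ConjAct.normal_of_characteristic_of_normal
  have h4 : Group.IsSolvable ((center M).map M.subtype) := by
    have e : center M ≃* (center M).map M.subtype := equivMapOfInjective _ _ M.subtype_injective
    haveI : Group.IsSolvable (center M) := Group.isSolvable_of_comm (fun a b => Subtype.ext (mem_center_iff.1 b.2 a))
    exact Group.isSolvable_of_surjective (f := e.toMonoidHom) e.surjective
  have h5 := normal_solvable hP ((center M).map M.subtype) h4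
  have h6 : t ∈ (center M).map M.subtype := by
    refine ⟨⟨t, mem_centralizer_singleton_iff.2 rfl⟩, ?_, rfl⟩
    rw [SetLike.mem_coe, mem_center_iff]
    rintro ⟨g, hg⟩
    exact Subtype.ext (mem_centralizer_singleton_iff.1 hg)
  rw [h5, mem_bot] at h6
  exact ne_one_of_two ht h6


/-- conjugating a centralizer -/
theorem conj_mem_cent {t n x : G} : x ∈ centralizer {n⁻¹ * t * n} ↔ n * x * n⁻¹ ∈ centralizer ({t} : Set G) := by
  rw [mem_centralizer_singleton_iff, mem_centralizer_singleton_iff]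
  constructor
  · intro h
    calc n * x * n⁻¹ * t = n * (x * (n⁻¹ * t * n)) * n⁻¹ := by group
      _ = n * ((n⁻¹ * t * n) * x) * n⁻¹ := by rw [h]
      _ = _ := by group
  · intro h
    calc x * (n⁻¹ * t * n) = n⁻¹ * ((n * x * n⁻¹) * t) * n := by group
      _ = n⁻¹ * (t * (n * x * n⁻¹)) * n := by rw [h]
      _ = _ := by group

section pair

variable (ft : FT.{u}) (hns : ¬ Group.IsSolvable G) (hP : HP G)
include ft hns hP

theorem Pair.not_le (h : Pair S t w r) : ¬ normalizer ((S : Subgroup G) : Set G) ≤ centralizer {t} := by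
  intro hle
  haveI : Fact (Nat.Prime 2) := ⟨Nat.prime_two⟩
  haveI : Fact r.Prime := ⟨h.rp⟩
  have hS1 : (S : Subgroup G) ≠ ⊥ := by
    intro h1
    have := h.tS
    change t ∈ (S : Subgroup G) at this
    rw [h1, mem_bot] at this
    exact ne_one_of_two h.t2 this
  have h1 := eq_of_le (hP _ hS1 (two_p S.isPGroup')) hle (cent_coatom hP h.t2).1
  obtain ⟨s, hs, hsw⟩ := h.bad ft hns hP
  apply hsw
  refine comm_of_norm (Ne.symm h.r2) S.isPGroup' (isP_zp h.wr) hs (mem_zpowers w) ?_ ?_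
  · rw [h.N hP]; exact h.S_le hs
  · rw [h1, mem_centralizer_singleton_iff]; exact h.tw.symm

/-- some `v ∈ ZS S` does not commute with `w` -/
theorem Pair.exists_v (h : Pair S t w r) : ∃ v ∈ ZS (S : Subgroup G), v * w ≠ w * v := by
  by_contra hcon
  push Not at hcon
  haveI : Fact (Nat.Prime 2) := ⟨Nat.prime_two⟩
  haveI : Fact r.Prime := ⟨h.rp⟩
  have hZ1 : ZS (S : Subgroup G) ≠ ⊥ := by
    intro h1; have := h.t_mem; rw [h1, mem_bot] at this; exact ne_one_of_two h.t2 this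
  have h1 : normalizer ((ZS (S : Subgroup G) : Subgroup G) : Set G) = normalizer ((zpowers w : Subgroup G) : Set G) := by
    refine norm_eq hP (Ne.symm h.r2) (S.isPGroup'.to_le (ZS_le _)) (isP_zp h.wr) ?_ hZ1 (zp_ne h.rp h.wr)
    rintro x hx _ ⟨j, rfl⟩
    exact (Commute.zpow_right (show Commute x w from hcon x hx) j)
  apply h.not_le ft hns hP
  rw [norm_S_eq hP h.t_mem (ne_one_of_two h.t2), h1, h.N hP]

theorem inv_or_comm' (h : Pair S t w r) {z : G} (hz : z ∈ ZS (S : Subgroup G)) : z * w = w * z ∨ z * w * z⁻¹ = w⁻¹ := by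
  apply inv_or_comm h.rp h.wr hz.2.2
  rw [h.N hP]; exact h.S_le hz.1

/-- the elements of `ZS S` commuting with `w` -/
theorem Pair.comm_ZS (h : Pair S t w r) {z : G} (hz : z ∈ ZS (S : Subgroup G)) (hzw : z * w = w * z) : z = 1 ∨ z = t := by
  by_contra hcon
  push Not at hcon
  obtain ⟨hz1, hzt⟩ := hcon
  apply h.not_le ft hns hP
  intro n hn
  have hnZ := norm_le_ZS _ hn
  have htZ := h.t_mem
  -- conjugates
  have hc : ∀ a ∈ ZS (S : Subgroup G), n⁻¹ * a * n ∈ ZS (S : Subgroup G) := by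
    intro a ha
    have := (mem_normalizer_iff.1 (inv_mem hnZ) a).1 ha
    rwa [inv_inv] at this
  have key : ∀ u ∈ ZS (S : Subgroup G), u ≠ 1 → u * w = w * u → (n⁻¹ * u * n) * w = w * (n⁻¹ * u * n) →
      n ∈ centralizer ({t} : Set G) := by
    intro u hu hu1 huw hnu
    have hu2 : orderOf u = 2 := orderOf_eq_prime (by rw [sq]; exact hu.2.2) hu1
    have hnu2 : orderOf (n⁻¹ * u * n) = 2 := by
      rw [← hu2]
      have := MulEquiv.orderOf_eq (MulAut.conj n⁻¹) u
      rw [MulAut.conj_apply, inv_inv] at this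
      exact this
    have h1 := h.central_of_comm hP hu2 huw
    have h2 := h.central_of_comm hP hnu2 hnu
    rw [← norm_cent hP h.t2]
    apply mem_normalizer_fintype
    intro x hx
    rw [SetLike.mem_coe] at hx ⊢
    rw [← h2, conj_mem_cent, h1] at hx
    exact hx
  have htw := h.tw
  have htz : (t * z) * w = w * (t * z) := by rw [mul_assoc, hzw, ← mul_assoc, htw, mul_assoc]
  rcases inv_or_comm' ft hns hP h (hc t htZ) with h1 | h1
  · exact key t htZ (ne_one_of_two h.t2) h.tw h1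
  · rcases inv_or_comm' ft hns hP h (hc z hz) with h2 | h2
    · exact key z hz hz1 hzw h2
    · refine key (t * z) (mul_mem htZ hz) ?_ htz ?_
      · intro he
        apply hzt
        have h3 : z = t⁻¹ := eq_inv_of_mul_eq_one_right he
        rw [h3, tinv h.t2]
      · have e : n⁻¹ * (t * z) * n = (n⁻¹ * t * n) * (n⁻¹ * z * n) := by group
        rw [e]
        generalize n⁻¹ * t * n = a at h1 ⊢
        generalize n⁻¹ * z * n = b at h2 ⊢
        have h3 : a * b * w * (a * b)⁻¹ = w := by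
          calc a * b * w * (a * b)⁻¹ = a * (b * w * b⁻¹) * a⁻¹ := by group
            _ = a * w⁻¹ * a⁻¹ := by rw [h2]
            _ = (a * w * a⁻¹)⁻¹ := by group
            _ = w := by rw [h1, inv_inv]
        exact mul_inv_eq_iff_eq_mul.1 h3

/-- the only involution of `S` commuting with `w` is `t` -/
theorem Pair.unique (h : Pair S t w r) {u : G} (hu : u ∈ S) (hu2 : orderOf u = 2) (huw : u * w = w * u) : u = t := by
  have h1 := h.central_of_comm hP hu2 huw
  have h2 : u ∈ ZS (S : Subgroup G) := by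
    refine ⟨hu, fun s hs => ?_, ?_⟩
    · have h3 := h.S_le hs
      rw [← h1, mem_centralizer_singleton_iff] at h3
      exact h3
    · have := pow_orderOf_eq_one u
      rwa [hu2, sq] at this
  rcases h.comm_ZS ft hns hP h2 huw with h3 | h3
  · exact absurd h3 (ne_one_of_two hu2)
  · exact h3

end pair

end H68.NormMaxB
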