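import Cfsg.Agent.Lib.H68.NormMaxB

/-!
# Normalizers maximal: case II, the Sylow 2-subgroup is a four-group
-/

set_option autoImplicit false
set_option linter.all false

universe u

namespace H68.NormMaxC
open Subgroup H68.NormMaxA H68.NormMaxB

/-- recognition of Klein four-subgroups -/
theorem isKleinFour_of {G : Type*} [Group G] (a b : G) (ha : a * a = 1) (hb : b * b = 1)
    (hab : a * b = b * a) (ha1 : a ≠ 1) (hb1 : b ≠ 1) (hne : a ≠ b) (V : Subgroup G)
    (hV : ∀ g : G, g ∈ V ↔ g = 1 ∨ g = a ∨ g = b ∨ g = a * b) : IsKleinFour V := by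
  have hab1 : a * b ≠ 1 := by
    intro hc
    apply hne
    have : a = b⁻¹ := eq_inv_of_mul_eq_one_left hc
    rw [this, inv_eq_of_mul_eq_one_left hb]
  have haab : a ≠ a * b := fun hc => hb1 (by simpa using hc)
  have hbab : b ≠ a * b := fun hc => ha1 (by simpa using hc)
  have hset : (V : Set G) = {1, a, b, a * b} := by
    ext g
    rw [SetLike.mem_coe, hV]
    simp only [Set.mem_insert_iff, Set.mem_singleton_iff]
  have hcard : Nat.card V = 4 := by
    have : Nat.card V = (V : Set G).ncard := Nat.card_coe_set_eq _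
    rw [this, hset, Set.ncard_insert_of_notMem, Set.ncard_insert_of_notMem, Set.ncard_pair hbab]
    · simp only [Set.mem_insert_iff, Set.mem_singleton_iff]
      push Not
      exact ⟨hne, haab⟩
    · simp only [Set.mem_insert_iff, Set.mem_singleton_iff]
      push Not
      exact ⟨ha1.symm, hb1.symm, hab1.symm⟩
  have hnt : Nontrivial V := by
    have : Finite V := Nat.finite_of_card_ne_zero (by rw [hcard]; norm_num)
    exact Finite.one_lt_card_iff_nontrivial.1 (by rw [hcard]; norm_num)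
  refine ⟨hcard, ?_⟩
  rw [Monoid.exponent_eq_prime_iff Nat.prime_two]
  rintro ⟨g, hg⟩ hg1
  apply orderOf_eq_prime _ hg1
  rw [sq]
  apply Subtype.ext
  show g * g = 1
  rcases (hV g).1 hg with rfl | rfl | rfl | rfl
  · simp
  · exact ha
  · exact hb
  · calc a * b * (a * b) = a * b * (b * a) := by rw [hab]
      _ = a * (b * b) * a := by group
      _ = 1 := by rw [hb, mul_one, ha]

variable {G : Type u} [Group G] [Finite G]

theorem exists_pow_two {P : Subgroup G} (hP : IsPGroup 2 P) {c : G} (hc : c ∈ P) (hc1 : c ≠ 1) :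
    ∃ m : ℕ, orderOf (c ^ m) = 2 := by
  obtain ⟨k, hk⟩ := exists_pow hP hc
  obtain ⟨j, hj, hj2⟩ := (Nat.dvd_prime_pow Nat.prime_two).1 (orderOf_dvd_of_pow_eq_one hk)
  have hj0 : j ≠ 0 := by
    rintro rfl
    rw [pow_zero, orderOf_eq_one_iff] at hj2
    exact hc1 hj2
  obtain ⟨i, rfl⟩ := Nat.exists_eq_succ_of_ne_zero hj0
  refine ⟨2 ^ i, ?_⟩
  rw [orderOf_pow_of_dvd (by positivity) (by rw [hj2]; exact pow_dvd_pow 2 (Nat.le_succ i)), hj2, pow_succ]
  exact Nat.mul_div_cancel_left _ (by positivity)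

theorem exists_pow_four {P : Subgroup G} (hP : IsPGroup 2 P) {c : G} (hc : c ∈ P) (hc1 : c * c ≠ 1) :
    ∃ m : ℕ, orderOf (c ^ m * c ^ m) = 2 := by
  obtain ⟨m, hm⟩ := exists_pow_two hP (mul_mem hc hc) hc1
  refine ⟨m, ?_⟩
  rw [← hm]
  congr 1
  rw [← pow_two c, ← pow_mul, mul_comm 2 m, pow_mul, sq]

section caseII

variable (ft : FT.{u}) (hns : ¬ Group.IsSolvable G) (hP : HP G)
  (hII : ∀ S : Sylow 2 G, ∀ t ∈ S, orderOf t = 2 → centralizer {t} ≠ (S : Subgroup G))
include ft hns hP hII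

theorem exists_pair (S : Sylow 2 G) {z : G} (hz : z ∈ S) (hz2 : orderOf z = 2) (hzZ : ∀ s ∈ S, s * z = z * s) :
    ∃ w r, Pair S z w r := by
  have h1 : ¬ IsPGroup 2 (centralizer ({z} : Set G)) := by
    intro h
    apply hII S z hz hz2
    apply S.is_maximal' h
    intro s hs
    rw [mem_centralizer_singleton_iff]
    exact hzZ s hs
  obtain ⟨w, hw, r, hr, hr2, hwr⟩ := exists_odd h1
  exact ⟨w, r, hz, hz2, hzZ, hr, hr2, hwr, (mem_centralizer_singleton_iff.1 hw).symm⟩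

theorem exists_t (S : Sylow 2 G) : ∃ z ∈ S, orderOf z = 2 ∧ ∀ s ∈ S, s * z = z * s := by
  haveI : Fact (Nat.Prime 2) := ⟨Nat.prime_two⟩
  apply H68.CGroup.exists_central_invol _ S.isPGroup'
  intro h
  apply hns
  apply ft
  have h1 := S.card_eq_multiplicity
  rw [h, Nat.card_unique] at h1
  by_contra hodd
  rw [Nat.not_odd_iff_even] at hodd
  have h2 : 2 ∣ Nat.card G := hodd.two_dvd
  have h3 := (Nat.Prime.dvd_iff_one_le_factorization Nat.prime_two Nat.card_pos.ne').1 h2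
  have h4 : 2 ^ 1 ≤ 2 ^ (Nat.card G).factorization 2 := Nat.pow_le_pow_right (by norm_num) h3
  rw [← h1] at h4
  omega

theorem exists_four (S : Sylow 2 G) : ∃ t v w r, Pair S t w r ∧ orderOf v = 2 ∧ v ∈ ZS (S : Subgroup G) ∧
    v * w * v⁻¹ = w⁻¹ ∧ v ≠ t ∧ (∀ z ∈ ZS (S : Subgroup G), z = 1 ∨ z = t ∨ z = v ∨ z = t * v) := by
  obtain ⟨t, htS, ht2, htZ⟩ := exists_t ft hns hP hII S
  obtain ⟨w, r, h⟩ := exists_pair ft hns hP hII S htS ht2 htZ
  obtain ⟨v, hv, hvw⟩ := h.exists_v ft hns hP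
  have hv1 : v ≠ 1 := by rintro rfl; apply hvw; simp
  have hv2 : orderOf v = 2 := orderOf_eq_prime (by rw [sq]; exact hv.2.2) hv1
  have hinv : v * w * v⁻¹ = w⁻¹ := (inv_or_comm' ft hns hP h hv).resolve_left hvw
  refine ⟨t, v, w, r, h, hv2, hv, hinv, ?_, ?_⟩
  · rintro rfl; exact hvw h.tw
  · intro z hz
    rcases inv_or_comm' ft hns hP h hz with h1 | h1
    · rcases h.comm_ZS ft hns hP hz h1 with h2 | h2
      · left; exact h2
      · right; left; exact h2
    · have h3 : (z * v) * w = w * (z * v) := by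
        have : z * v * w * (z * v)⁻¹ = w := by
          calc z * v * w * (z * v)⁻¹ = z * (v * w * v⁻¹) * z⁻¹ := by group
            _ = z * w⁻¹ * z⁻¹ := by rw [hinv]
            _ = (z * w * z⁻¹)⁻¹ := by group
            _ = w := by rw [h1, inv_inv]
        exact mul_inv_eq_iff_eq_mul.1 this
      have hvi : v⁻¹ = v := tinv hv2
      rcases h.comm_ZS ft hns hP (mul_mem hz hv) h3 with h2 | h2
      · right; right; left
        rw [eq_inv_of_mul_eq_one_left h2, hvi]
      · right; right; right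
        rw [← h2, mul_assoc, hv.2.2, mul_one]

theorem comm_S (S : Sylow 2 G) : ∀ a ∈ S, ∀ b ∈ S, a * b = b * a := by
  obtain ⟨t, v, w, r, h, hv2, hv, hinv, hvt, hZ⟩ := exists_four ft hns hP hII S
  obtain ⟨w', r', h'⟩ := exists_pair ft hns hP hII S hv.1 hv2 hv.2.1
  intro a ha b hb
  have key : ∀ (z x : G) (s : ℕ), Pair S z x s → (a * b * a⁻¹ * b⁻¹) * x = x * (a * b * a⁻¹ * b⁻¹) := by
    intro z x s hz
    have h1 : ∀ c ∈ S, ∃ i : ℤ, c * x * c⁻¹ = x ^ i := by
      intro c hc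
      have h2 : c ∈ normalizer ((zpowers x : Subgroup G) : Set G) := by
        rw [hz.N hP]; exact hz.S_le hc
      obtain ⟨i, hi⟩ := (mem_normalizer_iff.1 h2 x).1 (mem_zpowers x)
      exact ⟨i, hi.symm⟩
    obtain ⟨i, hi⟩ := h1 a ha
    obtain ⟨j, hj⟩ := h1 b hb
    have h3 : (a * b) * x * (a * b)⁻¹ = x ^ (i * j) := by
      calc (a * b) * x * (a * b)⁻¹ = a * (b * x * b⁻¹) * a⁻¹ := by group
        _ = a * x ^ j * a⁻¹ := by rw [hj]
        _ = (a * x * a⁻¹) ^ j := (conj_zpow).symm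
        _ = x ^ (i * j) := by rw [hi, ← zpow_mul]
    have h4 : (b * a) * x * (b * a)⁻¹ = x ^ (i * j) := by
      calc (b * a) * x * (b * a)⁻¹ = b * (a * x * a⁻¹) * b⁻¹ := by group
        _ = b * x ^ i * b⁻¹ := by rw [hi]
        _ = (b * x * b⁻¹) ^ i := (conj_zpow).symm
        _ = x ^ (i * j) := by rw [hj, ← zpow_mul, mul_comm]
    have h5 : (a * b * a⁻¹ * b⁻¹) * (x ^ (i * j)) * (a * b * a⁻¹ * b⁻¹)⁻¹ = x ^ (i * j) := by
      nth_rewrite 1 [← h4]
      rw [← h3]; group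
    -- x is a power of x ^ (i*j)
    have h6 : x ∈ zpowers (x ^ (i * j)) := by
      have h7 : orderOf (x ^ (i * j)) = orderOf x := by
        rw [← h3]; exact MulEquiv.orderOf_eq (MulAut.conj (a * b)) x
      have h8 : zpowers (x ^ (i * j)) = zpowers x := by
        apply eq_of_le_of_card_ge
        · rw [zpowers_le]; exact zpow_mem (mem_zpowers x) _
        · rw [Nat.card_zpowers, Nat.card_zpowers, h7]
      rw [h8]; exact mem_zpowers x
    obtain ⟨k, hk⟩ := h6
    have h9 : Commute (a * b * a⁻¹ * b⁻¹) (x ^ (i * j)) := mul_inv_eq_iff_eq_mul.1 h5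
    have h10 := h9.zpow_right k
    have h11 : (x ^ (i * j)) ^ k = x := hk
    rw [h11] at h10
    exact h10
  have hc : a * b * a⁻¹ * b⁻¹ ∈ (S : Subgroup G) := mul_mem (mul_mem (mul_mem ha hb) (inv_mem ha)) (inv_mem hb)
  by_contra hab
  have hc1 : a * b * a⁻¹ * b⁻¹ ≠ 1 := by
    intro h1
    rw [mul_inv_eq_one, mul_inv_eq_iff_eq_mul] at h1
    exact hab h1
  have k1 := key t w r h
  have k2 := key v w' r' h'
  generalize a * b * a⁻¹ * b⁻¹ = c at hc hc1 k1 k2
  obtain ⟨m, hm⟩ := exists_pow_two S.isPGroup' hc hc1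
  have hcm : c ^ m ∈ S := pow_mem hc m
  have e1 := h.unique ft hns hP hcm hm ((show Commute c w from k1).pow_left m)
  have e2 := h'.unique ft hns hP hcm hm ((show Commute c w' from k2).pow_left m)
  exact hvt (e2.symm.trans e1)

theorem sq_S (S : Sylow 2 G) : ∀ a ∈ S, a * a = 1 := by
  haveI : Fact (Nat.Prime 2) := ⟨Nat.prime_two⟩
  obtain ⟨t, v, w, r, h, hv2, hv, hinv, hvt, hZ⟩ := exists_four ft hns hP hII S
  have hab := comm_S ft hns hP hII S
  intro a ha
  by_contra haa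
  obtain ⟨m, hm⟩ := exists_pow_four S.isPGroup' ha haa
  have hc : a ^ m ∈ S := pow_mem ha m
  generalize a ^ m = c at hm hc
  have hz : c * c ∈ S := mul_mem hc hc
  obtain ⟨x, s, hx⟩ := exists_pair ft hns hP hII S hz hm (fun s hs => hab s hs _ hz)
  haveI : Fact s.Prime := ⟨hx.rp⟩
  have key : ∀ d ∈ S, d * d = c * c → d * x = x * d := by
    intro d hd hdd
    have hd1 : zpowers d ≠ ⊥ := by
      rw [Ne, zpowers_eq_bot]
      rintro rfl
      rw [mul_one] at hdd
      exact ne_one_of_two hm hdd.symm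
    have hd2 : IsPGroup 2 (zpowers d) := S.isPGroup'.to_le (by rw [zpowers_le]; exact hd)
    have h1 : normalizer ((zpowers d : Subgroup G) : Set G) = centralizer {c * c} := by
      apply eq_of_le (hP _ hd1 (two_p hd2)) _ (cent_coatom hP hm).1
      rw [← norm_invol hm, ← hdd]
      intro g hg
      apply mem_normalizer_fintype
      rintro _ ⟨k, rfl⟩
      obtain ⟨j, hj⟩ := (mem_normalizer_iff.1 hg d).1 (mem_zpowers d)
      change d ^ j = g * d * g⁻¹ at hj
      change g * (d * d) ^ k * g⁻¹ ∈ zpowers (d * d)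
      rw [← conj_zpow]
      apply zpow_mem
      have e : g * (d * d) * g⁻¹ = (g * d * g⁻¹) * (g * d * g⁻¹) := by group
      rw [e, ← hj, ← zpow_add, ← two_mul, zpow_mul]
      have e2 : d ^ (2 : ℤ) = d * d := by rw [zpow_two]
      rw [e2]; exact zpow_mem (mem_zpowers _) j
    refine comm_of_norm (Ne.symm hx.r2) hd2 (isP_zp hx.wr) (mem_zpowers d) (mem_zpowers x) ?_ ?_
    · rw [hx.N hP]; exact hx.S_le hd
    · rw [h1, mem_centralizer_singleton_iff]; exact hx.tw.symm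
  obtain ⟨u, hu, hu2, huc⟩ : ∃ u ∈ S, orderOf u = 2 ∧ u ≠ c * c := by
    by_cases htc : t = c * c
    · exact ⟨v, hv.1, hv2, fun h => hvt (h.trans htc.symm)⟩
    · exact ⟨t, h.tS, h.t2, htc⟩
  have k1 := key c hc rfl
  have huu : u * u = 1 := by have := pow_orderOf_eq_one u; rwa [hu2, sq] at this
  have k2 := key (c * u) (mul_mem hc hu) (by
    calc c * u * (c * u) = c * (u * c) * u := by group
      _ = c * (c * u) * u := by rw [hab u hu c hc]
      _ = (c * c) * (u * u) := by group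
      _ = c * c := by rw [huu, mul_one])
  have k3 : u * x = x * u := by
    have e : u = c⁻¹ * (c * u) := by group
    have k4 : Commute c x := k1
    have k5 : Commute (c * u) x := k2
    rw [e]
    exact (k4.inv_left.mul_left k5)
  exact huc (hx.unique ft hns hP hu hu2 k3)

theorem klein (S : Sylow 2 G) : ∃ t v w r, Pair S t w r ∧ orderOf v = 2 ∧ v ∈ S ∧
    v * w * v⁻¹ = w⁻¹ ∧ v ≠ t ∧ (∀ z ∈ S, z = 1 ∨ z = t ∨ z = v ∨ z = t * v) ∧ IsKleinFour (S : Subgroup G) := by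
  obtain ⟨t, v, w, r, h, hv2, hv, hinv, hvt, hZ⟩ := exists_four ft hns hP hII S
  have hab := comm_S ft hns hP hII S
  have hsq := sq_S ft hns hP hII S
  have hall : ∀ z ∈ S, z = 1 ∨ z = t ∨ z = v ∨ z = t * v :=
    fun z hz => hZ z ⟨hz, fun s hs => hab s hs z hz, hsq z hz⟩
  refine ⟨t, v, w, r, h, hv2, hv.1, hinv, hvt, hall, ?_⟩
  refine isKleinFour_of t v (hsq t h.tS) (hsq v hv.1) (hab t h.tS v hv.1) (ne_one_of_two h.t2) (ne_one_of_two hv2) hvt.symm _ ?_
  intro g
  refine ⟨hall g, ?_⟩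
  rintro (rfl | rfl | rfl | rfl)
  · exact one_mem _
  · exact h.tS
  · exact hv.1
  · exact mul_mem h.tS hv.1

/-- all involutions are conjugate -/
theorem conj_all (S : Sylow 2 G) (hK : IsKleinFour (S : Subgroup G)) :
    ∀ x y : G, orderOf x = 2 → orderOf y = 2 → IsConj x y := by
  haveI : Fact (Nat.Prime 2) := ⟨Nat.prime_two⟩
  have h1 : ∀ s t : G, s ∈ S → t ∈ S → s ≠ 1 → t ≠ 1 → IsConj s t := by
    rcases H5.KleinSylow.dichotomy S hK with ⟨-, h⟩ | ⟨h3, -⟩
    · exact h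
    · exfalso
      obtain ⟨N, hN, hc⟩ := (H5.KleinSylow.three_iff S hK).1 h3
      exact hns (solvable_of_npc ft ⟨S, N, hN, hc⟩)
  have h2 : ∀ x : G, orderOf x = 2 → ∃ s ∈ S, s ≠ 1 ∧ IsConj x s := by
    intro x hx
    obtain ⟨h, hh⟩ := map_conj_le S (isP_zp hx)
    refine ⟨h * x * h⁻¹, hh x (mem_zpowers x), ?_, isConj_iff.2 ⟨h, rfl⟩⟩
    rw [Ne, conj_eq_one_iff]; exact ne_one_of_two hx
  intro x y hx hy
  obtain ⟨s, hs, hs1, hxs⟩ := h2 x hx
  obtain ⟨t, ht, ht1, hyt⟩ := h2 y hy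
  exact hxs.trans ((h1 s t hs ht hs1 ht1).trans hyt.symm)

end caseII

end H68.NormMaxC
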