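import Cfsg.Agent.Lib.H68.NormMaxC
import Cfsg.Agent.Lib.H11.BSW.Main
import Cfsg.Agent.Lib.H17.PSL2Five
import Cfsg.Agent.Lib.H98.DicksonDih
import Cfsg.Agent.Lib.H21.PSLTransport

/-!
# Normalizers maximal: case II, identification of `PSL(2, 13)`
-/

set_option autoImplicit false
set_option linter.all false

universe u

namespace H68.NormMaxD
open Subgroup H68.NormMaxA H68.NormMaxB H68.NormMaxC H11.BSW.Recog

variable {G : Type u} [Group G] [Finite G]

structure F4 (S : Sylow 2 G) (t v w : G) (r : ℕ) : Prop where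
  pair : Pair S t w r
  v2 : orderOf v = 2
  vS : v ∈ S
  inv : v * w * v⁻¹ = w⁻¹
  ne : v ≠ t
  all : ∀ z ∈ S, z = 1 ∨ z = t ∨ z = v ∨ z = t * v
  klein : IsKleinFour (S : Subgroup G)

theorem zp_eq {w y : G} {r : ℕ} (hr : r.Prime) (hw : orderOf w = r) (hy : y ∈ zpowers w) (hy1 : y ≠ 1) :
    zpowers y = zpowers w := by
  have h1 : orderOf y ∣ r := by rw [← hw]; exact orderOf_dvd_of_mem_zpowers hy
  have h2 : orderOf y = r := by
    rcases (Nat.dvd_prime hr).1 h1 with h | h
    · rw [orderOf_eq_one_iff] at h; exact absurd h hy1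
    · exact h
  apply eq_of_le_of_card_ge
  · rw [zpowers_le]; exact hy
  · rw [Nat.card_zpowers, Nat.card_zpowers, h2, hw]

theorem eq_one_of_sq {w y : G} {r : ℕ} (hr : r.Prime) (hr2 : r ≠ 2) (hw : orderOf w = r) (hy : y ∈ zpowers w)
    (h : y * y = 1) : y = 1 := by
  by_contra hy1
  have h1 : orderOf y ∣ r := by rw [← hw]; exact orderOf_dvd_of_mem_zpowers hy
  have h2 : orderOf y = 2 := orderOf_eq_prime (by rw [sq]; exact h) hy1
  rw [h2] at h1
  exact hr2 ((Nat.prime_dvd_prime_iff_eq Nat.prime_two hr).1 h1).symm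

section

variable {S : Sylow 2 G} {t v w : G} {r : ℕ} (h : F4 S t v w r)
include h

theorem F4.tt : t * t = 1 := by have := pow_orderOf_eq_one t; rwa [h.pair.t2, sq] at this
theorem F4.vv : v * v = 1 := by have := pow_orderOf_eq_one v; rwa [h.v2, sq] at this
theorem F4.tv : v * t = t * v := h.pair.tZ v h.vS

theorem F4.comm_w {y : G} (hy : y ∈ zpowers w) : t * y = y * t := by
  obtain ⟨k, rfl⟩ := hy
  exact (Commute.zpow_right (show Commute t w from h.pair.tw) k)

theorem F4.inv_y {y : G} (hy : y ∈ zpowers w) : v * y * v⁻¹ = y⁻¹ := inv_mem h.inv hy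

variable (hP : HP G)
include hP

theorem F4.inf_eq : centralizer {t} ⊓ centralizer ({v} : Set G) = (S : Subgroup G) := by
  haveI : Fact (Nat.Prime 2) := ⟨Nat.prime_two⟩
  apply S.is_maximal'
  · apply isTwo
    intro z hz s hs hzs
    by_contra hs2
    have h1 := cent_eq' hP h.pair.t2 hs hs2 hzs (mem_centralizer_singleton_iff.1 hz.1).symm
    have h2 := cent_eq' hP h.v2 hs hs2 hzs (mem_centralizer_singleton_iff.1 hz.2).symm
    have h3 : w ∈ centralizer ({v} : Set G) := by
      rw [← h2, h1, mem_centralizer_singleton_iff]; exact h.pair.tw.symm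
    rw [mem_centralizer_singleton_iff] at h3
    have h4 : v * w * v⁻¹ = w := by rw [← h3]; group
    rw [h.inv] at h4
    have h5 : w * w = 1 := by nth_rewrite 1 [← h4]; group
    have h6 := eq_one_of_sq h.pair.rp h.pair.r2 h.pair.wr (mem_zpowers w) h5
    have h7 := h.pair.wr
    rw [h6, orderOf_one] at h7
    exact h.pair.rp.one_lt.ne h7
  · intro s hs
    rw [mem_inf, mem_centralizer_singleton_iff, mem_centralizer_singleton_iff]
    exact ⟨h.pair.tZ s hs, H5.KleinSylow.comm h.klein hs h.vS⟩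

theorem F4.mem_ct {g : G} (hg : g ∈ centralizer ({t} : Set G)) : ∃ y ∈ zpowers w, ∃ s ∈ S, g = y * s := by
  rw [← h.pair.N hP] at hg
  obtain ⟨y, hy, c, hc, hcN, rfl⟩ := inv_norm hP h.v2 h.pair.rp h.pair.r2 h.pair.wr h.inv hg
  refine ⟨y, hy, c, ?_, rfl⟩
  have : c ∈ (S : Subgroup G) := by
    rw [← h.inf_eq hP]
    exact ⟨by rw [h.pair.N hP] at hcN; exact hcN, hc⟩
  exact this

omit hP in
theorem F4.mem_K {g : G} : g ∈ zpowers w ⊔ zpowers t ↔ ∃ y ∈ zpowers w, g = y ∨ g = y * t := by
  have hn : zpowers t ≤ normalizer ((zpowers w : Subgroup G) : Set G) :=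
    le_norm_of_comm (fun x hx y hy => comm_zp h.pair.tw.symm x hx y hy)
  rw [H28.Sup.mem_sup_iff hn]
  constructor
  · rintro ⟨y, hy, s, hs, rfl⟩
    rcases (mem_zp_iff h.pair.t2).1 hs with rfl | rfl
    · exact ⟨y, hy, Or.inl (mul_one y)⟩
    · exact ⟨y, hy, Or.inr rfl⟩
  · rintro ⟨y, hy, rfl | rfl⟩
    · exact ⟨g, hy, 1, one_mem _, (mul_one g).symm⟩
    · exact ⟨y, hy, t, mem_zpowers t, rfl⟩

theorem F4.data (hconj : ∀ x y : G, orderOf x = 2 → orderOf y = 2 → IsConj x y) : ∃ Q D : Subgroup G, Data Q D := by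
  have hKC : ∀ g ∈ zpowers w ⊔ zpowers t, g * w = w * g ∧ g * t = t * g := by
    intro g hg
    obtain ⟨y, hy, rfl | rfl⟩ := h.mem_K.1 hg
    · exact ⟨comm_zp (rfl : w * w = w * w) _ hy _ (mem_zpowers w), (h.comm_w hy).symm⟩
    · have h1 : y * w = w * y := comm_zp (rfl : w * w = w * w) _ hy _ (mem_zpowers w)
      have h2 := h.pair.tw
      have h3 := h.comm_w hy
      constructor
      · calc y * t * w = y * (t * w) := by group
          _ = y * w * t := by rw [h2]; group
          _ = w * (y * t) := by rw [h1]; group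
      · calc y * t * t = (y * t) * t := by group
          _ = t * y * t := by rw [h3]
          _ = _ := by group
  have hvw : v * w ≠ w * v := by
    intro h3
    have h4 : v * w * v⁻¹ = w := by rw [h3]; group
    rw [h.inv] at h4
    have h5 : w * w = 1 := by nth_rewrite 1 [← h4]; group
    have h6 := eq_one_of_sq h.pair.rp h.pair.r2 h.pair.wr (mem_zpowers w) h5
    have h7 := h.pair.wr
    rw [h6, orderOf_one] at h7
    exact h.pair.rp.one_lt.ne h7
  refine H11.BSW.Main.exists_data t h.pair.t2 (zpowers w ⊔ zpowers t) ?_ ?_ ?_ v h.v2 ?_ ?_ ?_ ?_ ?_ ?_ hconj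
  · -- abelian
    refine ⟨⟨?_⟩⟩
    rintro ⟨a, ha⟩ ⟨b, hb⟩
    apply Subtype.ext
    change a * b = b * a
    obtain ⟨hb1, hb2⟩ := hKC b hb
    obtain ⟨y, hy, hay⟩ := h.mem_K.1 ha
    obtain ⟨k, rfl⟩ := hy
    have h1 : Commute b (w ^ k) := Commute.zpow_right (show Commute b w from hb1) k
    rcases hay with rfl | rfl
    · exact h1.eq.symm
    · exact (h1.mul_right (show Commute b t from hb2)).eq.symm
  · intro g hg
    rw [mem_centralizer_singleton_iff]
    exact (hKC g hg).2
  · exact le_sup_right (a := zpowers w) (mem_zpowers t)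
  · rw [mem_centralizer_singleton_iff]; exact h.tv
  · intro hv
    exact hvw (hKC v hv).1
  · apply le_antisymm
    · apply sup_le
      · intro g hg
        rw [mem_centralizer_singleton_iff]
        exact (hKC g hg).2
      · rw [zpowers_le, mem_centralizer_singleton_iff]; exact h.tv
    · intro g hg
      obtain ⟨y, hy, s, hs, rfl⟩ := h.mem_ct hP hg
      have hy' : y ∈ zpowers w ⊔ zpowers t ⊔ zpowers v := le_sup_left (b := zpowers v) (le_sup_left (b := zpowers t) hy)
      have ht' : t ∈ zpowers w ⊔ zpowers t ⊔ zpowers v := le_sup_left (b := zpowers v) (le_sup_right (a := zpowers w) (mem_zpowers t))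
      have hv' : v ∈ zpowers w ⊔ zpowers t ⊔ zpowers v := le_sup_right (a := zpowers w ⊔ zpowers t) (mem_zpowers v)
      apply mul_mem hy'
      rcases h.all s hs with rfl | rfl | rfl | rfl
      · exact one_mem _
      · exact ht'
      · exact hv'
      · exact mul_mem ht' hv'
  · ext g
    rw [mem_inf, mem_centralizer_singleton_iff, mem_zp_iff h.pair.t2]
    constructor
    · rintro ⟨hg, hgv⟩
      obtain ⟨y, hy, hgy⟩ := h.mem_K.1 hg
      have key : y * y = 1 := by
        have h1 := h.inv_y hy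
        rcases hgy with rfl | rfl
        · rw [← hgv] at h1
          have h2 : g = g⁻¹ := by rw [← h1]; group
          nth_rewrite 1 [h2]; group
        · have h2 : v * (y * t) * v⁻¹ = y * t := by rw [← hgv]; group
          have h3 : v * (y * t) * v⁻¹ = (v * y * v⁻¹) * t := by
            calc v * (y * t) * v⁻¹ = v * y * v⁻¹ * (v * t) * v⁻¹ := by group
              _ = v * y * v⁻¹ * (t * v) * v⁻¹ := by rw [h.tv]
              _ = _ := by group
          rw [h3, h1] at h2
          have h4 := mul_right_cancel h2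
          nth_rewrite 1 [← h4]; group
      have hy1 := eq_one_of_sq h.pair.rp h.pair.r2 h.pair.wr hy key
      rw [hy1] at hgy
      rcases hgy with h1 | h1
      · left; exact h1
      · right; rw [h1, one_mul]
    · rintro (rfl | rfl)
      · exact ⟨one_mem _, by simp⟩
      · exact ⟨le_sup_right (a := zpowers w) (mem_zpowers g), h.tv.symm⟩
  · intro x hx
    obtain ⟨y, hy, rfl | rfl⟩ := h.mem_K.1 hx
    · exact h.inv_y hy
    · have h1 := h.inv_y hy
      have h2 := h.comm_w hy
      calc v * (y * t) * v⁻¹ = v * y * v⁻¹ * (v * t) * v⁻¹ := by group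
        _ = v * y * v⁻¹ * (t * v) * v⁻¹ := by rw [h.tv]
        _ = y⁻¹ * t := by rw [h1]; group
        _ = y⁻¹ * t⁻¹ := by rw [tinv h.pair.t2]
        _ = (t * y)⁻¹ := by group
        _ = (y * t)⁻¹ := by rw [h2]
  · intro g hg
    rw [eq_bot_iff]
    rintro x ⟨hx1, hx2⟩
    rw [mem_bot]
    by_contra hxne
    apply hg
    obtain ⟨x', hx', hxx⟩ := hx2
    change g * x' * g⁻¹ = x at hxx
    have hx1' : x' ≠ 1 := by rintro rfl; apply hxne; rw [← hxx]; group
    have sqK : ∀ z ∈ zpowers w ⊔ zpowers t, z ≠ 1 → (z = t) ∨ (z * z ∈ zpowers w ∧ z * z ≠ 1) := by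
      intro z hz hz1
      obtain ⟨y, hy, rfl | rfl⟩ := h.mem_K.1 hz
      · right
        exact ⟨mul_mem hy hy, fun hh => hz1 (eq_one_of_sq h.pair.rp h.pair.r2 h.pair.wr hy hh)⟩
      · have h2 := h.comm_w hy
        have h3 : y * t * (y * t) = y * y := by
          calc y * t * (y * t) = y * (t * y) * t := by group
            _ = y * (y * t) * t := by rw [h2]
            _ = y * y * (t * t) := by group
            _ = y * y := by rw [h.tt, mul_one]
        by_cases hyy : y = 1
        · left; rw [hyy, one_mul]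
        · right
          rw [h3]
          exact ⟨mul_mem hy hy, fun hh => hyy (eq_one_of_sq h.pair.rp h.pair.r2 h.pair.wr hy hh)⟩
    have hsq : g * (x' * x') * g⁻¹ = x * x := by rw [← hxx]; group
    rcases sqK x hx1 hxne with h1 | ⟨h1, h2⟩ <;> rcases sqK x' hx' hx1' with h3 | ⟨h3, h4⟩
    · rw [mem_centralizer_singleton_iff]
      rw [h1, h3] at hxx
      exact mul_inv_eq_iff_eq_mul.1 hxx
    · exfalso; apply h4
      rw [h1, h.tt] at hsq
      exact conj_eq_one_iff.1 hsq
    · exfalso; apply h2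
      rw [← hsq, h3, h.tt]; group
    · rw [← h.pair.N hP, ← zp_eq h.pair.rp h.pair.wr h3 h4]
      apply mem_normalizer_fintype
      rintro _ ⟨k, rfl⟩
      change g * (x' * x') ^ k * g⁻¹ ∈ zpowers (x' * x')
      rw [← conj_zpow, hsq, zp_eq h.pair.rp h.pair.wr h3 h4, ← zp_eq h.pair.rp h.pair.wr h1 h2]
      exact zpow_mem (mem_zpowers _) k

end

end H68.NormMaxD
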