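import Cfsg.Agent.Lib.H68.NormMaxD
import Cfsg.Agent.Lib.H72.TpCount

/-!
# Normalizers maximal: case II, identification of `PSL(2, 13)`
-/

set_option autoImplicit false
set_option linter.all false

universe u

namespace H68.NormMaxE
open Subgroup H68.NormMaxA H68.NormMaxB H68.NormMaxC H68.NormMaxD H11.BSW.Recog

variable {G : Type u} [Group G] [Finite G] {S : Sylow 2 G} {t v w : G} {r : ℕ}

theorem mem_S_of {S : Sylow 2 G} {n : G} (hn : n ∈ normalizer ((S : Subgroup G) : Set G)) {k : ℕ} (hk : n ^ 2 ^ k = 1) : n ∈ S := by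
  haveI : Fact (Nat.Prime 2) := ⟨Nat.prime_two⟩
  have h1 : IsPGroup 2 (zpowers n) := by
    obtain ⟨j, hj, hj2⟩ := (Nat.dvd_prime_pow Nat.prime_two).1 (orderOf_dvd_of_pow_eq_one hk)
    exact isP_zp' hj2
  have h2 : IsPGroup 2 ((S : Subgroup G) ⊔ zpowers n : Subgroup G) :=
    IsPGroup.to_sup_of_normal_left' S.isPGroup' h1 (by rw [zpowers_le]; exact hn)
  have h3 := S.is_maximal' h2 le_sup_left
  have h4 : n ∈ (S : Subgroup G) ⊔ zpowers n := le_sup_right (a := (S : Subgroup G)) (mem_zpowers n)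
  rw [h3] at h4; exact h4

/-- a normalizing element centralizing an involution of `S` is in `S` -/
theorem F4.inter (h : F4 S t v w r) (hP : HP G) {x : G} (hx : x ∈ normalizer ((S : Subgroup G) : Set G))
    {a b : G} (ha : a ∈ S) (hb : b ∈ S) (ha1 : a ≠ 1) (hb1 : b ≠ 1) (hab : a ≠ b)
    (hxa : x * a = a * x) : x ∈ S := by
  have hsq : ∀ s ∈ S, s * s = 1 := fun s hs => H5.KleinSylow.mul_self h.klein hs
  have hcomm : ∀ s ∈ S, ∀ s' ∈ S, s * s' = s' * s := fun s hs s' hs' => H5.KleinSylow.comm h.klein hs hs'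
  have hcent : ∀ y : G, y * a = a * y → y * b = b * y → y ∈ S := by
    intro y hya hyb
    have h1 : ∀ s ∈ S, y * s = s * y := by
      intro s hs
      by_cases hs1 : s = 1
      · rw [hs1]; simp
      rcases H5.KleinSylow.cases_of_mem h.klein ha hb hs ha1 hb1 hab hs1 with rfl | rfl | rfl
      · exact hya
      · exact hyb
      · calc y * (a * b) = (y * a) * b := by group
          _ = a * (y * b) := by rw [hya]; group
          _ = _ := by rw [hyb]; group
    have h2 : y ∈ (S : Subgroup G) := by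
      rw [← h.inf_eq hP, mem_inf, mem_centralizer_singleton_iff, mem_centralizer_singleton_iff]
      exact ⟨h1 t h.pair.tS, h1 v h.vS⟩
    exact h2
  have hxb : x * b * x⁻¹ ∈ S := (mem_normalizer_iff.1 hx b).1 hb
  have hxb1 : x * b * x⁻¹ ≠ 1 := by rw [Ne, conj_eq_one_iff]; exact hb1
  rcases H5.KleinSylow.cases_of_mem h.klein ha hb hxb ha1 hb1 hab hxb1 with h1 | h1 | h1
  · exfalso
    apply hab
    have h2 : x * b = a * x := mul_inv_eq_iff_eq_mul.1 h1
    rw [← hxa] at h2
    exact (mul_left_cancel h2).symm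
  · exact hcent x hxa (mul_inv_eq_iff_eq_mul.1 h1)
  · have h2 : x * x ∈ S := by
      apply hcent
      · rw [mul_assoc, hxa, ← mul_assoc, hxa, mul_assoc]
      · have h3 : x * b = a * b * x := mul_inv_eq_iff_eq_mul.1 h1
        calc x * x * b = x * (x * b) := by group
          _ = x * a * b * x := by rw [h3]; group
          _ = a * (x * b) * x := by rw [hxa]; group
          _ = (a * a) * b * (x * x) := by rw [h3]; group
          _ = b * (x * x) := by rw [hsq a ha, one_mul]
    apply mem_S_of hx (k := 2)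
    have h3 := hsq _ h2
    have e : x ^ 2 ^ 2 = x * x * (x * x) := by
      simp [pow_succ, mul_assoc]
    rw [e]; exact h3

/-- `N_G(S) ≤ N` as soon as `N` contains an element of `N(S)` outside `S` -/
theorem F4.norm_le (h : F4 S t v w r) (hP : HP G) (N : Subgroup G) (hSN : (S : Subgroup G) ≤ N) {n : G}
    (hn : n ∈ N) (hnS : n ∈ normalizer ((S : Subgroup G) : Set G)) (hnn : n ∉ S) :
    normalizer ((S : Subgroup G) : Set G) ≤ N := by
  intro m hm
  have htS := h.pair.tS
  have ht1 := ne_one_of_two h.pair.t2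
  have hv1 := ne_one_of_two h.v2
  have conjS : ∀ {x : G}, x ∈ normalizer ((S : Subgroup G) : Set G) → ∀ {s : G}, s ∈ S → x * s * x⁻¹ ∈ S := by
    intro x hx s hs
    exact (mem_normalizer_iff.1 hx s).1 hs
  have key : ∀ x ∈ normalizer ((S : Subgroup G) : Set G), x * t * x⁻¹ = t → x ∈ S := by
    intro x hx hxt
    exact F4.inter h hP hx htS h.vS ht1 hv1 h.ne.symm (mul_inv_eq_iff_eq_mul.1 hxt)
  have hne : ∀ x : G, x * t * x⁻¹ ≠ 1 := fun x => by rw [Ne, conj_eq_one_iff]; exact ht1
  set b := n * t * n⁻¹ with hb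
  set c := n * b * n⁻¹ with hc
  have hbt : b ≠ t := fun hh => hnn (key n hnS hh)
  have hbS : b ∈ S := conjS hnS htS
  have hcS : c ∈ S := conjS hnS hbS
  have hcb : c ≠ b := by
    intro hh
    have : n * b * n⁻¹ = n * t * n⁻¹ := by rw [← hc, hh, hb]
    exact hbt (mul_left_cancel (mul_right_cancel this))
  have hc2 : c = (n * n) * t * (n * n)⁻¹ := by rw [hc, hb]; group
  have hct : c ≠ t := by
    intro hh
    rw [hc2] at hh
    have h1 := key _ (mul_mem hnS hnS) hh
    apply hnn
    apply mem_S_of hnS (k := 2)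
    have h3 := H5.KleinSylow.mul_self h.klein h1
    have e : n ^ 2 ^ 2 = n * n * (n * n) := by
      simp [pow_succ, mul_assoc]
    rw [e]; exact h3
  have hb1 : b ≠ 1 := hne n
  have hc1 : c ≠ 1 := by rw [hc2]; exact hne _
  have hd : m * t * m⁻¹ = t ∨ m * t * m⁻¹ = b ∨ m * t * m⁻¹ = c := by
    rcases H5.KleinSylow.cases_of_mem h.klein htS hbS (conjS hm htS) ht1 hb1 (Ne.symm hbt) (hne m) with h1 | h1 | h1
    · left; exact h1
    · right; left; exact h1
    · right; right
      rw [h1]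
      rcases H5.KleinSylow.cases_of_mem h.klein htS hbS hcS ht1 hb1 (Ne.symm hbt) hc1 with h2 | h2 | h2
      · exact absurd h2 hct
      · exact absurd h2 hcb
      · exact h2.symm
  rcases hd with h1 | h1 | h1
  · exact hSN (key m hm h1)
  · have h2 : n⁻¹ * m ∈ S := by
      apply key _ (mul_mem (Subgroup.inv_mem _ hnS) hm)
      calc n⁻¹ * m * t * (n⁻¹ * m)⁻¹ = n⁻¹ * (m * t * m⁻¹) * n := by group
        _ = t := by rw [h1, hb]; group
    have h3 : m = n * (n⁻¹ * m) := by group
    rw [h3]; exact mul_mem hn (hSN h2)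
  · have h2 : (n * n)⁻¹ * m ∈ S := by
      apply key _ (mul_mem (Subgroup.inv_mem _ (mul_mem hnS hnS)) hm)
      calc (n * n)⁻¹ * m * t * ((n * n)⁻¹ * m)⁻¹ = (n * n)⁻¹ * (m * t * m⁻¹) * (n * n) := by
            simp only [mul_inv_rev, inv_inv, mul_assoc]
        _ = t := by rw [h1, hc2]; group
    have h3 : m = (n * n) * ((n * n)⁻¹ * m) := by group
    rw [h3]; exact mul_mem (mul_mem hn hn) (hSN h2)

theorem simple (ft : FT.{u}) (hns : ¬ Group.IsSolvable G) (hP : HP G) (h : F4 S t v w r)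
    (hconj : ∀ x y : G, orderOf x = 2 → orderOf y = 2 → IsConj x y) : IsSimpleGroup G := by
  haveI : Fact (Nat.Prime 2) := ⟨Nat.prime_two⟩
  haveI : Nontrivial G := ⟨⟨t, 1, ne_one_of_two h.pair.t2⟩⟩
  refine ⟨fun N hN => ?_⟩
  by_contra hcon
  push Not at hcon
  obtain ⟨hN1, hN2⟩ := hcon
  have hNs : ¬ Group.IsSolvable N := fun hs => hN1 (normal_solvable hP N hs)
  have h2 : 2 ∣ Nat.card N := by
    by_contra h2
    apply hNs
    apply ft
    rw [← Nat.not_even_iff_odd, even_iff_two_dvd]; exact h2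
  obtain ⟨x, hx⟩ := exists_prime_orderOf_dvd_card' 2 h2
  have hall : ∀ y : G, orderOf y = 2 → y ∈ N := by
    intro y hy
    obtain ⟨g, hg⟩ := isConj_iff.1 (hconj (x : G) y (by rw [Subgroup.orderOf_coe, hx]) hy)
    rw [← hg]; exact hN.conj_mem x x.2 g
  have hSN : (S : Subgroup G) ≤ N := by
    intro s hs
    by_cases hs1 : s = 1
    · rw [hs1]; exact one_mem _
    · exact hall s (H5.KleinSylow.orderOf_eq h.klein hs hs1)
  obtain ⟨n, hn, hnS, hnn⟩ : ∃ n ∈ N, n ∈ normalizer ((S : Subgroup G) : Set G) ∧ n ∉ S := by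
    by_contra hcon
    push Not at hcon
    apply hNs
    apply solvable_of_npc ft
    apply H72.TpCount.hasNormalPComplement_of_normalizer_le (S.subtype hSN)
    intro x hx
    have hxS : (x : G) ∈ normalizer ((S : Subgroup G) : Set G) := by
      apply mem_normalizer_fintype
      intro s hs
      have h1 : (⟨s, hSN hs⟩ : N) ∈ (S.subtype hSN : Subgroup N) := by
        rw [Sylow.coe_subtype, mem_subgroupOf]; exact hs
      have h3 := (mem_normalizer_iff.1 hx ⟨s, hSN hs⟩).1 h1
      rw [Sylow.coe_subtype, mem_subgroupOf] at h3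
      exact h3
    have h3 := hcon x x.2 hxS
    rw [mem_centralizer_iff]
    rintro s hs
    rw [Sylow.coe_subtype, SetLike.mem_coe, mem_subgroupOf] at hs
    exact Subtype.ext (H5.KleinSylow.comm h.klein hs h3)
  have hle := F4.norm_le h hP N hSN hn hnS hnn
  apply hN2
  rw [eq_top_iff]
  have h3 := Sylow.normalizer_sup_eq_top (S.subtype hSN)
  have h4 : ((S.subtype hSN : Subgroup N)).map N.subtype = (S : Subgroup G) := by
    rw [Sylow.coe_subtype, subgroupOf_map_subtype, inf_eq_left.2 hSN]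
  rw [h4] at h3
  rw [← h3]
  exact sup_le hle le_rfl

/-- orders of elements inverted by an involution -/
theorem dih_order (hP : HP G) (hS2 : ∀ x : G, (∃ k : ℕ, x ^ 2 ^ k = 1) → x * x = 1) {a b : G} (hb : orderOf b = 2)
    (hab : b * a * b⁻¹ = a⁻¹) {k : ℕ} (hk : orderOf a = k) :
    k = 1 ∨ k = 2 ∨ ∃ s : ℕ, s.Prime ∧ s ≠ 2 ∧ (k = s ∨ k = 2 * s) := by
  have hk0 : k ≠ 0 := by rw [← hk]; exact (orderOf_pos a).ne'
  rcases Nat.eq_two_pow_or_exists_odd_prime_and_dvd k with ⟨j, hj⟩ | ⟨s, hs, hd, hodd⟩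
  · have h1 : a * a = 1 := hS2 a ⟨j, by rw [← hj, ← hk]; exact pow_orderOf_eq_one a⟩
    have h2 : k ∣ 2 := by rw [← hk]; exact orderOf_dvd_of_pow_eq_one (by rw [sq]; exact h1)
    rcases (Nat.dvd_prime Nat.prime_two).1 h2 with h3 | h3
    · left; exact h3
    · right; left; exact h3
  · right; right
    have hs2 : s ≠ 2 := by rintro rfl; exact absurd hodd (by decide)
    obtain ⟨m, hm⟩ := hd
    have hm0 : m ≠ 0 := by rintro rfl; rw [mul_zero] at hm; exact hk0 hm
    set x := a ^ m with hx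
    have hxo : orderOf x = s := by
      rw [hx, orderOf_pow_of_dvd hm0 (by rw [hk, hm]; exact Dvd.intro_left s rfl), hk, hm, Nat.mul_div_cancel _ (Nat.pos_of_ne_zero hm0)]
    have hinv : b * x * b⁻¹ = x⁻¹ := by rw [hx, ← conj_pow, hab, inv_pow]
    have haN : a ∈ normalizer ((zpowers x : Subgroup G) : Set G) := by
      apply mem_normalizer_fintype
      rintro _ ⟨i, rfl⟩
      change a * x ^ i * a⁻¹ ∈ zpowers x
      have : a * x ^ i * a⁻¹ = x ^ i := by
        have h1 : Commute a (x ^ i) := (((Commute.refl a).pow_right m).zpow_right i)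
        rw [h1.eq]; group
      rw [this]; exact zpow_mem (mem_zpowers x) i
    obtain ⟨u, hu, c, hc, -, hauc⟩ := inv_norm hP hb hs hs2 hxo hinv haN
    have hc' : c = u⁻¹ * a := by rw [hauc]; group
    obtain ⟨i, hi⟩ := hu
    change x ^ i = u at hi
    have hau : Commute a u := by rw [← hi]; exact (((Commute.refl a).pow_right m).zpow_right i)
    have hcx : c * x = x * c := by
      have h1 : Commute a x := (Commute.refl a).pow_right m
      have h2 : Commute u x := by rw [← hi]; exact (Commute.refl x).zpow_left i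
      rw [hc']
      exact (h2.inv_left.mul_left h1)
    have h3 : IsPGroup 2 (zpowers c) := by
      apply isTwo
      rintro _ ⟨j, rfl⟩ q hq hzq
      refine inv_two hP hb hs hs2 hxo hinv ?_ ?_ hq hzq
      · exact (show Commute c b from mem_centralizer_singleton_iff.1 hc).zpow_left j
      · exact (show Commute c x from hcx).zpow_left j
    obtain ⟨e, he⟩ := exists_pow h3 (mem_zpowers c)
    have hcc := hS2 c ⟨e, he⟩
    have hcu : Commute c u := by rw [hc']; exact ((Commute.refl u).inv_left.mul_left hau)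
    have h4 : a ^ (2 * s) = 1 := by
      rw [hauc, hcu.symm.mul_pow]
      have h5 : u ^ (2 * s) = 1 := by
        rw [mul_comm, pow_mul]
        have : u ^ s = 1 := by
          rw [← hi, ← zpow_natCast, ← zpow_mul, mul_comm, zpow_mul, zpow_natCast, ← hxo, pow_orderOf_eq_one, one_zpow]
        rw [this, one_pow]
      rw [h5, one_mul, pow_mul, sq, hcc, one_pow]
    have h5 : k ∣ 2 * s := by rw [← hk]; exact orderOf_dvd_of_pow_eq_one h4
    rw [hm, mul_comm 2 s] at h5
    have h6 : m ∣ 2 := Nat.dvd_of_mul_dvd_mul_left hs.pos h5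
    refine ⟨s, hs, hs2, ?_⟩
    rcases (Nat.dvd_prime Nat.prime_two).1 h6 with h7 | h7
    · left; rw [hm, h7, mul_one]
    · right; rw [hm, h7, mul_comm]

theorem arith {m : ℕ} (hp : (2 * m + 1).Prime) (hm : 2 ≤ m)
    (h1 : m = 1 ∨ m = 2 ∨ ∃ s : ℕ, s.Prime ∧ s ≠ 2 ∧ (m = s ∨ m = 2 * s))
    (h2 : m + 1 = 1 ∨ m + 1 = 2 ∨ ∃ s : ℕ, s.Prime ∧ s ≠ 2 ∧ (m + 1 = s ∨ m + 1 = 2 * s)) :
    m = 2 ∨ m = 5 ∨ m = 6 := by
  have h3 : m % 3 = 0 ∨ m % 3 = 1 ∨ m % 3 = 2 := by omega
  have hp3 : m % 3 ≠ 1 := by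
    intro h
    have h4 : 3 ∣ 2 * m + 1 := by omega
    have := (Nat.prime_dvd_prime_iff_eq Nat.prime_three hp).1 h4
    omega
  have key : ∀ s : ℕ, s.Prime → 3 ∣ s → s = 3 := fun s hs h => ((Nat.prime_dvd_prime_iff_eq Nat.prime_three hs).1 h).symm
  have odd : ∀ s : ℕ, s.Prime → s ≠ 2 → s % 2 = 1 := fun s hs h => hs.eq_two_or_odd.resolve_left h
  rcases h1 with h1 | h1 | ⟨s, hs, hs2, h1⟩
  · omega
  · left; exact h1
  · have os := odd s hs hs2
    rcases h2 with h2 | h2 | ⟨s', hs', hs2', h2⟩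
    · omega
    · omega
    · have os' := odd s' hs' hs2'
      rcases h1 with h1 | h1 <;> rcases h2 with h2 | h2
      · omega
      · -- m = s, m + 1 = 2 s'
        rcases h3 with h3 | h3 | h3
        · have := key s hs (by omega); omega
        · exact absurd h3 hp3
        · have := key s' hs' (by omega); omega
      · rcases h3 with h3 | h3 | h3
        · have := key s hs (by omega); omega
        · exact absurd h3 hp3
        · have := key s' hs' (by omega); omega
      · omega

end H68.NormMaxE
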