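import Cfsg.Agent.Lib.H68.NormMaxE

/-!
# Normalizers maximal: case II, identification of `PSL(2, 13)`
-/

set_option autoImplicit false
set_option linter.all false

universe u

namespace H68.NormMaxF
open Subgroup H68.NormMaxA H68.NormMaxB H68.NormMaxC H68.NormMaxD H68.NormMaxE H11.BSW.Recog

variable {G : Type u} [Group G] [Finite G] {Q D : Subgroup G}

theorem norm_zp (hP : HP G) (hd : Data Q D) (hQ : IsCoatom (normalizer (Q : Set G))) {p : ℕ} (hp : p.Prime) {x : G} (hx : x ∈ Q) (hxp : orderOf x = p) :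
    normalizer ((zpowers x : Subgroup G) : Set G) = normalizer (Q : Set G) := by
  haveI : Fact p.Prime := ⟨hp⟩
  have hx1 : x ≠ 1 := by rintro rfl; rw [orderOf_one] at hxp; exact hp.one_lt.ne hxp
  apply eq_of_le (hP _ (zp_ne hp hxp) (two_p (isP_zp hxp))) _ hQ.1
  intro g hg
  have h1 : g⁻¹ * x * g ∈ Q := by
    have h2 := (mem_normalizer_iff.1 (Subgroup.inv_mem _ hg) x).1 (mem_zpowers x)
    rw [inv_inv] at h2
    exact (zpowers_le.2 hx) h2
  exact hd.mem_norm hx hx1 (hd.Q_le h1)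

theorem card_D_lt (hP : HP G) (hd : Data Q D) (hQ : IsCoatom (normalizer (Q : Set G))) {p : ℕ} (hp : p.Prime) {x : G} (hx : x ∈ Q) (hxp : orderOf x = p) :
    Nat.card D < p := by
  have hx1 : x ≠ 1 := by rintro rfl; rw [orderOf_one] at hxp; exact hp.one_lt.ne hxp
  have h1 := norm_zp hP hd hQ hp hx hxp
  -- the map d ↦ d x d⁻¹
  have h2 : ∀ d : D, (d : G) * x * (d : G)⁻¹ ∈ zpowers x := by
    intro d
    have h3 : (d : G) ∈ normalizer ((zpowers x : Subgroup G) : Set G) := by rw [h1]; exact hd.D_le d.2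
    exact (mem_normalizer_iff.1 h3 x).1 (mem_zpowers x)
  let f : D → zpowers x := fun d => ⟨(d : G) * x * (d : G)⁻¹, h2 d⟩
  have hf : Function.Injective f := by
    intro d d' hdd
    have h3 : (d : G) * x * (d : G)⁻¹ = (d' : G) * x * (d' : G)⁻¹ := congrArg Subtype.val hdd
    have h4 : ((d' : G)⁻¹ * d) * x = x * ((d' : G)⁻¹ * d) := by
      calc ((d' : G)⁻¹ * d) * x = (d' : G)⁻¹ * ((d : G) * x * (d : G)⁻¹) * d := by group
        _ = (d' : G)⁻¹ * ((d' : G) * x * (d' : G)⁻¹) * d := by rw [h3]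
        _ = _ := by group
    have h5 : (d' : G)⁻¹ * d ∈ Q := by
      rw [← hd.cent x hx hx1, mem_centralizer_singleton_iff]; exact h4
    have h6 : (d' : G)⁻¹ * d ∈ Q ⊓ D := ⟨h5, mul_mem (Subgroup.inv_mem _ d'.2) d.2⟩
    rw [hd.inf, mem_bot, inv_mul_eq_one] at h6
    exact Subtype.ext h6.symm
  have hns : ¬ Function.Surjective f := by
    intro hs
    obtain ⟨d, hd1⟩ := hs 1
    have : (d : G) * x * (d : G)⁻¹ = 1 := congrArg Subtype.val hd1
    rw [conj_eq_one_iff] at this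
    exact hx1 this
  have h3 : Nat.card D < Nat.card (zpowers x) := by
    classical
    letI := Fintype.ofFinite D
    letI := Fintype.ofFinite (zpowers x)
    rw [Nat.card_eq_fintype_card, Nat.card_eq_fintype_card]
    exact Fintype.card_lt_of_injective_not_surjective f hf hns
  rwa [Nat.card_zpowers, hxp] at h3

theorem Q_prime (hP : HP G) (hd : Data Q D) (hD : D ≠ ⊥) (F : Type) [Field F] [Fintype F] (hF : Fintype.card F = Nat.card Q) : (Nat.card Q).Prime := by
  obtain ⟨p, -, n, hp, hn⟩ := FiniteField.card' F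
  haveI : Fact p.Prime := ⟨hp⟩
  have hQc : Nat.card Q = p ^ (n : ℕ) := by rw [← hF]; exact hn
  have hQp : IsPGroup p Q := IsPGroup.of_card hQc
  have hDc := hd.cardD
  have hD1 : 2 ≤ Nat.card D := by
    have := (Subgroup.one_lt_card_iff_ne_bot D).2 hD
    omega
  have hQ1 : Q ≠ ⊥ := by
    rintro rfl
    rw [card_bot] at hDc
    omega
  have hQ := hP Q hQ1 (two_p hQp)
  have h1 : p ∣ Nat.card Q := by rw [hQc]; exact dvd_pow_self p n.pos.ne'
  obtain ⟨x, hx⟩ := exists_prime_orderOf_dvd_card' p h1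
  have h2 := card_D_lt hP hd hQ hp x.2 (by rw [Subgroup.orderOf_coe, hx])
  have h3 : (n : ℕ) = 1 := by
    by_contra h3
    have h4 : 2 ≤ (n : ℕ) := by have := n.pos; omega
    have h5 : p ^ 2 ≤ p ^ (n : ℕ) := Nat.pow_le_pow_right hp.pos h4
    have h6 := hp.two_le
    rw [← hQc, ← hDc] at h5
    nlinarith
  rw [hQc, h3, pow_one]; exact hp

theorem card_ND (hd : Data Q D) (hD : D ≠ ⊥) : Nat.card (normalizer (D : Set G)) ∣ 2 * Nat.card D := by
  obtain ⟨-, u, hu2, huD, hinv, hN⟩ := hd.inv D le_rfl hD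
  have h1 : zpowers u ≤ normalizer (D : Set G) := by rw [hN]; exact le_sup_right
  have h2 := H3.CardSup.card_sup_mul_card_inf (zpowers u) D h1
  rw [Nat.card_zpowers, hu2] at h2
  rw [hN, sup_comm]
  exact ⟨_, h2.symm⟩

theorem s5_elt : ∃ c d : Equiv.Perm (Fin 5), Equiv.Perm.sign c = 1 ∧ Equiv.Perm.sign d = 1 ∧ c ^ 5 = 1 ∧ c ≠ 1 ∧ d ^ 2 = 1 ∧ d ≠ 1 ∧
    d * c * d⁻¹ = c⁻¹ := by
  refine ⟨Equiv.swap 0 1 * Equiv.swap 1 2 * Equiv.swap 2 3 * Equiv.swap 3 4, Equiv.swap 1 4 * Equiv.swap 2 3, ?_, ?_, ?_, ?_, ?_, ?_, ?_⟩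
  · simp [Equiv.Perm.sign_swap]
  · simp [Equiv.Perm.sign_swap]
  all_goals decide

theorem a5_elt : ∃ c d : alternatingGroup (Fin 5), orderOf c = 5 ∧ orderOf d = 2 ∧ d * c * d⁻¹ = c⁻¹ := by
  obtain ⟨c, d, h1, h2, h3, h4, h5, h6, h7⟩ := s5_elt
  refine ⟨⟨c, Equiv.Perm.mem_alternatingGroup.2 h1⟩, ⟨d, Equiv.Perm.mem_alternatingGroup.2 h2⟩, ?_, ?_, ?_⟩
  · haveI : Fact (Nat.Prime 5) := ⟨Nat.prime_five⟩
    apply orderOf_eq_prime
    · exact Subtype.ext h3
    · intro h; exact h4 (congrArg Subtype.val h)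
  · haveI : Fact (Nat.Prime 2) := ⟨Nat.prime_two⟩
    apply orderOf_eq_prime
    · exact Subtype.ext h5
    · intro h; exact h6 (congrArg Subtype.val h)
  · exact Subtype.ext h7

/-- elimination of `q = 11` -/
theorem not_eleven (hP : HP G) (hd : Data Q D) (hQ : Nat.card Q = 11) {A : Subgroup G} (e : A ≃* alternatingGroup (Fin 5)) : False := by
  haveI : Fact (Nat.Prime 5) := ⟨Nat.prime_five⟩
  have hDc := hd.cardD
  have hDc5 : Nat.card D = 5 := by omega
  have hD : D ≠ ⊥ := by rintro rfl; rw [card_bot] at hDc5; omega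
  have hG : Nat.card G = 660 := by
    have := hd.card
    rw [hQ] at this; omega
  have hA : Nat.card A = 60 := by
    rw [Nat.card_congr e.toEquiv, nat_card_alternatingGroup, Nat.card_fin]
    decide
  have hND := card_ND hd hD
  rw [hDc5] at hND
  obtain ⟨c, d, hc, hdd, hcd⟩ := a5_elt
  set y : G := ((e.symm c : A) : G) with hy
  set j : G := ((e.symm d : A) : G) with hj
  have hyo : orderOf y = 5 := by rw [hy, Subgroup.orderOf_coe, MulEquiv.orderOf_eq, hc]
  have hjo : orderOf j = 2 := by rw [hj, Subgroup.orderOf_coe, MulEquiv.orderOf_eq, hdd]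
  have hyj : j * y * j⁻¹ = y⁻¹ := by
    rw [hy, hj]
    have : (e.symm d) * (e.symm c) * (e.symm d)⁻¹ = (e.symm c)⁻¹ := by
      rw [← map_mul, ← map_inv, ← map_mul, hcd, map_inv]
    exact congrArg Subtype.val this
  have hyc : Nat.card (zpowers y) = 5 := by rw [Nat.card_zpowers, hyo]
  have hsyl : ∀ X : Subgroup G, Nat.card X = 5 → ∃ P : Sylow 5 G, (P : Subgroup G) = X := by
    intro X hX
    obtain ⟨P, hXP⟩ := (IsPGroup.of_card (n := 1) (by rw [hX, pow_one]) : IsPGroup 5 X).exists_le_sylow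
    refine ⟨P, ?_⟩
    obtain ⟨k, hk⟩ := IsPGroup.iff_card.1 P.isPGroup'
    have h1 : Nat.card (P : Subgroup G) ∣ 660 := by rw [← hG]; exact card_subgroup_dvd_card _
    have h2 : k ≤ 1 := by
      by_contra h2
      have h3 : 5 ^ 2 ∣ 5 ^ k := pow_dvd_pow 5 (by omega)
      rw [← hk] at h3
      have := h3.trans h1
      omega
    symm
    apply eq_of_le_of_card_ge hXP
    rw [hk, hX]
    calc 5 ^ k ≤ 5 ^ 1 := Nat.pow_le_pow_right (by norm_num) h2
      _ = 5 := by norm_num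
  obtain ⟨P, hP1⟩ := hsyl (zpowers y) hyc
  obtain ⟨P', hP2⟩ := hsyl D hDc5
  have hcard : Nat.card (normalizer ((zpowers y : Subgroup G) : Set G)) = Nat.card (normalizer (D : Set G)) := by
    rw [← hP1, ← hP2]
    have h1 : Nat.card (Sylow 5 G) = (normalizer ((P : Subgroup G) : Set G)).index := P.card_eq_index_normalizer
    have h2 : Nat.card (Sylow 5 G) = (normalizer ((P' : Subgroup G) : Set G)).index := P'.card_eq_index_normalizer
    have h3 := card_mul_index (normalizer ((P : Subgroup G) : Set G))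
    have h4 := card_mul_index (normalizer ((P' : Subgroup G) : Set G))
    rw [← h1] at h3
    rw [← h2] at h4
    have h5 : 0 < Nat.card (Sylow 5 G) := Nat.card_pos
    exact Nat.eq_of_mul_eq_mul_right h5 (h3.trans h4.symm)
  rw [← hcard] at hND
  have hle : zpowers y ⊔ zpowers j ≤ A := by
    rw [sup_le_iff, zpowers_le, zpowers_le]
    exact ⟨(e.symm c).2, (e.symm d).2⟩
  have hjn := t_norm hjo hyj
  have hle2 : zpowers y ⊔ zpowers j ≤ normalizer ((zpowers y : Subgroup G) : Set G) := sup_le le_normalizer hjn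
  have hc10 : Nat.card (zpowers y ⊔ zpowers j : Subgroup G) = 10 := by
    have h1 := H3.CardSup.card_sup_mul_card_inf (zpowers j) (zpowers y) hjn
    have h2 : zpowers j ⊓ zpowers y = ⊥ := by
      rw [eq_bot_iff]
      rintro x ⟨hx1, hx2⟩
      haveI : Fact (Nat.Prime 2) := ⟨Nat.prime_two⟩
      exact mem_bot.2 (disj (by norm_num : (2 : ℕ) ≠ 5) (isP_zp hjo) (isP_zp hyo) hx1 hx2)
    rw [h2, card_bot, mul_one, Nat.card_zpowers, Nat.card_zpowers, hjo, hyo, sup_comm] at h1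
    exact h1
  have heq : zpowers y ⊔ zpowers j = normalizer ((zpowers y : Subgroup G) : Set G) := by
    apply eq_of_le_of_card_ge hle2
    rw [hc10]
    exact Nat.le_of_dvd (by norm_num) hND
  have hco := hP _ (zp_ne Nat.prime_five hyo) (two_p (isP_zp hyo))
  rw [← heq] at hco
  by_cases hA1 : A = ⊤
  · rw [hA1, card_top, hG] at hA; omega
  · have := eq_of_le hco hle hA1
    rw [this, hA] at hc10
    omega

theorem caseII (ft : FT.{u}) (hns : ¬ Group.IsSolvable G) (hP : HP G)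
    (hII : ∀ S : Sylow 2 G, ∀ t ∈ S, orderOf t = 2 → centralizer {t} ≠ (S : Subgroup G)) :
    Nonempty (G ≃* Matrix.ProjectiveSpecialLinearGroup (Fin 2) (ZMod 13)) := by
  haveI : Fact (Nat.Prime 2) := ⟨Nat.prime_two⟩
  obtain ⟨S⟩ : Nonempty (Sylow 2 G) := inferInstance
  obtain ⟨t, v, w, r, hpair, hv2, hvS, hinv, hvt, hall, hk⟩ := klein ft hns hP hII S
  have h : F4 S t v w r := ⟨hpair, hv2, hvS, hinv, hvt, hall, hk⟩
  have hconj := conj_all ft hns hP hII S hk
  obtain ⟨Q, D, hd⟩ := h.data hP hconj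
  haveI := simple ft hns hP h hconj
  have hD := hd.D_ne_bot
  obtain ⟨F, iF, iFf, hF, hodd, ⟨e⟩⟩ := hd.psl
  have hQp := Q_prime hP hd hD F hF
  have hDc := hd.cardD
  have hD1 : 2 ≤ Nat.card D := by
    have := (Subgroup.one_lt_card_iff_ne_bot D).2 hD
    omega
  -- 2-elements have square 1
  have hS2 : ∀ x : G, (∃ k : ℕ, x ^ 2 ^ k = 1) → x * x = 1 := by
    rintro x ⟨k, hk'⟩
    have h1 : IsPGroup 2 (zpowers x) := by
      obtain ⟨j, hj, hj2⟩ := (Nat.dvd_prime_pow Nat.prime_two).1 (orderOf_dvd_of_pow_eq_one hk')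
      exact isP_zp' hj2
    obtain ⟨g, hg⟩ := map_conj_le S h1
    have h2 := H5.KleinSylow.mul_self hk (hg x (mem_zpowers x))
    have h3 : g * (x * x) * g⁻¹ = 1 := by rw [← h2]; group
    exact conj_eq_one_iff.1 h3
  have hFc : Nat.card F = Nat.card Q := by rw [Nat.card_eq_fintype_card, hF]
  have hgcd : Nat.gcd 2 (Nat.card F - 1) = 2 := by
    rw [hFc, ← hDc]
    rw [Nat.add_sub_cancel]
    exact Nat.gcd_eq_left (Dvd.intro _ rfl)
  have hdih : ∀ k : ℕ, (∃ H : Subgroup (Matrix.ProjectiveSpecialLinearGroup (Fin 2) F), Nonempty (H ≃* DihedralGroup k)) → k ≠ 0 →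
      k = 1 ∨ k = 2 ∨ ∃ s : ℕ, s.Prime ∧ s ≠ 2 ∧ (k = s ∨ k = 2 * s) := by
    rintro k ⟨H, ⟨f⟩⟩ hk0
    haveI : NeZero k := ⟨hk0⟩
    let a : G := e.symm ((f.symm (DihedralGroup.r 1) : H) : Matrix.ProjectiveSpecialLinearGroup (Fin 2) F)
    let b : G := e.symm ((f.symm (DihedralGroup.sr 0) : H) : Matrix.ProjectiveSpecialLinearGroup (Fin 2) F)
    have ha : orderOf a = k := by
      change orderOf (e.symm _) = k
      rw [MulEquiv.orderOf_eq, Subgroup.orderOf_coe, MulEquiv.orderOf_eq, DihedralGroup.orderOf_r_one]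
    have hb : orderOf b = 2 := by
      change orderOf (e.symm _) = 2
      rw [MulEquiv.orderOf_eq, Subgroup.orderOf_coe, MulEquiv.orderOf_eq, DihedralGroup.orderOf_sr]
    have hab : b * a * b⁻¹ = a⁻¹ := by
      have h1 : (DihedralGroup.sr 0 : DihedralGroup k) * DihedralGroup.r 1 * (DihedralGroup.sr 0)⁻¹ = (DihedralGroup.r 1)⁻¹ := by
        simp
      have h2 := congrArg (e.symm.toMonoidHom.comp (H.subtype.comp f.symm.toMonoidHom)) h1
      rw [map_mul, map_mul, map_inv, map_inv] at h2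
      exact h2
    exact dih_order hP hS2 hb hab ha
  have hplus := hdih _ (H98.DicksonDih.exists_dih_plus (F := F)) (by
    rw [hgcd, hFc, ← hDc]; omega)
  have hminus := hdih _ (H98.DicksonDih.exists_dih_minus (F := F) (by rw [hFc, ← hDc]; omega)) (by
    rw [hgcd, hFc, ← hDc]; omega)
  rw [hgcd, hFc] at hplus hminus
  have e1 : (Nat.card Q + 1) / 2 = Nat.card D + 1 := by omega
  have e2 : (Nat.card Q - 1) / 2 = Nat.card D := by omega
  rw [e1] at hplus
  rw [e2] at hminus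
  rw [← hDc] at hQp
  rcases arith hQp hD1 hminus hplus with h2 | h5 | h6
  · -- q = 5
    exfalso
    have h3 := card_ND hd hD
    rw [h2] at h3
    obtain ⟨x, hx⟩ := exists_prime_orderOf_dvd_card' (G := D) 2 (by rw [h2])
    have hx' : orderOf (x : G) = 2 := by rw [Subgroup.orderOf_coe, hx]
    obtain ⟨g, hg⟩ := isConj_iff.1 (hconj t (x : G) h.pair.t2 hx')
    have hDx : D = zpowers (x : G) := by
      symm
      apply eq_of_le_of_card_ge
      · rw [zpowers_le]; exact x.2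
      · rw [Nat.card_zpowers, hx', h2]
    have hw : g * w * g⁻¹ ∈ normalizer (D : Set G) := by
      rw [hDx, norm_invol hx', mem_centralizer_singleton_iff, ← hg]
      have := h.pair.tw
      calc g * w * g⁻¹ * (g * t * g⁻¹) = g * (w * t) * g⁻¹ := by group
        _ = g * (t * w) * g⁻¹ := by rw [this]
        _ = _ := by group
    have h4 : orderOf (g * w * g⁻¹) = r := by
      rw [← h.pair.wr]; exact MulEquiv.orderOf_eq (MulAut.conj g) w
    have h5 : r ∣ 2 * 2 := by
      rw [← h4]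
      have h6 := orderOf_dvd_natCard (⟨g * w * g⁻¹, hw⟩ : normalizer (D : Set G))
      rw [Subgroup.orderOf_mk] at h6
      exact h6.trans h3
    have h7 : r ∣ 2 := by
      rcases (Nat.Prime.dvd_mul h.pair.rp).1 h5 with h8 | h8 <;> exact h8
    exact h.pair.r2 ((Nat.prime_dvd_prime_iff_eq h.pair.rp Nat.prime_two).1 h7)
  · exfalso
    obtain ⟨H, ⟨f⟩⟩ := H17.PSL2Five.exists_A5 (F := F) hodd (by rw [hF, ← hDc, h5]; norm_num)
    have hQ11 : Nat.card Q = 11 := by omega
    exact not_eleven hP hd hQ11 (A := H.map e.symm.toMonoidHom)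
      ((H.equivMapOfInjective _ e.symm.injective).symm.trans f)
  · haveI : Fact (Nat.Prime 13) := ⟨by norm_num⟩
    obtain ⟨f⟩ := H21.PSLTransport.psl_congr_card (K := F) (L := ZMod 13) (by rw [hF, ← hDc, h6, ZMod.card]) (Fin 2)
    exact ⟨e.trans f⟩

end H68.NormMaxF
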