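import Cfsg.Agent.Lib.H68.NormMaxB
import Cfsg.Agent.Lib.H68.NormMaxC

/-!
# Normalizers maximal: case I (a Sylow 2-subgroup is the centralizer of an involution) is impossible
-/

set_option autoImplicit false
set_option linter.all false

universe u

namespace H68.NormMaxG
open Subgroup H68.NormMaxA H68.NormMaxB H68.NormMaxC

variable {G : Type u} [Group G] [Finite G]

theorem all_sylow (hI : ∃ S : Sylow 2 G, ∃ t ∈ S, orderOf t = 2 ∧ centralizer {t} = (S : Subgroup G)) (S : Sylow 2 G) :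
    ∃ t ∈ S, orderOf t = 2 ∧ centralizer {t} = (S : Subgroup G) := by
  haveI : Fact (Nat.Prime 2) := ⟨Nat.prime_two⟩
  obtain ⟨S₀, t, ht, ht2, hc⟩ := hI
  obtain ⟨g, hg⟩ := MulAction.exists_smul_eq G S₀ S
  refine ⟨g * t * g⁻¹, ?_, ?_, ?_⟩
  · rw [← hg, H68.CGroup.mem_smul_sylow]
    have : g⁻¹ * (g * t * g⁻¹) * g = t := by group
    rw [this]; exact ht
  · rw [← ht2]; exact MulEquiv.orderOf_eq (MulAut.conj g) t
  · ext x
    have e : g * t * g⁻¹ = (g⁻¹)⁻¹ * t * g⁻¹ := by group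
    rw [e, conj_mem_cent, hc]
    change g⁻¹ * x * (g⁻¹)⁻¹ ∈ S₀ ↔ x ∈ S
    rw [← hg, H68.CGroup.mem_smul_sylow, inv_inv]

theorem exists_norm {p : ℕ} [Fact p.Prime] {P U : Subgroup G} (hP : IsPGroup p P) (hUP : U ≤ P) (hne : U ≠ P) :
    ∃ x ∈ P, x ∈ normalizer (U : Set G) ∧ x ∉ U := by
  have h1 : Group.IsNilpotent P := hP.isNilpotent
  have h2 : NormalizerCondition P := Group.normalizerCondition_of_isNilpotent
  have h3 : U.subgroupOf P < ⊤ := by
    rw [lt_top_iff_ne_top, Ne, subgroupOf_eq_top]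
    intro h; exact hne (le_antisymm hUP h)
  obtain ⟨x, hx1, hx2⟩ := SetLike.exists_of_lt (h2 _ h3)
  refine ⟨x, x.2, ?_, fun h => hx2 (mem_subgroupOf.2 h)⟩
  apply mem_normalizer_fintype
  intro u hu
  have h4 := (mem_normalizer_iff.1 hx1 ⟨u, hUP hu⟩).1 (mem_subgroupOf.2 hu)
  exact mem_subgroupOf.1 h4

theorem conj_in {q : ℕ} [Fact q.Prime] {H A B : Subgroup G} (hA : A ≤ H) (hB : B ≤ H) (hAq : IsPGroup q A) (hBq : IsPGroup q B)
    (hc : ¬ q ∣ A.relIndex H) : ∃ h ∈ H, ∀ b ∈ B, h * b * h⁻¹ ∈ A := by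
  have hA' : IsPGroup q (A.subgroupOf H) := hAq.comap_subtype
  have hB' : IsPGroup q (B.subgroupOf H) := hBq.comap_subtype
  let P : Sylow q H := hA'.toSylow hc
  obtain ⟨R, hR⟩ := hB'.exists_le_sylow
  obtain ⟨h, hh⟩ := MulAction.exists_smul_eq H R P
  refine ⟨h, h.2, fun b hb => ?_⟩
  have h1 : (⟨b, hB hb⟩ : H) ∈ R := hR (mem_subgroupOf.2 hb)
  have h2 : h * ⟨b, hB hb⟩ * h⁻¹ ∈ (h • R : Sylow q H) := by
    change h * ⟨b, hB hb⟩ * h⁻¹ ∈ ((h • R : Sylow q H) : Subgroup H)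
    rw [Sylow.coe_subgroup_smul]
    exact ⟨⟨b, hB hb⟩, h1, rfl⟩
  rw [hh] at h2
  exact mem_subgroupOf.1 h2

/-- an element of odd order in terms of its square -/
theorem mem_of_sq {x : G} (ho : Odd (orderOf x)) {H : Subgroup G} (h : x * x ∈ H) : x ∈ H := by
  obtain ⟨k, hk⟩ := ho
  have h1 : x = (x * x) ^ (k + 1) := by
    have h2 := pow_orderOf_eq_one x
    rw [hk] at h2
    rw [← sq, ← pow_mul, show 2 * (k + 1) = (2 * k + 1) + 1 by ring, pow_succ, h2, one_mul]
  rw [h1]; exact pow_mem h _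

theorem mem_of_pow_two {x : G} (ho : Odd (orderOf x)) {H : Subgroup G} {a : ℕ} (h : x ^ 2 ^ a ∈ H) : x ∈ H := by
  have hc : Nat.Coprime (2 ^ a) (orderOf x) := Nat.Coprime.pow_left a (Nat.coprime_two_left.2 ho)
  have h1 : x ^ orderOf x ∈ H := by rw [pow_orderOf_eq_one]; exact one_mem _
  exact H3.LocalNPC.mem_of_pow_mem_of_coprime hc h h1

/-- `U` is a 2-subgroup with an element of odd order acting nontrivially -/
def Bad (U : Subgroup G) : Prop := IsPGroup 2 U ∧ ∃ n ∈ normalizer (U : Set G), Odd (orderOf n) ∧ ∃ u ∈ U, n * u ≠ u * n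

theorem exists_max (ft : FT.{u}) (hns : ¬ Group.IsSolvable G) : ∃ U : Subgroup G, Bad U ∧ ∀ V : Subgroup G, Bad V → Nat.card V ≤ Nat.card U := by
  obtain ⟨D, hD, g, hg, q, k, hq, hq2, ho, d, hd, hgd⟩ := exists_bad ft hns
  have h1 : Bad D := ⟨hD, g, hg, by rw [ho]; exact (hq.odd_of_ne_two hq2).pow, d, hd, hgd⟩
  obtain ⟨U, hU, hmax⟩ := Set.exists_max_image {V : Subgroup G | Bad V} (fun V => Nat.card V) (Set.toFinite _) ⟨D, h1⟩
  exact ⟨U, hU, fun V hV => hmax V hV⟩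

/-- 2-elements centralizing a maximal bad subgroup lie in it -/
theorem cent_two {U : Subgroup G} (hU : Bad U) (hmax : ∀ V : Subgroup G, Bad V → Nat.card V ≤ Nat.card U) {z : G}
    (hz : z ∈ centralizer (U : Set G)) {k : ℕ} (hk : z ^ 2 ^ k = 1) : z ∈ U := by
  haveI : Fact (Nat.Prime 2) := ⟨Nat.prime_two⟩
  obtain ⟨hU2, n, hn, hno, u, hu, hnu⟩ := hU
  let L := normalizer (U : Set G)
  let K : Subgroup L := (centralizer (U : Set G)).subgroupOf L
  have hCL : centralizer (U : Set G) ≤ L := centralizer_le_normalizer _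
  haveI hK : K.Normal := by
    refine ⟨fun c hc g => ?_⟩
    rw [mem_subgroupOf, mem_centralizer_iff] at hc ⊢
    intro x hx
    have h1 : (g : G)⁻¹ * x * g ∈ U := by
      have := (mem_normalizer_iff.1 (Subgroup.inv_mem _ g.2) x).1 hx
      rwa [inv_inv] at this
    have h2 := hc _ h1
    change x * ((g : G) * c * (g : G)⁻¹) = (g : G) * c * (g : G)⁻¹ * x
    calc x * ((g : G) * c * (g : G)⁻¹) = (g : G) * (((g : G)⁻¹ * x * g) * c) * (g : G)⁻¹ := by group
      _ = (g : G) * (c * ((g : G)⁻¹ * x * g)) * (g : G)⁻¹ := by rw [h2]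
      _ = _ := by group
  obtain ⟨P⟩ : Nonempty (Sylow 2 K) := inferInstance
  have hF := Sylow.normalizer_sup_eq_top P
  have hn' : (⟨n, hn⟩ : L) ∈ normalizer (((P : Subgroup K).map K.subtype : Subgroup L) : Set L) ⊔ K := by rw [hF]; exact mem_top _
  obtain ⟨m, hm, c, hc, hmc⟩ := (Subgroup.mem_sup_of_normal_right (t := K)).1 hn'
  let P' : Subgroup G := ((P : Subgroup K).map K.subtype).map L.subtype
  have hmP : (m : G) ∈ normalizer (P' : Set G) := by
    apply mem_normalizer_fintype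
    rintro _ ⟨x, hx, rfl⟩
    exact ⟨m * x * m⁻¹, (mem_normalizer_iff.1 hm x).1 hx, rfl⟩
  have hmc' : (m : G) = n * (c : G)⁻¹ := by
    have : (m : G) * c = n := congrArg Subtype.val hmc
    rw [← this]; group
  have hcU : ∀ x ∈ U, (c : G) * x = x * c := by
    intro x hx
    exact ((mem_centralizer_iff.1 (mem_subgroupOf.1 hc)) x hx).symm
  have hact : ∀ (i : ℕ), ∀ x ∈ U, (m : G) ^ i * x * ((m : G) ^ i)⁻¹ = n ^ i * x * (n ^ i)⁻¹ := by
    intro i
    induction i with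
    | zero => intro x _; simp
    | succ i ih =>
      intro x hx
      have h1 : (m : G) * x * (m : G)⁻¹ = n * x * n⁻¹ := by
        have h2 : (c : G)⁻¹ * x * c = x := by
          have := hcU x hx
          calc (c : G)⁻¹ * x * c = (c : G)⁻¹ * (x * c) := by group
            _ = (c : G)⁻¹ * (c * x) := by rw [this]
            _ = x := by group
        rw [hmc']
        calc n * (c : G)⁻¹ * x * (n * (c : G)⁻¹)⁻¹ = n * ((c : G)⁻¹ * x * c) * n⁻¹ := by group
          _ = _ := by rw [h2]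
      have h3 : n * x * n⁻¹ ∈ U := (mem_normalizer_iff.1 hn x).1 hx
      calc (m : G) ^ (i + 1) * x * ((m : G) ^ (i + 1))⁻¹ = (m : G) ^ i * (m * x * (m : G)⁻¹) * ((m : G) ^ i)⁻¹ := by
            rw [pow_succ]; group
        _ = (m : G) ^ i * (n * x * n⁻¹) * ((m : G) ^ i)⁻¹ := by rw [h1]
        _ = n ^ i * (n * x * n⁻¹) * (n ^ i)⁻¹ := ih _ h3
        _ = _ := by rw [pow_succ]; group
  obtain ⟨a, b, hb, hab⟩ := Nat.exists_eq_two_pow_mul_odd (n := orderOf (m : G)) (orderOf_pos _).ne'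
  set m' := (m : G) ^ 2 ^ a with hm'
  have hm'o : Odd (orderOf m') := by
    rw [hm', orderOf_pow_of_dvd (by positivity) ⟨b, by rw [hab]⟩, hab, Nat.mul_div_cancel_left _ (by positivity)]
    exact hb
  have hPC : ∀ x ∈ P', x ∈ centralizer (U : Set G) := by
    rintro _ ⟨y, ⟨x, hx, rfl⟩, rfl⟩
    exact mem_subgroupOf.1 x.2
  have hP2 : IsPGroup 2 P' := (P.isPGroup'.map _).map _
  have hUP : IsPGroup 2 (U ⊔ P' : Subgroup G) :=
    IsPGroup.to_sup_of_normal_left' hU2 hP2 (fun x hx => hCL (hPC x hx))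
  have hbad : Bad (U ⊔ P') := by
    refine ⟨hUP, m', ?_, hm'o, ?_⟩
    · have h1 : (m : G) ∈ normalizer ((U ⊔ P' : Subgroup G) : Set G) := by
        apply mem_normalizer_fintype
        intro x hx
        obtain ⟨y, hy, w, hw, rfl⟩ := (H28.Sup.mem_sup_iff (fun x hx => hCL (hPC x hx))).1 hx
        have e : (m : G) * (y * w) * (m : G)⁻¹ = ((m : G) * y * (m : G)⁻¹) * ((m : G) * w * (m : G)⁻¹) := by group
        rw [e]
        exact mul_mem_sup ((mem_normalizer_iff.1 m.2 y).1 hy) ((mem_normalizer_iff.1 hmP w).1 hw)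
      exact pow_mem h1 _
    · by_contra hcon
      push Not at hcon
      apply hnu
      have h2 : n ∈ centralizer ({u} : Set G) := by
        apply mem_of_pow_two hno (a := a)
        rw [mem_centralizer_singleton_iff]
        have h3 := hact (2 ^ a) u hu
        rw [← hm', hcon u (le_sup_left (b := P') hu), mul_inv_cancel_right] at h3
        exact mul_inv_eq_iff_eq_mul.1 h3.symm
      exact mem_centralizer_singleton_iff.1 h2
  have hle := hmax _ hbad
  have hPU : P' ≤ U := by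
    have := eq_of_le_of_card_ge (le_sup_left (a := U) (b := P')) hle
    rw [this]; exact le_sup_right
  -- now z
  let z' : K := ⟨⟨z, hCL hz⟩, mem_subgroupOf.2 hz⟩
  have hz' : IsPGroup 2 (zpowers z') := by
    have h1 : z' ^ 2 ^ k = 1 := by
      apply Subtype.ext; apply Subtype.ext; exact hk
    obtain ⟨j, hj, hj2⟩ := (Nat.dvd_prime_pow Nat.prime_two).1 (orderOf_dvd_of_pow_eq_one h1)
    exact isP_zp' hj2
  obtain ⟨R, hR⟩ := hz'.exists_le_sylow
  obtain ⟨x, hx⟩ := MulAction.exists_smul_eq K P R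
  have h2 : z' ∈ (R : Subgroup K) := hR (mem_zpowers z')
  rw [← hx, Sylow.coe_subgroup_smul] at h2
  obtain ⟨y, hy, hyz⟩ := h2
  have h3 : x * y * x⁻¹ = z' := hyz
  have h4 : (x : G) * y * (x : G)⁻¹ = z := congrArg (fun w : K => ((w : L) : G)) h3
  have h5 : ((y : L) : G) ∈ U := hPU ⟨y, ⟨y, hy, rfl⟩, rfl⟩
  have h6 : ((x : L) : G) * y = y * x := ((mem_centralizer_iff.1 (mem_subgroupOf.1 x.2)) _ h5).symm
  rw [h6] at h4
  rw [← h4]
  have : ((y : L) : G) * x * (x : G)⁻¹ = y := by group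
  rw [this]; exact h5

end H68.NormMaxG
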