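import Cfsg.Agent.Lib.H68.NormMaxG

/-!
# Normalizers maximal: case I (a Sylow 2-subgroup is the centralizer of an involution) is impossible
-/

set_option autoImplicit false
set_option linter.all false

universe u

namespace H68.NormMaxH
open Subgroup H68.NormMaxA H68.NormMaxB H68.NormMaxC H68.NormMaxG

variable {G : Type u} [Group G] [Finite G]

/-- the set-up of case I -/
structure Dat (U : Subgroup G) (S : Sylow 2 G) (t y : G) (q : ℕ) : Prop where
  hP : HP G
  U2 : IsPGroup 2 U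
  US : U ≤ (S : Subgroup G)
  tS : t ∈ S
  t2 : orderOf t = 2
  Ct : centralizer {t} = (S : Subgroup G)
  tU : t ∈ U
  cent : ∀ z ∈ centralizer (U : Set G), (∃ k : ℕ, z ^ 2 ^ k = 1) → z ∈ U
  yN : y ∈ normalizer (U : Set G)
  qp : q.Prime
  q2 : q ≠ 2
  yq : orderOf y = q
  sylow : ∀ S : Sylow 2 G, ∃ t ∈ S, orderOf t = 2 ∧ centralizer {t} = (S : Subgroup G)

theorem exists_dat (ft : FT.{u}) (hns : ¬ Group.IsSolvable G) (hP : HP G)
    (hI : ∃ S : Sylow 2 G, ∃ t ∈ S, orderOf t = 2 ∧ centralizer {t} = (S : Subgroup G)) :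
    ∃ (U : Subgroup G) (S : Sylow 2 G) (t y : G) (q : ℕ), Dat U S t y q := by
  haveI : Fact (Nat.Prime 2) := ⟨Nat.prime_two⟩
  obtain ⟨U, hU, hmax⟩ := exists_max ft hns
  obtain ⟨S, hS⟩ := hU.1.exists_le_sylow
  obtain ⟨t, ht, ht2, hc⟩ := all_sylow hI S
  obtain ⟨hU2, n, hn, hno, u, hu, hnu⟩ := id hU
  have hn1 : n ≠ 1 := by rintro rfl; apply hnu; simp
  -- a prime divisor of the order of `n`
  obtain ⟨q, hq, hqn⟩ := Nat.exists_prime_and_dvd (n := orderOf n) (by rw [Ne, orderOf_eq_one_iff]; exact hn1)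
  obtain ⟨m, hm⟩ := hqn
  have hm0 : m ≠ 0 := by rintro rfl; rw [mul_zero] at hm; exact (orderOf_pos n).ne' hm
  have hcent : ∀ z ∈ centralizer (U : Set G), (∃ k : ℕ, z ^ 2 ^ k = 1) → z ∈ U := by
    rintro z hz ⟨k, hk⟩
    exact cent_two hU hmax hz hk
  refine ⟨U, S, t, n ^ m, q, hP, hU2, hS, ht, ht2, hc, ?_, hcent, pow_mem hn _, hq, ?_, ?_, all_sylow hI⟩
  · apply hcent
    · rw [mem_centralizer_iff]
      intro x hx
      have h1 : x ∈ centralizer ({t} : Set G) := by rw [hc]; exact hS hx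
      exact mem_centralizer_singleton_iff.1 h1
    · exact ⟨1, by rw [pow_one, ← ht2, pow_orderOf_eq_one]⟩
  · rintro rfl
    rw [hm] at hno
    exact absurd hno (by simp)
  · rw [orderOf_pow_of_dvd hm0 (by rw [hm]; exact Dvd.intro_left q rfl), hm, Nat.mul_div_cancel _ (Nat.pos_of_ne_zero hm0)]

namespace Dat

variable {U : Subgroup G} {S : Sylow 2 G} {t y : G} {q : ℕ} (d : Dat U S t y q)
include d

theorem fq : Fact q.Prime := ⟨d.qp⟩

theorem U_ne : U ≠ ⊥ := by
  intro h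
  have := d.tU
  rw [h, mem_bot] at this
  exact ne_one_of_two d.t2 this

theorem coM : IsCoatom (normalizer (U : Set G)) := by
  haveI : Fact (Nat.Prime 2) := ⟨Nat.prime_two⟩
  exact d.hP U d.U_ne (two_p d.U2)

theorem tt : t * t = 1 := by have := pow_orderOf_eq_one t; rwa [d.t2, sq] at this

theorem t_comm_U {u : G} (hu : u ∈ U) : u * t = t * u := by
  have h1 : u ∈ centralizer ({t} : Set G) := by rw [d.Ct]; exact d.US hu
  exact mem_centralizer_singleton_iff.1 h1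

/-- odd elements do not commute with `t` -/
theorem not_comm {z : G} {s : ℕ} (hs : s.Prime) (hs2 : s ≠ 2) (hz : orderOf z = s) : z * t ≠ t * z := by
  intro h
  have h1 : z ∈ (S : Subgroup G) := by rw [← d.Ct, mem_centralizer_singleton_iff]; exact h
  obtain ⟨k, hk⟩ := exists_pow S.isPGroup' h1
  have h2 := orderOf_dvd_of_pow_eq_one hk
  rw [hz] at h2
  exact hs2 ((Nat.prime_dvd_prime_iff_eq hs Nat.prime_two).1 (hs.dvd_of_dvd_pow h2))

/-- an element of odd prime order in `M` acts fixed point freely on `U` -/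
theorem fpf {z : G} {s : ℕ} (hs : s.Prime) (hs2 : s ≠ 2) (hz : orderOf z = s) (hzN : z ∈ normalizer (U : Set G))
    {u : G} (hu : u ∈ U) (huz : u * z = z * u) : u = 1 := by
  haveI : Fact (Nat.Prime 2) := ⟨Nat.prime_two⟩
  haveI : Fact s.Prime := ⟨hs⟩
  by_contra hu1
  have hzu : IsPGroup 2 (zpowers u) := d.U2.to_le (by rw [zpowers_le]; exact hu)
  have hne : zpowers u ≠ ⊥ := by rw [Ne, zpowers_eq_bot]; exact hu1
  have h1 := norm_eq d.hP (Ne.symm hs2) hzu (isP_zp hz) (comm_zp huz) hne (zp_ne hs hz)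
  have h2 : t ∈ normalizer ((zpowers u : Subgroup G) : Set G) := by
    apply mem_normalizer_fintype
    intro x hx
    have h3 : x ∈ U := (zpowers_le.2 hu) hx
    have h4 := d.t_comm_U h3
    rw [← h4]
    have : x * t * t⁻¹ = x := by group
    rw [this]; exact hx
  rw [h1] at h2
  exact d.not_comm hs hs2 hz (comm_of_norm (Ne.symm hs2) d.U2 (isP_zp hz) d.tU (mem_zpowers z) h2 hzN).symm

theorem inf_norm {u : G} (hu : u ∈ U) (hN : u ∈ normalizer ((zpowers y : Subgroup G) : Set G)) : u = 1 := by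
  haveI : Fact (Nat.Prime 2) := ⟨Nat.prime_two⟩
  haveI := d.fq
  exact d.fpf d.qp d.q2 d.yq d.yN hu (comm_of_norm (Ne.symm d.q2) d.U2 (isP_zp d.yq) hu (mem_zpowers y) hN d.yN)

theorem y_norm {A : Subgroup G} (hA : y ∈ normalizer (A : Set G)) : zpowers y ≤ normalizer (A : Set G) := by
  rw [zpowers_le]; exact hA

/-- `N(A⟨y⟩) ≤ N(A)` -/
theorem sup_norm_le {A : Subgroup G} (hAU : A ≤ U) (hA : y ∈ normalizer (A : Set G)) :
    normalizer ((A ⊔ zpowers y : Subgroup G) : Set G) ≤ normalizer (A : Set G) := by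
  haveI : Fact (Nat.Prime 2) := ⟨Nat.prime_two⟩
  haveI := d.fq
  intro g hg
  apply mem_normalizer_fintype
  intro a ha
  have h1 := (mem_normalizer_iff.1 hg a).1 (le_sup_left (a := A) ha)
  obtain ⟨k, hk⟩ := exists_pow (d.U2.to_le hAU) ha
  have hk' : (g * a * g⁻¹) ^ 2 ^ k = 1 := by rw [conj_pow, hk]; group
  -- modulo `A` the element is a power of `y`
  obtain ⟨b, hb, w, hw, hbw⟩ := (H28.Sup.mem_sup_iff (d.y_norm hA)).1 h1
  have hpow : ∀ n : ℕ, ∃ b' ∈ A, (g * a * g⁻¹) ^ n = b' * w ^ n := by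
    intro n
    induction n with
    | zero => exact ⟨1, one_mem _, by simp⟩
    | succ n ih =>
      obtain ⟨b', hb', h2⟩ := ih
      have hwn : w ^ n ∈ normalizer (A : Set G) := d.y_norm hA (pow_mem hw n)
      refine ⟨b' * (w ^ n * b * (w ^ n)⁻¹), mul_mem hb' ((mem_normalizer_iff.1 hwn b).1 hb), ?_⟩
      rw [pow_succ, h2, hbw, pow_succ]; group
  obtain ⟨b', hb', h2⟩ := hpow (2 ^ k)
  rw [hk'] at h2
  have h3 : w ^ 2 ^ k ∈ A := by
    have : w ^ 2 ^ k = b'⁻¹ := eq_inv_of_mul_eq_one_right h2.symm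
    rw [this]; exact Subgroup.inv_mem _ hb'
  have h4 : w ^ 2 ^ k = 1 := disj (Ne.symm d.q2) (d.U2.to_le hAU) (isP_zp d.yq) h3 (pow_mem hw _)
  obtain ⟨j, hj⟩ := exists_pow (isP_zp d.yq) hw
  have h5 := eq_one_of_coprime Nat.prime_two d.qp (Ne.symm d.q2) h4 hj
  rw [hbw, h5, mul_one]; exact hb

theorem coatom_sup {A : Subgroup G} (hAU : A ≤ U) (hA : y ∈ normalizer (A : Set G)) :
    IsCoatom (normalizer ((A ⊔ zpowers y : Subgroup G) : Set G)) := by
  haveI : Fact (Nat.Prime 2) := ⟨Nat.prime_two⟩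
  haveI := d.fq
  apply d.hP
  · intro h
    exact zp_ne d.qp d.yq (le_bot_iff.1 (h ▸ le_sup_right))
  · exact two_sup (d.U2.to_le hAU) (isP_zp d.yq) (d.y_norm hA)

theorem sup_norm_eq {A : Subgroup G} (hAU : A ≤ U) (hA1 : A ≠ ⊥) (hA : y ∈ normalizer (A : Set G)) :
    normalizer ((A ⊔ zpowers y : Subgroup G) : Set G) = normalizer (A : Set G) := by
  haveI : Fact (Nat.Prime 2) := ⟨Nat.prime_two⟩
  apply eq_of_le (d.coatom_sup hAU hA) (d.sup_norm_le hAU hA)
  exact (d.hP A hA1 (two_p (d.U2.to_le hAU))).1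

/-- Frattini -/
theorem frat {A : Subgroup G} (hAU : A ≤ U) (hA : y ∈ normalizer (A : Set G)) {g : G}
    (hg : g ∈ normalizer ((A ⊔ zpowers y : Subgroup G) : Set G)) :
    ∃ a ∈ A, ∃ m ∈ normalizer ((zpowers y : Subgroup G) : Set G), g = a * m := by
  haveI : Fact (Nat.Prime 2) := ⟨Nat.prime_two⟩
  haveI := d.fq
  set H := A ⊔ zpowers y with hH
  have hy : y ∈ H := le_sup_right (a := A) (mem_zpowers y)
  have h1 : zpowers (g * y * g⁻¹) ≤ H := by rw [zpowers_le]; exact (mem_normalizer_iff.1 hg y).1 hy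
  have h2 : orderOf (g * y * g⁻¹) = q := by rw [← d.yq]; exact MulEquiv.orderOf_eq (MulAut.conj g) y
  have hrel : ¬ q ∣ (zpowers y).relIndex H := by
    have h3 := H3.CardSup.card_sup_mul_card_inf (zpowers y) A (d.y_norm hA)
    rw [sup_comm, ← hH] at h3
    have h4 : Nat.card (zpowers y) * (zpowers y).relIndex H = Nat.card H := by
      have := relIndex_mul_relIndex ⊥ (zpowers y) H bot_le (le_sup_right (a := A) (b := zpowers y))
      rwa [relIndex_bot_left, relIndex_bot_left] at this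
    have h5 : (zpowers y).relIndex H * Nat.card (zpowers y ⊓ A : Subgroup G) = Nat.card A := by
      have hpos : 0 < Nat.card (zpowers y) := Nat.card_pos
      apply Nat.eq_of_mul_eq_mul_left hpos
      rw [← mul_assoc, h4, h3]
    intro h6
    have h7 : q ∣ Nat.card A := by rw [← h5]; exact h6.mul_right _
    obtain ⟨k, hk⟩ := IsPGroup.iff_card.1 (d.U2.to_le hAU)
    rw [hk] at h7
    exact d.q2 ((Nat.prime_dvd_prime_iff_eq d.qp Nat.prime_two).1 (d.qp.dvd_of_dvd_pow h7))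
  obtain ⟨h, hh, hconj⟩ := conj_in (q := q) (le_sup_right (a := A) (b := zpowers y)) h1 (isP_zp d.yq) (isP_zp h2) hrel
  have h3 : h * g ∈ normalizer ((zpowers y : Subgroup G) : Set G) := by
    apply mem_normalizer_fintype
    rintro _ ⟨i, rfl⟩
    have h4 := hconj ((g * y * g⁻¹) ^ i) (zpow_mem (mem_zpowers _) i)
    rw [conj_zpow] at h4
    have e : h * g * y ^ i * (h * g)⁻¹ = h * (g * y ^ i * g⁻¹) * h⁻¹ := by group
    change h * g * y ^ i * (h * g)⁻¹ ∈ zpowers y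
    rw [e]; exact h4
  obtain ⟨a, ha, w, hw, haw⟩ := (H28.Sup.mem_sup_iff (d.y_norm hA)).1 (Subgroup.inv_mem _ hh)
  refine ⟨a, ha, w * (h * g), mul_mem (le_normalizer hw) h3, ?_⟩
  have : h⁻¹ = a * w := haw
  calc g = h⁻¹ * (h * g) := by group
    _ = _ := by rw [this]; group

/-- `U` has no proper nontrivial `y`-invariant subgroups -/
theorem irred {A : Subgroup G} (hAU : A ≤ U) (hA1 : A ≠ ⊥) (hA : y ∈ normalizer (A : Set G)) : A = U := by
  haveI : Fact (Nat.Prime 2) := ⟨Nat.prime_two⟩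
  by_contra hne
  obtain ⟨x, hxU, hxN, hxA⟩ := exists_norm d.U2 hAU hne
  rw [← d.sup_norm_eq hAU hA1 hA] at hxN
  obtain ⟨a, ha, m, hm, hx⟩ := d.frat hAU hA hxN
  have h1 : m ∈ U := by
    have : m = a⁻¹ * x := by rw [hx]; group
    rw [this]; exact mul_mem (Subgroup.inv_mem _ (hAU ha)) hxU
  have h2 := d.inf_norm h1 hm
  rw [hx, h2, mul_one] at hxA
  exact hxA ha

theorem ZS_eq : ZS U = U := by
  apply d.irred (ZS_le U)
  · intro h
    have h1 : t ∈ ZS U := ⟨d.tU, fun s hs => d.t_comm_U hs, d.tt⟩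
    rw [h, mem_bot] at h1
    exact ne_one_of_two d.t2 h1
  · exact norm_le_ZS U d.yN

theorem comm_U {a b : G} (ha : a ∈ U) (hb : b ∈ U) : a * b = b * a := by
  rw [← d.ZS_eq] at hb
  exact hb.2.1 a ha

theorem sq_U {a : G} (ha : a ∈ U) : a * a = 1 := by
  rw [← d.ZS_eq] at ha
  exact ha.2.2

/-- `U` is a proper subgroup of `S` -/
theorem U_ne_S : U ≠ (S : Subgroup G) := by
  haveI : Fact (Nat.Prime 2) := ⟨Nat.prime_two⟩
  intro h
  have h1 : (S : Subgroup G) = normalizer ((S : Subgroup G) : Set G) := by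
    apply eq_of_le
    · rw [← d.Ct]; exact cent_coatom d.hP d.t2
    · exact le_normalizer
    · rw [← h]; exact d.coM.1
  have h2 := d.yN
  rw [h, ← h1, ← d.Ct, mem_centralizer_singleton_iff] at h2
  exact d.not_comm d.qp d.q2 d.yq h2

theorem exists_j : ∃ j : G, orderOf j = 2 ∧ j ∈ S ∧ j ∈ normalizer (U : Set G) ∧ j ∈ normalizer ((zpowers y : Subgroup G) : Set G) ∧
    j * y * j⁻¹ = y⁻¹ ∧ j ∉ U := by
  haveI : Fact (Nat.Prime 2) := ⟨Nat.prime_two⟩
  obtain ⟨x, hxS, hxN, hxU⟩ := exists_norm S.isPGroup' d.US d.U_ne_S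
  have hxN' := hxN
  rw [← d.sup_norm_eq le_rfl d.U_ne d.yN] at hxN'
  obtain ⟨a, ha, m, hm, hx⟩ := d.frat le_rfl d.yN hxN'
  have hm' : m = a⁻¹ * x := by rw [hx]; group
  have hmS : m ∈ (S : Subgroup G) := by rw [hm']; exact mul_mem (Subgroup.inv_mem _ (d.US ha)) hxS
  have hmN : m ∈ normalizer (U : Set G) := by
    rw [hm']; exact mul_mem (Subgroup.inv_mem _ (le_normalizer ha)) hxN
  have hm1 : m ≠ 1 := by
    rintro rfl
    rw [mul_one] at hx
    exact hxU (hx ▸ ha)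
  obtain ⟨i, hi⟩ := exists_pow_two S.isPGroup' hmS hm1
  have hjN : m ^ i ∈ normalizer ((zpowers y : Subgroup G) : Set G) := pow_mem hm i
  have hjS : m ^ i ∈ (S : Subgroup G) := pow_mem hmS i
  have hjU : m ^ i ∉ U := by
    intro h
    have := d.inf_norm h hjN
    exact ne_one_of_two hi this
  refine ⟨m ^ i, hi, hjS, pow_mem hmN i, hjN, ?_, hjU⟩
  have hsq : m ^ i * m ^ i = 1 := by have := pow_orderOf_eq_one (m ^ i); rwa [hi, sq] at this
  rcases inv_or_comm d.qp d.yq hsq hjN with h1 | h1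
  · exfalso
    have h2 := cent_eq' d.hP hi d.qp d.q2 d.yq h1
    have h3 : t ∈ normalizer ((zpowers y : Subgroup G) : Set G) := by
      rw [h2, mem_centralizer_singleton_iff]
      have h4 : m ^ i ∈ centralizer ({t} : Set G) := by rw [d.Ct]; exact hjS
      exact (mem_centralizer_singleton_iff.1 h4).symm
    exact ne_one_of_two d.t2 (d.inf_norm d.tU h3)
  · exact h1

end Dat

end H68.NormMaxH
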