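import Cfsg.Agent.Lib.H68.NormMaxH

/-!
# Normalizers maximal: case I (a Sylow 2-subgroup is the centralizer of an involution) is impossible
-/

set_option autoImplicit false
set_option linter.all false

universe u

namespace H68.NormMaxI
open Subgroup H68.NormMaxA H68.NormMaxB H68.NormMaxC H68.NormMaxG H68.NormMaxH

variable {G : Type u} [Group G] [Finite G]

structure Dat2 (U : Subgroup G) (S : Sylow 2 G) (t y j : G) (q : ℕ) : Prop where
  d : Dat U S t y q
  j2 : orderOf j = 2
  jS : j ∈ S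
  jN : j ∈ normalizer (U : Set G)
  jNy : j ∈ normalizer ((zpowers y : Subgroup G) : Set G)
  inv : j * y * j⁻¹ = y⁻¹
  jU : j ∉ U

namespace Dat2

variable {U : Subgroup G} {S : Sylow 2 G} {t y j : G} {q : ℕ} (e : Dat2 U S t y j q)
include e

theorem jj : j * j = 1 := by have := pow_orderOf_eq_one j; rwa [e.j2, sq] at this

theorem zj_norm : zpowers j ≤ normalizer (U : Set G) := by rw [zpowers_le]; exact e.jN

theorem mem_T {x : G} : x ∈ U ⊔ zpowers j ↔ x ∈ U ∨ ∃ u ∈ U, x = u * j := by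
  rw [H28.Sup.mem_sup_iff e.zj_norm]
  constructor
  · rintro ⟨u, hu, s, hs, rfl⟩
    rcases (mem_zp_iff e.j2).1 hs with rfl | rfl
    · left; simpa using hu
    · right; exact ⟨u, hu, rfl⟩
  · rintro (hx | ⟨u, hu, rfl⟩)
    · exact ⟨x, hx, 1, one_mem _, (mul_one x).symm⟩
    · exact ⟨u, hu, j, mem_zpowers j, rfl⟩

theorem card_T : Nat.card (U ⊔ zpowers j : Subgroup G) = 2 * Nat.card U := by
  have h1 := H3.CardSup.card_sup_mul_card_inf (zpowers j) U e.zj_norm
  have h2 : zpowers j ⊓ U = ⊥ := by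
    rw [eq_bot_iff]
    rintro x ⟨hx1, hx2⟩
    rcases (mem_zp_iff e.j2).1 hx1 with rfl | rfl
    · exact one_mem _
    · exact absurd hx2 e.jU
  rw [h2, card_bot, mul_one, Nat.card_zpowers, e.j2, sup_comm] at h1
  exact h1

theorem T_two : IsPGroup 2 (U ⊔ zpowers j : Subgroup G) := by
  haveI : Fact (Nat.Prime 2) := ⟨Nat.prime_two⟩
  exact IsPGroup.to_sup_of_normal_left' e.d.U2 (isP_zp e.j2) e.zj_norm

theorem T_ne : U ⊔ zpowers j ≠ ⊥ := by
  intro h
  exact e.d.U_ne (le_bot_iff.1 (h ▸ le_sup_left))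

theorem not_mem_two {P : Subgroup G} (hP : IsPGroup 2 P) : y ∉ P := by
  intro h
  obtain ⟨k, hk⟩ := exists_pow hP h
  have h2 := orderOf_dvd_of_pow_eq_one hk
  rw [e.d.yq] at h2
  exact e.d.q2 ((Nat.prime_dvd_prime_iff_eq e.d.qp Nat.prime_two).1 (e.d.qp.dvd_of_dvd_pow h2))

theorem odd_y : Odd (orderOf y) := by rw [e.d.yq]; exact e.d.qp.odd_of_ne_two e.d.q2

theorem exists_g : ∃ g ∈ normalizer ((U ⊔ zpowers j : Subgroup G) : Set G), ∃ u ∈ U, g * u * g⁻¹ ∉ U := by
  haveI : Fact (Nat.Prime 2) := ⟨Nat.prime_two⟩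
  by_contra hcon
  push Not at hcon
  have h1 : normalizer ((U ⊔ zpowers j : Subgroup G) : Set G) ≤ normalizer (U : Set G) := by
    intro g hg
    exact mem_normalizer_fintype (fun u hu => hcon g hg u hu)
  have h2 := eq_of_le (e.d.hP _ e.T_ne (two_p e.T_two)) h1 e.d.coM.1
  have h3 := e.d.yN
  rw [← h2] at h3
  have h4 : y * y ∈ U ⊔ zpowers j := by
    have h5 : y * j * y⁻¹ ∈ U ⊔ zpowers j := (mem_normalizer_iff.1 h3 j).1 (le_sup_right (a := U) (mem_zpowers j))
    have h6 : y * j * y⁻¹ * j⁻¹ = y * y := by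
      have : y⁻¹ = j * y * j⁻¹ := e.inv.symm
      calc y * j * y⁻¹ * j⁻¹ = y * (j * y⁻¹ * j⁻¹) := by group
        _ = y * (j * y * j⁻¹)⁻¹ := by group
        _ = y * y := by rw [e.inv, inv_inv]
    rw [← h6]
    exact mul_mem h5 (Subgroup.inv_mem _ (le_sup_right (a := U) (mem_zpowers j)))
  exact e.not_mem_two e.T_two (mem_of_sq e.odd_y h4)

theorem card_map_conj (A : Subgroup G) (g : G) : Nat.card (A.map (MulAut.conj g).toMonoidHom) = Nat.card A :=
  (Nat.card_congr (A.equivMapOfInjective _ (MulAut.conj g).injective).toEquiv).symm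

theorem card_le : Nat.card U ≤ 2 * Nat.card (U ⊓ centralizer {j} : Subgroup G) := by
  obtain ⟨g, hg, u, hu, hgu⟩ := e.exists_g
  set V := U.map (MulAut.conj g).toMonoidHom with hV
  have hVT : V ≤ U ⊔ zpowers j := by
    rintro _ ⟨x, hx, rfl⟩
    exact (mem_normalizer_iff.1 hg x).1 (le_sup_left (b := zpowers j) hx)
  have hTU : U ⊔ zpowers j ≤ normalizer (U : Set G) := sup_le le_normalizer e.zj_norm
  have h1 := H3.CardSup.card_sup_mul_card_inf V U (hVT.trans hTU)
  rw [hV, e.card_map_conj, ← hV] at h1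
  have h2 : Nat.card (V ⊔ U : Subgroup G) ≤ 2 * Nat.card U := by
    rw [← e.card_T]
    exact Nat.card_le_card_of_injective _ (inclusion_injective (sup_le hVT (le_sup_left (b := zpowers j))))
  have h3 : V ⊓ U ≤ U ⊓ centralizer {j} := by
    rintro c ⟨⟨c', hc', hcc⟩, hc⟩
    refine ⟨hc, ?_⟩
    change g * c' * g⁻¹ = c at hcc
    rcases e.mem_T.1 (hVT ⟨u, hu, rfl⟩) with h4 | ⟨a, ha, h4⟩
    · exact absurd h4 hgu
    · change g * u * g⁻¹ = a * j at h4
      have h5 : c * (a * j) = (a * j) * c := by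
        rw [← hcc, ← h4]
        calc g * c' * g⁻¹ * (g * u * g⁻¹) = g * (c' * u) * g⁻¹ := by group
          _ = g * (u * c') * g⁻¹ := by rw [e.d.comm_U hc' hu]
          _ = _ := by group
      have h6 : a * (c * j) = a * (j * c) := by
        calc a * (c * j) = (a * c) * j := by group
          _ = c * (a * j) := by rw [e.d.comm_U ha hc]; group
          _ = a * (j * c) := by rw [h5]; group
      exact mem_centralizer_singleton_iff.2 (mul_left_cancel h6)
  have h4 : Nat.card (V ⊓ U : Subgroup G) ≤ Nat.card (U ⊓ centralizer {j} : Subgroup G) :=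
    Nat.card_le_card_of_injective _ (inclusion_injective h3)
  have h5 : 0 < Nat.card U := Nat.card_pos
  have h6 : Nat.card U * Nat.card U ≤ (2 * Nat.card U) * Nat.card (U ⊓ centralizer {j} : Subgroup G) := by
    rw [← h1]
    exact Nat.mul_le_mul h2 h4
  have h7 : Nat.card U * Nat.card U ≤ Nat.card U * (2 * Nat.card (U ⊓ centralizer {j} : Subgroup G)) := by
    calc _ ≤ _ := h6
      _ = _ := by ring
  exact Nat.le_of_mul_le_mul_left h7 h5

theorem card_sq_le : Nat.card (U ⊓ centralizer {j} : Subgroup G) * Nat.card (U ⊓ centralizer {j} : Subgroup G) ≤ Nat.card U := by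
  set C := U ⊓ centralizer ({j} : Set G) with hC
  set C' := C.map (MulAut.conj y).toMonoidHom with hC'
  have hCU : C ≤ U := inf_le_left
  have hC'U : C' ≤ U := by
    rintro _ ⟨x, hx, rfl⟩
    exact (mem_normalizer_iff.1 e.d.yN x).1 (hCU hx)
  have hn : C' ≤ normalizer (C : Set G) := by
    intro x hx
    apply mem_normalizer_fintype
    intro c hc
    have h1 := e.d.comm_U (hC'U hx) (hCU hc)
    rw [h1, mul_inv_cancel_right]; exact hc
  have h1 := H3.CardSup.card_sup_mul_card_inf C' C hn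
  have h2 : C' ⊓ C = ⊥ := by
    rw [eq_bot_iff]
    rintro c ⟨⟨c', hc', hcc⟩, hc⟩
    change y * c' * y⁻¹ = c at hcc
    have h3 : c * j = j * c := mem_centralizer_singleton_iff.1 hc.2
    have h4 : c' * j = j * c' := mem_centralizer_singleton_iff.1 hc'.2
    -- `c` commutes with `y j y⁻¹ = y² j`
    have h5 : c * (y * j * y⁻¹) = (y * j * y⁻¹) * c := by
      rw [← hcc]
      calc y * c' * y⁻¹ * (y * j * y⁻¹) = y * (c' * j) * y⁻¹ := by group
        _ = y * (j * c') * y⁻¹ := by rw [h4]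
        _ = _ := by group
    have h6 : y * j * y⁻¹ = y * y * j := by
      calc y * j * y⁻¹ = y * (j * y⁻¹ * j⁻¹) * j := by group
        _ = y * (j * y * j⁻¹)⁻¹ * j := by group
        _ = y * y * j := by rw [e.inv, inv_inv]
    rw [h6] at h5
    have h7 : (c * (y * y)) * j = ((y * y) * c) * j := by
      calc (c * (y * y)) * j = c * (y * y * j) := by group
        _ = y * y * (j * c) := by rw [h5]; group
        _ = y * y * (c * j) := by rw [h3]
        _ = _ := by group
    have h8 : c * (y * y) = (y * y) * c := mul_right_cancel h7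
    have h9 : y ∈ centralizer ({c} : Set G) := by
      apply mem_of_sq e.odd_y
      rw [mem_centralizer_singleton_iff]; exact h8.symm
    rw [mem_centralizer_singleton_iff] at h9
    exact mem_bot.2 (e.d.fpf e.d.qp e.d.q2 e.d.yq e.d.yN hc.1 h9.symm)
  rw [h2, card_bot, mul_one, hC', e.card_map_conj, ← hC'] at h1
  rw [← h1]
  exact Nat.card_le_card_of_injective _ (inclusion_injective (sup_le hC'U hCU))

theorem card_U : Nat.card U = 4 := by
  have h1 := e.card_le
  have h2 := e.card_sq_le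
  have h3 : Nat.card U ≤ 4 := by
    have h4 : 0 < Nat.card U := Nat.card_pos
    by_contra h5
    push Not at h5
    nlinarith
  obtain ⟨k, hk⟩ := IsPGroup.iff_card.1 e.d.U2
  have hty : y * t * y⁻¹ ∈ U := (mem_normalizer_iff.1 e.d.yN t).1 e.d.tU
  have ht1 := ne_one_of_two e.d.t2
  have hne : y * t * y⁻¹ ≠ t := by
    intro h
    exact e.d.not_comm e.d.qp e.d.q2 e.d.yq (mul_inv_eq_iff_eq_mul.1 h)
  have hk2 : 2 ≤ k := by
    by_contra hcon
    have h5 : Nat.card U ≤ 2 := by
      rw [hk]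
      calc 2 ^ k ≤ 2 ^ 1 := Nat.pow_le_pow_right (by norm_num) (by omega)
        _ = 2 := by norm_num
    have h6 : ({1, t, y * t * y⁻¹} : Set G) ⊆ (U : Set G) := by
      rintro x (rfl | rfl | rfl)
      · exact one_mem _
      · exact e.d.tU
      · exact hty
    have h7 := Set.ncard_le_ncard h6 (Set.toFinite _)
    rw [Set.ncard_insert_of_notMem, Set.ncard_pair hne.symm] at h7
    · have h8 : Nat.card U = (U : Set G).ncard := Nat.card_coe_set_eq _
      omega
    · simp only [Set.mem_insert_iff, Set.mem_singleton_iff]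
      push Not
      refine ⟨ht1.symm, ?_⟩
      intro h; exact ht1 (conj_eq_one_iff.1 h.symm)
  have h8 : 2 ^ 2 ≤ 2 ^ k := Nat.pow_le_pow_right (by norm_num) hk2
  rw [← hk] at h8
  omega

theorem q_three : q = 3 := by
  have ht1 := ne_one_of_two e.d.t2
  have hnc := fun {z : G} {s : ℕ} (hs : s.Prime) (hs2 : s ≠ 2) (hz : orderOf z = s) => e.d.not_comm hs hs2 hz
  have hyc := e.d.not_comm e.d.qp e.d.q2 e.d.yq
  set t1 := y * t * y⁻¹ with ht1def
  have ht1U : t1 ∈ U := (mem_normalizer_iff.1 e.d.yN t).1 e.d.tU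
  set t2 := y * t1 * y⁻¹ with ht2def
  have ht2U : t2 ∈ U := (mem_normalizer_iff.1 e.d.yN t1).1 ht1U
  have h1 : t1 ≠ t := fun h => hyc (mul_inv_eq_iff_eq_mul.1 h)
  have h2 : t2 ≠ t1 := by
    intro h
    rw [ht2def] at h
    have h' : y * t1 * y⁻¹ = y * t * y⁻¹ := h
    exact h1 (mul_left_cancel (mul_right_cancel h'))
  have h3 : t2 ≠ t := by
    intro h
    apply hyc
    have h4 : y ∈ centralizer ({t} : Set G) := by
      apply mem_of_sq e.odd_y
      rw [mem_centralizer_singleton_iff]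
      have h5 : y * y * t * (y * y)⁻¹ = t2 := by
        rw [ht2def, ht1def]; simp only [mul_inv_rev, mul_assoc]
      rw [h] at h5
      exact mul_inv_eq_iff_eq_mul.1 h5
    exact mem_centralizer_singleton_iff.1 h4
  have ht1ne : t1 ≠ 1 := by rw [ht1def, Ne, conj_eq_one_iff]; exact ht1
  have ht2ne : t2 ≠ 1 := by rw [ht2def, Ne, conj_eq_one_iff]; exact ht1ne
  -- `U = {1, t, t1, t2}`, so `t2 = t * t1`
  have h5 : t2 = t * t1 := by
    by_contra h6
    have htt1 : t * t1 ∈ U := mul_mem e.d.tU ht1U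
    have h7 : ({1, t, t1, t2, t * t1} : Set G) ⊆ (U : Set G) := by
      rintro x (rfl | rfl | rfl | rfl | rfl)
      · exact one_mem _
      · exact e.d.tU
      · exact ht1U
      · exact ht2U
      · exact htt1
    have h8 := Set.ncard_le_ncard h7 (Set.toFinite _)
    have h9 : Nat.card U = (U : Set G).ncard := Nat.card_coe_set_eq _
    rw [Set.ncard_insert_of_notMem, Set.ncard_insert_of_notMem, Set.ncard_insert_of_notMem, Set.ncard_pair h6] at h8
    · have := e.card_U
      omega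
    · simp only [Set.mem_insert_iff, Set.mem_singleton_iff]
      push Not
      exact ⟨h2.symm, fun h => ht1 (by simpa using h)⟩
    · simp only [Set.mem_insert_iff, Set.mem_singleton_iff]
      push Not
      exact ⟨h1.symm, h3.symm, fun h => ht1ne (by simpa using h)⟩
    · simp only [Set.mem_insert_iff, Set.mem_singleton_iff]
      push Not
      refine ⟨ht1.symm, ht1ne.symm, ht2ne.symm, ?_⟩
      intro h
      apply h1
      have : t1 = t⁻¹ := eq_inv_of_mul_eq_one_right h.symm
      rw [this, tinv e.d.t2]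
  have h6 : y * t2 * y⁻¹ = t := by
    have h7 : y * (t * t1) * y⁻¹ = t1 * t2 := by rw [ht2def, ht1def]; group
    rw [h5, h7, h5, ← mul_assoc, e.d.comm_U ht1U e.d.tU, mul_assoc, e.d.sq_U ht1U, mul_one]
  have h7 : y ^ 3 * t = t * y ^ 3 := by
    have : y ^ 3 * t * (y ^ 3)⁻¹ = t := by
      calc y ^ 3 * t * (y ^ 3)⁻¹ = y * (y * (y * t * y⁻¹) * y⁻¹) * y⁻¹ := by
            simp only [pow_succ, pow_zero, one_mul, mul_inv_rev, mul_assoc]
        _ = t := h6
    exact mul_inv_eq_iff_eq_mul.1 this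
  by_contra hq3
  have h8 : Nat.Coprime (orderOf y) 3 := by
    rw [e.d.yq]; exact (Nat.coprime_primes e.d.qp Nat.prime_three).2 hq3
  have h9 : orderOf (y ^ 3) = q := by rw [Nat.Coprime.orderOf_pow h8, e.d.yq]
  exact e.d.not_comm e.d.qp e.d.q2 h9 h7

end Dat2

end H68.NormMaxI
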