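import Cfsg.Agent.Lib.H68.NormMaxI

/-!
# Normalizers maximal: case I (a Sylow 2-subgroup is the centralizer of an involution) is impossible
-/

set_option autoImplicit false
set_option linter.all false

universe u

namespace H68.NormMaxJ
open Subgroup H68.NormMaxA H68.NormMaxB H68.NormMaxC H68.NormMaxG H68.NormMaxH H68.NormMaxI

variable {G : Type u} [Group G] [Finite G]

theorem mem_zp3 {y : G} (hy : orderOf y = 3) {x : G} (hx : x ∈ zpowers y) : x = 1 ∨ x = y ∨ x = y⁻¹ := by
  obtain ⟨k, rfl⟩ := hx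
  change y ^ k = 1 ∨ y ^ k = y ∨ y ^ k = y⁻¹
  have h3 : y ^ (3 : ℤ) = 1 := by
    have := pow_orderOf_eq_one y
    rw [hy] at this; exact_mod_cast this
  have hk : k % 3 = 0 ∨ k % 3 = 1 ∨ k % 3 = 2 := by omega
  have hd : k = 3 * (k / 3) + k % 3 := by omega
  have h4 : y ^ k = y ^ (k % 3) := by
    conv_lhs => rw [hd]
    rw [zpow_add, zpow_mul, h3, one_zpow, one_mul]
  rw [h4]
  rcases hk with h | h | h
  · left; rw [h, zpow_zero]
  · right; left; rw [h, zpow_one]
  · right; right
    rw [h]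
    have h5 : y ^ (2 : ℤ) * y = 1 := by rw [← zpow_add_one]; exact h3
    exact eq_inv_of_mul_eq_one_left h5

theorem norm3 {y : G} (hy : orderOf y = 3) {g : G} (hg : g ∈ normalizer ((zpowers y : Subgroup G) : Set G)) :
    g * y * g⁻¹ = y ∨ g * y * g⁻¹ = y⁻¹ := by
  rcases mem_zp3 hy ((mem_normalizer_iff.1 hg y).1 (mem_zpowers y)) with h | h | h
  · rw [conj_eq_one_iff] at h
    rw [h, orderOf_one] at hy; omega
  · left; exact h
  · right; exact h

theorem caseI (ft : FT.{u}) (hns : ¬ Group.IsSolvable G) (hP : HP G)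
    (hI : ∃ S : Sylow 2 G, ∃ t ∈ S, orderOf t = 2 ∧ centralizer {t} = (S : Subgroup G)) : False := by
  haveI h2f : Fact (Nat.Prime 2) := ⟨Nat.prime_two⟩
  obtain ⟨U, S, t, y, q, d⟩ := exists_dat ft hns hP hI
  obtain ⟨j, hj2, hjS, hjN, hjNy, hinv, hjU⟩ := d.exists_j
  have e : Dat2 U S t y j q := ⟨d, hj2, hjS, hjN, hjNy, hinv, hjU⟩
  have hq3 := e.q_three
  have hy3 : orderOf y = 3 := by rw [d.yq, hq3]
  have hp3 : (3 : ℕ) ≠ 2 := by norm_num
  have hyy : y ≠ 1 := by rintro rfl; rw [orderOf_one] at hy3; omega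
  have not2 : ∀ {P : Subgroup G}, IsPGroup 2 P → y ∉ P := fun hP => e.not_mem_two hP
  -- D = 1?
  by_cases hD : ∀ c : G, c * j = j * c → c * y = y * c → c = 1
  · have hCy : ∀ g : G, g * y = y * g → g ∈ normalizer (U : Set G) := by
      intro g hg
      have hgN : g ∈ normalizer ((zpowers y : Subgroup G) : Set G) := by
        apply mem_normalizer_fintype
        rintro _ ⟨k, rfl⟩
        have : g * y ^ k * g⁻¹ = y ^ k := by
          have := ((show Commute g y from hg).zpow_right k).eq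
          rw [this]; group
        change g * y ^ k * g⁻¹ ∈ zpowers y
        rw [this]; exact zpow_mem (mem_zpowers y) k
      obtain ⟨u, hu, c, hc, -, hgc⟩ := inv_norm hP hj2 Nat.prime_three hp3 hy3 hinv hgN
      have huy : u * y = y * u := comm_zp (rfl : y * y = y * y) _ hu _ (mem_zpowers y)
      have hcc : c = u⁻¹ * g := by rw [hgc]; group
      have h1 : c = 1 := by
        apply hD c (mem_centralizer_singleton_iff.1 hc)
        rw [hcc]
        exact ((show Commute u y from huy).inv_left.mul_left (show Commute g y from hg))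
      rw [hgc, h1, mul_one]
      exact (d.y_norm d.yN) hu
    have hle : normalizer ((zpowers y : Subgroup G) : Set G) ≤ normalizer (U : Set G) := by
      intro g hg
      rcases norm3 hy3 hg with h1 | h1
      · exact hCy g (mul_inv_eq_iff_eq_mul.1 h1)
      · have h2 : (j * g) * y = y * (j * g) := by
          have h3 : (j * g) * y * (j * g)⁻¹ = y := by
            calc (j * g) * y * (j * g)⁻¹ = j * (g * y * g⁻¹) * j⁻¹ := by group
              _ = j * y⁻¹ * j⁻¹ := by rw [h1]
              _ = (j * y * j⁻¹)⁻¹ := by group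
              _ = y := by rw [hinv, inv_inv]
          exact mul_inv_eq_iff_eq_mul.1 h3
        have h3 := hCy _ h2
        have h4 : g = j⁻¹ * (j * g) := by group
        rw [h4]; exact mul_mem (Subgroup.inv_mem _ hjN) h3
    have h1 := eq_of_le (hP _ (zp_ne Nat.prime_three hy3) (two_p (p := 3) (hp := ⟨Nat.prime_three⟩) (isP_zp hy3))) hle d.coM.1
    have h2 : t ∈ normalizer ((zpowers y : Subgroup G) : Set G) := by rw [h1]; exact le_normalizer d.tU
    exact ne_one_of_two d.t2 (d.inf_norm d.tU h2)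
  push Not at hD
  obtain ⟨c, hcj, hcy, hc1⟩ := hD
  -- D is a 2-group
  set D : Subgroup G := centralizer {j} ⊓ centralizer {y} with hDdef
  have memD : ∀ {x : G}, x ∈ D ↔ x * j = j * x ∧ x * y = y * x := by
    intro x
    rw [hDdef, mem_inf, mem_centralizer_singleton_iff, mem_centralizer_singleton_iff]
  have hD2 : IsPGroup 2 D := by
    apply isTwo
    intro z hz r hr hzr
    exact inv_two hP hj2 Nat.prime_three hp3 hy3 hinv (memD.1 hz).1 (memD.1 hz).2 hr hzr
  obtain ⟨m, hm⟩ := exists_pow_two hD2 (memD.2 ⟨hcj, hcy⟩) hc1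
  have huD : c ^ m ∈ D := pow_mem (memD.2 ⟨hcj, hcy⟩) m
  set u := c ^ m with hudef
  clear_value u
  have huj := (memD.1 huD).1
  have huy := (memD.1 huD).2
  set M2 := normalizer ((zpowers y : Subgroup G) : Set G) with hM2
  have hM2co : IsCoatom M2 := hP _ (zp_ne Nat.prime_three hy3) (two_p (p := 3) (hp := ⟨Nat.prime_three⟩) (isP_zp hy3))
  have hyM2 : y ∈ M2 := le_normalizer (mem_zpowers y)
  have hCu : ∀ {x : G}, x ∈ D → orderOf x = 2 → M2 = centralizer {x} := by
    intro x hx hx2
    exact cent_eq' hP hx2 Nat.prime_three hp3 hy3 (memD.1 hx).2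
  have hCuu := hCu huD hm
  -- T = C(j) ∩ M2
  set T : Subgroup G := centralizer {j} ⊓ M2 with hT
  have hDT : D ≤ T := by
    intro x hx
    refine ⟨mem_centralizer_singleton_iff.2 (memD.1 hx).1, ?_⟩
    apply mem_normalizer_fintype
    rintro _ ⟨k, rfl⟩
    have : x * y ^ k * x⁻¹ = y ^ k := by
      have := ((show Commute x y from (memD.1 hx).2).zpow_right k).eq
      rw [this]; group
    change x * y ^ k * x⁻¹ ∈ zpowers y
    rw [this]; exact zpow_mem (mem_zpowers y) k
  have hTcases : ∀ {x : G}, x ∈ T → x ∈ D ∨ x * y * x⁻¹ = y⁻¹ := by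
    intro x hx
    rcases norm3 hy3 hx.2 with h1 | h1
    · left; exact memD.2 ⟨mem_centralizer_singleton_iff.1 hx.1, mul_inv_eq_iff_eq_mul.1 h1⟩
    · right; exact h1
  have hDD : ∀ {a b : G}, a * y * a⁻¹ = y⁻¹ → b * y * b⁻¹ = y⁻¹ → (a * b) * y = y * (a * b) := by
    intro a b ha hb
    have h3 : (a * b) * y * (a * b)⁻¹ = y := by
      calc (a * b) * y * (a * b)⁻¹ = a * (b * y * b⁻¹) * a⁻¹ := by group
        _ = a * y⁻¹ * a⁻¹ := by rw [hb]
        _ = (a * y * a⁻¹)⁻¹ := by group
        _ = y := by rw [ha, inv_inv]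
    exact mul_inv_eq_iff_eq_mul.1 h3
  have hTmul : ∀ {a b : G}, a ∈ T → b ∈ T → a ∉ D → b ∉ D → a * b ∈ D := by
    intro a b ha hb ha' hb'
    exact memD.2 ⟨mem_centralizer_singleton_iff.1 (mul_mem ha.1 hb.1),
      hDD ((hTcases ha).resolve_left ha') ((hTcases hb).resolve_left hb')⟩
  have hjj : j * j = 1 := e.jj
  have hjT : j ∈ T := ⟨mem_centralizer_singleton_iff.2 rfl, hjNy⟩
  have hjD : j ∉ D := by
    intro h
    have h1 := (memD.1 h).2
    have h2 : y = y⁻¹ := by rw [← hinv, h1]; group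
    have h3 : y * y = 1 := by nth_rewrite 1 [h2]; group
    have h4 := orderOf_dvd_of_pow_eq_one (x := y) (n := 2) (by rw [sq]; exact h3)
    rw [hy3] at h4
    omega
  have hT2 : IsPGroup 2 T := by
    apply isTwo
    intro z hz r hr hzr
    by_contra hr2
    have hodd : Odd (orderOf z) := by rw [hzr]; exact hr.odd_of_ne_two hr2
    have hzD : z ∈ D := by
      apply mem_of_sq hodd
      rcases hTcases hz with h1 | h1
      · exact mul_mem h1 h1
      · exact memD.2 ⟨mem_centralizer_singleton_iff.1 (mul_mem hz.1 hz.1), hDD h1 h1⟩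
    obtain ⟨k, hk⟩ := exists_pow hD2 hzD
    have h2 := orderOf_dvd_of_pow_eq_one hk
    rw [hzr] at h2
    exact hr2 ((Nat.prime_dvd_prime_iff_eq hr Nat.prime_two).1 (hr.dvd_of_dvd_pow h2))
  obtain ⟨S', hS'⟩ := hT2.exists_le_sylow
  obtain ⟨t', ht'S, ht'2, hCt'⟩ := d.sylow S'
  have hS't' : ∀ {x : G}, x ∈ (S' : Subgroup G) → x * t' = t' * x := by
    intro x hx
    rw [← hCt'] at hx
    exact mem_centralizer_singleton_iff.1 hx
  have memS' : ∀ {x : G}, x * t' = t' * x → x ∈ (S' : Subgroup G) := by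
    intro x hx
    rw [← hCt']; exact mem_centralizer_singleton_iff.2 hx
  have hyS' : y ∉ (S' : Subgroup G) := not2 S'.isPGroup'
  have ht'M2 : t' ∈ M2 := by
    rw [hCuu, mem_centralizer_singleton_iff]
    exact (hS't' (hS' (hDT huD))).symm
  have ht'T : t' ∈ T := ⟨mem_centralizer_singleton_iff.2 (hS't' (hS' hjT)).symm, ht'M2⟩
  have ht'D : t' ∉ D := by
    intro h
    exact hyS' (memS' (memD.1 h).2.symm)
  have hTne : T ≠ (S' : Subgroup G) := by
    intro h
    have h1 : IsCoatom T := by rw [h, ← hCt']; exact cent_coatom hP ht'2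
    have h2 := eq_of_le h1 (inf_le_right : T ≤ M2) hM2co.1
    have h3 : y ∈ T := by rw [h2]; exact hyM2
    exact not2 hT2 h3
  obtain ⟨n, hnS, hnN, hnT⟩ := exists_norm S'.isPGroup' hS' hTne
  have hnT' : ∀ {x : G}, x ∈ T → n * x * n⁻¹ ∈ T := fun {x} hx => (mem_normalizer_iff.1 hnN x).1 hx
  have hM2S' : ∀ {x : G}, x ∈ M2 → x ∈ (S' : Subgroup G) → x ∈ T := by
    intro x hx hxS
    obtain ⟨w, hw, c', hc', hc'N, hx'⟩ := inv_norm hP hj2 Nat.prime_three hp3 hy3 hinv hx
    have hc'T : c' ∈ T := ⟨hc', hc'N⟩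
    have hwS : w ∈ (S' : Subgroup G) := by
      have : w = x * c'⁻¹ := by rw [hx']; group
      rw [this]; exact mul_mem hxS (Subgroup.inv_mem _ (hS' hc'T))
    have hw1 : w = 1 := disj (p := 2) (q := 3) (hq := ⟨Nat.prime_three⟩) (by norm_num) S'.isPGroup' (isP_zp hy3) hwS hw
    rw [hx', hw1, one_mul]; exact hc'T
  have hnM2 : n ∉ M2 := fun h => hnT (hM2S' h hnS)
  -- n u n⁻¹ ∉ D for involutions of D
  have hconj : ∀ {x : G}, x ∈ D → orderOf x = 2 → n * x * n⁻¹ ∉ D := by
    intro x hx hx2 hnx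
    have h1 : orderOf (n * x * n⁻¹) = 2 := by rw [← hx2]; exact MulEquiv.orderOf_eq (MulAut.conj n) x
    have h2 := hCu hx hx2
    have h3 := hCu hnx h1
    apply hnM2
    have h4 : n⁻¹ ∈ normalizer ((centralizer ({x} : Set G) : Subgroup G) : Set G) := by
      apply mem_normalizer_fintype
      intro z hz
      rw [SetLike.mem_coe] at hz ⊢
      rw [← h2, h3] at hz
      have e1 : n * x * n⁻¹ = (n⁻¹)⁻¹ * x * n⁻¹ := by group
      rw [e1, conj_mem_cent] at hz
      exact hz
    rw [norm_cent hP hx2, ← h2] at h4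
    have := Subgroup.inv_mem _ h4
    rwa [inv_inv] at this
  have hu1 : u ≠ 1 := ne_one_of_two hm
  have huu : u * u = 1 := by have := pow_orderOf_eq_one u; rwa [hm, sq] at this
  have huT : u ∈ T := hDT huD
  have hnu := hconj huD hm
  -- D = {1, u}
  have hD1 : ∀ {x : G}, x ∈ D → x = 1 ∨ x = u := by
    intro x hx
    by_cases hx1 : x = 1
    · left; exact hx1
    right
    -- n x n⁻¹ ∉ D
    have hnx : n * x * n⁻¹ ∉ D := by
      intro h
      obtain ⟨i, hi⟩ := exists_pow_two hD2 hx hx1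
      apply hconj (pow_mem hx i) hi
      rw [← conj_pow]; exact pow_mem h i
    have h1 : (n * u * n⁻¹) * (n * x * n⁻¹) ∈ D := hTmul (hnT' huT) (hnT' (hDT hx)) hnu hnx
    have h2 : (n * u * n⁻¹) * (n * x * n⁻¹) = n * (u * x) * n⁻¹ := by group
    rw [h2] at h1
    by_cases hux : u * x = 1
    · have : x = u⁻¹ := eq_inv_of_mul_eq_one_right hux
      rw [this, tinv hm]
    · exfalso
      obtain ⟨i, hi⟩ := exists_pow_two hD2 (mul_mem huD hx) hux
      apply hconj (pow_mem (mul_mem huD hx) i) hi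
      rw [← conj_pow]; exact pow_mem h1 i
  -- T = {1, u, t', u t'}
  have htt' : t' * t' = 1 := by have := pow_orderOf_eq_one t'; rwa [ht'2, sq] at this
  have ht'1 : t' ≠ 1 := ne_one_of_two ht'2
  have hT4 : ∀ {x : G}, x ∈ T → x = 1 ∨ x = u ∨ x = t' ∨ x = u * t' := by
    intro x hx
    by_cases hxD : x ∈ D
    · rcases hD1 hxD with h | h
      · left; exact h
      · right; left; exact h
    · have h1 := hTmul hx ht'T hxD ht'D
      rcases hD1 h1 with h | h
      · right; right; left
        rw [eq_inv_of_mul_eq_one_left h, tinv ht'2]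
      · right; right; right
        rw [← h, mul_assoc, htt', mul_one]
  have hnu2 : n * u * n⁻¹ = u * t' := by
    have h1 : n * u * n⁻¹ ≠ t' := by
      intro h
      have h2 : u = t' := by
        have h3 := hS't' hnS
        calc u = n⁻¹ * (n * u * n⁻¹) * n := by group
          _ = n⁻¹ * (t' * n) := by rw [h]; group
          _ = n⁻¹ * (n * t') := by rw [h3]
          _ = t' := by group
      exact ht'D (h2 ▸ huD)
    rcases hT4 (hnT' huT) with h | h | h | h
    · rw [conj_eq_one_iff] at h; exact absurd h hu1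
    · exact absurd (by rw [h]; exact huD) hnu
    · exact absurd h h1
    · exact h
  -- u and its conjugates are not conjugate to t'
  have hnot : ∀ g : G, g * t' * g⁻¹ ≠ u := by
    intro g hg
    have h1 : g⁻¹ * y * g ∈ centralizer ({t'} : Set G) := by
      have h2 : y ∈ centralizer ({(g⁻¹)⁻¹ * t' * g⁻¹} : Set G) := by
        have e1 : (g⁻¹)⁻¹ * t' * g⁻¹ = u := by rw [← hg]; group
        rw [e1, mem_centralizer_singleton_iff]; exact huy.symm
      rw [conj_mem_cent, inv_inv] at h2
      exact h2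
    rw [hCt'] at h1
    obtain ⟨k, hk⟩ := exists_pow S'.isPGroup' h1
    have h2 := orderOf_dvd_of_pow_eq_one hk
    have h3 : orderOf (g⁻¹ * y * g) = 3 := by
      rw [← hy3]
      have := MulEquiv.orderOf_eq (MulAut.conj g⁻¹) y
      rw [MulAut.conj_apply, inv_inv] at this
      exact this
    rw [h3] at h2
    have := (Nat.prime_dvd_prime_iff_eq Nat.prime_three Nat.prime_two).1 (Nat.prime_three.dvd_of_dvd_pow h2)
    omega
  have hTb : T ≠ ⊥ := by
    intro h
    rw [h, mem_bot] at huT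
    exact hu1 huT
  have hNT : normalizer (T : Set G) = (S' : Subgroup G) := by
    rw [← hCt']
    apply eq_of_le (hP T hTb (two_p hT2)) _ (cent_coatom hP ht'2).1
    intro g hg
    have h1 := (mem_normalizer_iff.1 hg t').1 ht'T
    rcases hT4 h1 with h | h | h | h
    · rw [conj_eq_one_iff] at h; exact absurd h ht'1
    · exact absurd h (hnot g)
    · exact mem_centralizer_singleton_iff.2 (mul_inv_eq_iff_eq_mul.1 h)
    · exfalso
      apply hnot (n⁻¹ * g)
      calc n⁻¹ * g * t' * (n⁻¹ * g)⁻¹ = n⁻¹ * (g * t' * g⁻¹) * n := by group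
        _ = n⁻¹ * (n * u * n⁻¹) * n := by rw [h, hnu2]
        _ = u := by group
  -- S' = T ∪ n T
  have hSmem : ∀ {s : G}, s ∈ (S' : Subgroup G) → s ∈ T ∨ n⁻¹ * s ∈ T := by
    intro s hs
    have hsN : s ∈ normalizer (T : Set G) := by rw [hNT]; exact hs
    have h1 := (mem_normalizer_iff.1 hsN u).1 huT
    rcases hT4 h1 with h | h | h | h
    · rw [conj_eq_one_iff] at h; exact absurd h hu1
    · left
      apply hM2S' _ hs
      rw [hCuu]
      exact mem_centralizer_singleton_iff.2 (mul_inv_eq_iff_eq_mul.1 h)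
    · exfalso
      apply hnot s⁻¹
      rw [← h]; group
    · right
      apply hM2S' _ (mul_mem (Subgroup.inv_mem _ hnS) hs)
      rw [hCuu, mem_centralizer_singleton_iff]
      have h2 : n⁻¹ * s * u * (n⁻¹ * s)⁻¹ = u := by
        calc n⁻¹ * s * u * (n⁻¹ * s)⁻¹ = n⁻¹ * (s * u * s⁻¹) * n := by group
          _ = n⁻¹ * (n * u * n⁻¹) * n := by rw [h, hnu2]
          _ = u := by group
      exact mul_inv_eq_iff_eq_mul.1 h2
  have hcardT : Nat.card T ≤ 4 := by
    have h1 : (T : Set G) ⊆ {1, u, t', u * t'} := by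
      intro x hx
      exact hT4 hx
    have h2 := Set.ncard_le_ncard h1 (Set.toFinite _)
    have h3 : ({1, u, t', u * t'} : Set G).ncard ≤ 4 := by
      refine (Set.ncard_insert_le _ _).trans ?_
      have := (Set.ncard_insert_le u ({t', u * t'} : Set G))
      have h4 := (Set.ncard_insert_le t' ({u * t'} : Set G))
      rw [Set.ncard_singleton] at h4
      omega
    have h4 : Nat.card T = (T : Set G).ncard := Nat.card_coe_set_eq _
    omega
  have hcardS : Nat.card (S' : Subgroup G) ≤ 8 := by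
    have h1 : ((S' : Subgroup G) : Set G) ⊆ (T : Set G) ∪ (fun x => n * x) '' (T : Set G) := by
      intro s hs
      rcases hSmem hs with h | h
      · left; exact h
      · right; exact ⟨n⁻¹ * s, h, by group⟩
    have h2 := Set.ncard_le_ncard h1 (Set.toFinite _)
    have h3 := Set.ncard_union_le (T : Set G) ((fun x => n * x) '' (T : Set G))
    have h4 : ((fun x => n * x) '' (T : Set G)).ncard ≤ (T : Set G).ncard := Set.ncard_image_le (Set.toFinite _)
    have h5 : Nat.card T = (T : Set G).ncard := Nat.card_coe_set_eq _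
    have h6 : Nat.card (S' : Subgroup G) = ((S' : Subgroup G) : Set G).ncard := Nat.card_coe_set_eq _
    omega
  -- the final contradiction: U⟨j⟩ is a Sylow 2-subgroup
  have hc8 : Nat.card (U ⊔ zpowers j : Subgroup G) = 8 := by rw [e.card_T, e.card_U]
  obtain ⟨S'', hS''⟩ := e.T_two.exists_le_sylow
  have h1 : Nat.card (S'' : Subgroup G) = Nat.card (S' : Subgroup G) := Nat.card_congr (Sylow.equiv S'' S').toEquiv
  have h2 : U ⊔ zpowers j = (S'' : Subgroup G) := by
    apply eq_of_le_of_card_ge hS''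
    rw [h1, hc8]; exact hcardS
  obtain ⟨t3, ht3S, ht32, hCt3⟩ := d.sylow S''
  have h3 : IsCoatom (U ⊔ zpowers j) := by rw [h2, ← hCt3]; exact cent_coatom hP ht32
  have h4 := eq_of_le h3 (sup_le le_normalizer e.zj_norm) d.coM.1
  have h5 : y ∈ U ⊔ zpowers j := by rw [h4]; exact d.yN
  exact not2 e.T_two h5

end H68.NormMaxJ
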