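import Cfsg.Agent.Lib.H68.NormMaxF
import Cfsg.Agent.Lib.H68.NormMaxJ
import Cfsg.Agent.Lib.H68.NormMaxL
import Cfsg.Agent.Lib.H68.NormMaxM
import Cfsg.Agent.Lib.H68.NormMaxN
import Cfsg.Agent.Lib.H6.SLCard
import Cfsg.Agent.Lib.H40.SL2Tori
import Cfsg.Agent.Lib.H40.SL2Nine
import Cfsg.Agent.Lib.H68.CGroup4

/-!
# Normalizers of nonsubnormal subgroups maximal: assembling the structure
-/

set_option autoImplicit false
set_option linter.all false

universe u

namespace H68.NormMaxO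
open Subgroup H68.NormMaxA H68.NormMaxB H70.SolvRad H68.NormMaxK H68.NormMaxL
open scoped commutatorElement

abbrev P13 := Matrix.ProjectiveSpecialLinearGroup (Fin 2) (ZMod 13)
abbrev E13 := Matrix.SpecialLinearGroup (Fin 2) (ZMod 13)

instance f13 : Fact (Nat.Prime 13) := ⟨by norm_num⟩

theorem partA {G : Type u} [Group G] [Finite G] (ft : FT.{u}) (hns : ¬ Group.IsSolvable G) (hP : HP G) :
    IsSimpleGroup G ∧ Nonempty (G ≃* P13) := by
  haveI : Fact (Nat.Prime 2) := ⟨Nat.prime_two⟩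
  by_cases hI : ∃ S : Sylow 2 G, ∃ t ∈ S, orderOf t = 2 ∧ centralizer {t} = (S : Subgroup G)
  · exact (H68.NormMaxJ.caseI ft hns hP hI).elim
  · have hII : ∀ S : Sylow 2 G, ∀ t ∈ S, orderOf t = 2 → centralizer {t} ≠ (S : Subgroup G) :=
      fun S t ht ht2 hc => hI ⟨S, t, ht, ht2, hc⟩
    refine ⟨?_, H68.NormMaxF.caseII ft hns hP hII⟩
    obtain ⟨S⟩ : Nonempty (Sylow 2 G) := inferInstance
    obtain ⟨t, v, w, r, hpair, hv2, hvS, hinv, hvt, hall, hk⟩ := H68.NormMaxC.klein ft hns hP hII S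
    have h : H68.NormMaxD.F4 S t v w r := ⟨hpair, hv2, hvS, hinv, hvt, hall, hk⟩
    exact H68.NormMaxE.simple ft hns hP h (H68.NormMaxC.conj_all ft hns hP hII S hk)

theorem card_E : Nat.card E13 = 2184 := by
  rw [H40.SL2Tori.card_SL2, ZMod.card]

theorem card_P : Nat.card P13 = 1092 := by
  have h1 := Subgroup.card_eq_card_quotient_mul_card_subgroup (center E13)
  rw [card_E, H6.SLCard.card_center_sl, Fintype.card_fin, ZMod.card] at h1
  have h2 : Nat.gcd 2 (13 - 1) = 2 := by decide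
  rw [h2] at h1
  change 2184 = Nat.card P13 * 2 at h1
  omega

theorem nonsolvable_quot {G : Type u} [Group G] [Finite G] (hns : ¬ Group.IsSolvable G) : ¬ Group.IsSolvable (G ⧸ srad G) := by
  intro h
  apply hns
  haveI := isSolvable_srad (G := G)
  exact solvable_of_normal (srad G) inferInstance h

structure Str {G : Type u} [Group G] [Finite G] (K : Subgroup G) (φ : E13 →* K) : Prop where
  hN : HN G
  hns : ¬ Group.IsSolvable G
  simple : IsSimpleGroup (G ⧸ srad G)
  Kn : K.Normal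
  sup : K ⊔ srad G = ⊤
  comm : ∀ k ∈ K, ∀ r ∈ srad G, k * r = r * k
  surj : Function.Surjective φ
  Z2 : Nat.card (K ⊓ srad G : Subgroup G) ≤ 2
  ker2 : Nat.card φ.ker ≤ 2
  Keq : Nonempty (K ≃* P13) ∨ Nonempty (K ≃* E13)

theorem exists_str {G : Type u} [Group G] [Finite G] (ft : FT.{u}) (hns : ¬ Group.IsSolvable G) (hN : HN G)
    (hM : Cfsg.HasCyclicSchurMultiplier E13 1) :
    ∃ (K : Subgroup G) (φ : E13 →* K), Str K φ := by
  obtain ⟨hs, ⟨e⟩⟩ := partA ft (nonsolvable_quot hns) (HP_quot hN)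
  haveI := hs
  have hc : Nat.card (G ⧸ srad G) = 1092 := by rw [Nat.card_congr e.toEquiv, card_P]
  obtain ⟨K, hKn, hK1, hK2, hK3⟩ := exists_K hns
  haveI := hKn
  have hcomm := K_comm hN (by rw [hc]; norm_num) (by rw [hc]; norm_num) hK3
  let π : K →* P13 := e.toMonoidHom.comp ((QuotientGroup.mk' (srad G)).comp K.subtype)
  have hπ : Function.Surjective π := by
    intro z
    obtain ⟨g, hg⟩ := QuotientGroup.mk'_surjective (srad G) (e.symm z)
    have h1 : g ∈ K ⊔ srad G := by rw [hK1]; exact mem_top g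
    rw [mem_sup_of_normal_right] at h1
    obtain ⟨k, hk, r, hr, rfl⟩ := h1
    refine ⟨⟨k, hk⟩, ?_⟩
    change e (QuotientGroup.mk' (srad G) k) = z
    have h2 : QuotientGroup.mk' (srad G) k = e.symm z := by
      rw [← hg, map_mul, show QuotientGroup.mk' (srad G) r = 1 from (QuotientGroup.eq_one_iff r).2 hr, mul_one]
    rw [h2, MulEquiv.apply_symm_apply]
  have hker : ∀ k : K, π k = 1 ↔ (k : G) ∈ srad G := by
    intro k
    change e (QuotientGroup.mk' (srad G) (k : G)) = 1 ↔ _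
    rw [map_eq_one_iff e e.injective]
    exact QuotientGroup.eq_one_iff _
  have hπc : π.ker ≤ center K := by
    intro z hz
    rw [mem_center_iff]
    intro x
    exact Subtype.ext (hcomm x x.2 z ((hker z).1 (MonoidHom.mem_ker.1 hz)))
  have hKp : commutator K = ⊤ := by
    rw [eq_top_iff]
    intro x _
    have h1 : (x : G) ∈ ⁅K, K⁆ := by rw [hK2]; exact x.2
    rw [← map_subtype_commutator] at h1
    obtain ⟨y, hy, hyx⟩ := h1
    have : y = x := Subtype.ext hyx
    rw [← this]; exact hy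
  have hE : commutator E13 = ⊤ := H40.SL2Nine.commutator_top (by rw [ZMod.card]; norm_num)
  obtain ⟨φ, hφ⟩ := H68.NormMaxM.exists_surj (QuotientGroup.mk' (center E13)) (QuotientGroup.mk'_surjective _) hE hM π hπ hπc hKp
  -- cardinalities
  have hcE : Nat.card E13 = Nat.card φ.ker * Nat.card K := by
    have h1 := card_mul_index φ.ker
    rw [index_ker, MonoidHom.range_eq_top.2 hφ, card_top] at h1
    exact h1.symm
  have hcK : Nat.card K = Nat.card π.ker * Nat.card P13 := by
    have h1 := card_mul_index π.ker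
    rw [index_ker, MonoidHom.range_eq_top.2 hπ, card_top] at h1
    exact h1.symm
  rw [card_P] at hcK
  rw [card_E, hcK] at hcE
  have hp1 : 0 < Nat.card φ.ker := Nat.card_pos
  have hp2 : 0 < Nat.card π.ker := Nat.card_pos
  have hprod : Nat.card φ.ker * Nat.card π.ker = 2 := by nlinarith
  have hk1 : Nat.card φ.ker ≤ 2 := by nlinarith
  have hk2 : Nat.card π.ker ≤ 2 := by nlinarith
  refine ⟨K, φ, hN, hns, hs, hKn, hK1, hcomm, hφ, ?_, hk1, ?_⟩
  · -- K ⊓ R ≅ ker π
    refine le_trans ?_ hk2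
    let f : (K ⊓ srad G : Subgroup G) → π.ker := fun x => ⟨⟨x, x.2.1⟩, MonoidHom.mem_ker.2 ((hker _).2 x.2.2)⟩
    apply Nat.card_le_card_of_injective f
    intro x y hxy
    have := congrArg (fun z : π.ker => ((z : K) : G)) hxy
    exact Subtype.ext this
  · have : Nat.card π.ker = 1 ∨ Nat.card φ.ker = 1 := by
      by_contra hcon
      push Not at hcon
      have h1 : 2 ≤ Nat.card π.ker := by omega
      have h2 : 2 ≤ Nat.card φ.ker := by omega
      nlinarith
    rcases this with h1 | h1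
    · left
      have h2 : π.ker = ⊥ := card_eq_one.1 h1
      exact ⟨MulEquiv.ofBijective π ⟨(MonoidHom.ker_eq_bot_iff π).1 h2, hπ⟩⟩
    · right
      have h2 : φ.ker = ⊥ := card_eq_one.1 h1
      exact ⟨(MulEquiv.ofBijective φ ⟨(MonoidHom.ker_eq_bot_iff φ).1 h2, hφ⟩).symm⟩

end H68.NormMaxO
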