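import Cfsg.Agent.Lib.H68.NormMaxO
import Cfsg.Agent.Lib.H73.Hamiltonian

/-!
# Normalizers of nonsubnormal subgroups maximal: the radical
-/

set_option autoImplicit false
set_option linter.all false

universe u

namespace H68.NormMaxP
open Subgroup H68.NormMaxA H68.NormMaxB H70.SolvRad H68.NormMaxK H68.NormMaxL H68.NormMaxO
open scoped commutatorElement

variable {G : Type u} [Group G] [Finite G] {K : Subgroup G} {φ : E13 →* K} (h : Str K φ)
include h

theorem phi_eq_one {e : E13} (he : φ e = 1) : e * e = 1 := by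
  have h1 : orderOf (⟨e, MonoidHom.mem_ker.2 he⟩ : φ.ker) ∣ Nat.card φ.ker := orderOf_dvd_natCard _
  have h2 : 0 < Nat.card φ.ker := Nat.card_pos
  have h3 := h.ker2
  have h4 : Nat.card φ.ker ∣ 2 := by
    have : Nat.card φ.ker = 1 ∨ Nat.card φ.ker = 2 := by omega
    rcases this with h5 | h5 <;> rw [h5] <;> norm_num
  rw [Subgroup.orderOf_mk] at h1
  rw [← sq]; exact orderOf_dvd_iff_pow_eq_one.1 (h1.trans h4)

theorem Z_sq {z : G} (hzK : z ∈ K) (hzR : z ∈ srad G) : z * z = 1 := by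
  have hz : z ∈ K ⊓ srad G := ⟨hzK, hzR⟩
  have h1 : orderOf (⟨z, hz⟩ : (K ⊓ srad G : Subgroup G)) ∣ Nat.card (K ⊓ srad G : Subgroup G) := orderOf_dvd_natCard _
  have h2 : 0 < Nat.card (K ⊓ srad G : Subgroup G) := Nat.card_pos
  have h3 := h.Z2
  have h4 : Nat.card (K ⊓ srad G : Subgroup G) ∣ 2 := by
    have : Nat.card (K ⊓ srad G : Subgroup G) = 1 ∨ Nat.card (K ⊓ srad G : Subgroup G) = 2 := by omega
    rcases this with h5 | h5 <;> rw [h5] <;> norm_num
  rw [Subgroup.orderOf_mk] at h1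
  rw [← sq]; exact orderOf_dvd_iff_pow_eq_one.1 (h1.trans h4)

theorem phi_comm (e : E13) {r : G} (hr : r ∈ srad G) : (φ e : G) * r = r * φ e := h.comm _ (φ e).2 r hr

/-- central elements of `K` are in the radical -/
theorem central_mem {z : G} (hzK : ∀ k ∈ K, k * z = z * k) (hz : z ∈ K) : z ∈ srad G := by
  have h1 : z ∈ center G := by
    rw [mem_center_iff]
    intro g
    have h2 : g ∈ K ⊔ srad G := by rw [h.sup]; exact mem_top g
    rw [mem_sup_of_normal_right] at h2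
    obtain ⟨k, hk, r, hr, rfl⟩ := h2
    calc k * r * z = k * (r * z) := by group
      _ = k * (z * r) := by rw [h.comm z hz r hr]
      _ = (k * z) * r := by group
      _ = z * (k * r) := by rw [hzK k hk]; group
  have h2 : center G ≤ srad G := le_srad inferInstance (Group.isSolvable_of_comm (fun a b => Subtype.ext (mem_center_iff.1 b.2 a)))
  exact h2 h1

theorem no_p {p : ℕ} (hp : p = 3 ∨ p = 7 ∨ p = 13) {y : G} (hyR : y ∈ srad G) (hy : orderOf y = p) : False := by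
  have hpp : p.Prime := by rcases hp with rfl | rfl | rfl <;> norm_num
  have hp2 : p ≠ 2 := by rcases hp with rfl | rfl | rfl <;> norm_num
  haveI : Fact p.Prime := ⟨hpp⟩
  have hyp : y ^ p = 1 := by rw [← hy]; exact pow_orderOf_eq_one y
  obtain ⟨x₀, k₀, hx1, hx2, hx3⟩ := H68.NormMaxN.exists_elt p hp
  set x : G := ((φ x₀ : K) : G) with hx
  set k : G := ((φ k₀ : K) : G) with hk
  have hkK : k ∈ K := (φ k₀).2
  have hxK : x ∈ K := (φ x₀).2
  have hxp : x ^ p = 1 := by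
    have : (φ x₀) ^ p = 1 := by rw [← map_pow, hx1, map_one]
    exact congrArg Subtype.val this
  have hx1' : x ≠ 1 := by
    intro h1
    have h2 : φ x₀ = 1 := Subtype.ext h1
    have h3 := phi_eq_one h h2
    apply hx2
    exact eq_one_of_coprime (a := 1) (b := 1) Nat.prime_two hpp (Ne.symm hp2) (by rw [pow_one, sq]; exact h3) (by rw [pow_one]; exact hx1)
  have hxo : orderOf x = p := orderOf_eq_prime hxp hx1'
  have hinv : k * x * k⁻¹ = x⁻¹ := by
    have : φ k₀ * φ x₀ * (φ k₀)⁻¹ = (φ x₀)⁻¹ := by rw [← map_inv, ← map_mul, ← map_mul, hx3, map_inv]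
    exact congrArg Subtype.val this
  have hxR : x ∉ srad G := by
    intro hxR
    have h1 := h.comm k hkK x hxR
    have h2 : x = x⁻¹ := by rw [← hinv, h1]; group
    have h3 : x * x = 1 := by nth_rewrite 1 [h2]; group
    apply hx1'
    exact eq_one_of_coprime (a := 1) (b := 1) Nat.prime_two hpp (Ne.symm hp2) (by rw [pow_one, sq]; exact h3) (by rw [pow_one]; exact hxp)
  have hxy : Commute x y := h.comm x hxK y hyR
  have hky : k * y = y * k := h.comm k hkK y hyR
  set w := x * y with hw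
  have hwp : w ^ p = 1 := by rw [hw, hxy.mul_pow, hxp, hyp, one_mul]
  have hwR : w ∉ srad G := by
    intro h1
    apply hxR
    have : x = w * y⁻¹ := by rw [hw]; group
    rw [this]; exact mul_mem h1 (Subgroup.inv_mem _ hyR)
  have hwP : IsPGroup p (zpowers w) := by
    obtain ⟨j, hj, hj2⟩ := (Nat.dvd_prime_pow hpp).1 (orderOf_dvd_of_pow_eq_one (n := p ^ 1) (by rw [pow_one]; exact hwp))
    exact isP_zp' hj2
  have hkw : k * w * k⁻¹ = x⁻¹ * y := by
    calc k * w * k⁻¹ = (k * x * k⁻¹) * (k * y) * k⁻¹ := by rw [hw]; group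
      _ = x⁻¹ * (y * k) * k⁻¹ := by rw [hinv, hky]
      _ = _ := by group
  have hyw : y ∈ zpowers w ⊔ srad G := le_sup_right (a := zpowers w) hyR
  have hww : w ∈ zpowers w ⊔ srad G := le_sup_left (b := srad G) (mem_zpowers w)
  have hkN : k ∈ normalizer ((zpowers w : Subgroup G) : Set G) := by
    rw [norm_eq_sup h.hN (two_p hwP) (fun hh => hwR (hh (mem_zpowers w)))]
    apply mem_normalizer_fintype
    intro z hz
    rw [SetLike.mem_coe, mem_sup_of_normal_right] at hz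
    obtain ⟨_, ⟨i, rfl⟩, r, hr, rfl⟩ := hz
    change k * (w ^ i * r) * k⁻¹ ∈ _
    have e : k * (w ^ i * r) * k⁻¹ = (k * w * k⁻¹) ^ i * (k * r * k⁻¹) := by rw [conj_zpow]; group
    rw [e]
    refine mul_mem (zpow_mem ?_ i) (le_sup_right (a := zpowers w) (srad_mem.1.conj_mem r hr k))
    rw [hkw]
    have : x⁻¹ = (w * y⁻¹)⁻¹ := by rw [hw]; group
    rw [this]
    exact mul_mem (Subgroup.inv_mem _ (mul_mem hww (Subgroup.inv_mem _ hyw))) hyw
  obtain ⟨j, hj⟩ := (mem_normalizer_iff.1 hkN w).1 (mem_zpowers w)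
  change w ^ j = k * w * k⁻¹ at hj
  rw [hkw, hw, hxy.mul_zpow] at hj
  -- x^(-1-j) = y^(j-1)
  have h1 : x ^ (-1 - j) = y ^ (j - 1) := by
    have e1 : x ^ j * x ^ (-1 - j) = x⁻¹ := by rw [← zpow_add]; simp
    have e2 : y ^ (j - 1) * y = y ^ j := by rw [← zpow_add_one]; simp
    have e3 : x ^ j * x ^ (-1 - j) * y = x ^ j * (y ^ (j - 1) * y) := by rw [e1, e2, hj]
    rw [mul_assoc] at e3
    exact mul_right_cancel (mul_left_cancel e3)
  have hz1 : x ^ (-1 - j) ∈ srad G := by rw [h1]; exact zpow_mem hyR _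
  have hz2 := Z_sq h (zpow_mem hxK _) hz1
  have hz3 : (x ^ (-1 - j)) ^ p = 1 := by
    rw [← zpow_natCast, ← zpow_mul, mul_comm, zpow_mul, zpow_natCast, hxp, one_zpow]
  have hz4 : x ^ (-1 - j) = 1 := eq_one_of_coprime (a := 1) (b := 1) Nat.prime_two hpp (Ne.symm hp2) (by rw [pow_one, sq]; exact hz2) (by rw [pow_one]; exact hz3)
  have hz5 : y ^ (j - 1) = 1 := by rw [← h1]; exact hz4
  have d1 : (p : ℤ) ∣ -1 - j := by rw [← hxo]; exact orderOf_dvd_iff_zpow_eq_one.2 hz4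
  have d2 : (p : ℤ) ∣ j - 1 := by rw [← hy]; exact orderOf_dvd_iff_zpow_eq_one.2 hz5
  have d3 : (p : ℤ) ∣ 2 := by
    have := dvd_add d1 d2
    have e : -1 - j + (j - 1) = -2 := by ring
    rw [e] at this
    exact (dvd_neg.1 this)
  have d4 : p ∣ 2 := by exact_mod_cast d3
  exact hp2 ((Nat.prime_dvd_prime_iff_eq hpp Nat.prime_two).1 d4)

theorem neg_one_ne : (-1 : E13) ≠ 1 := by
  intro he
  have := congrArg (fun z : E13 => (z : Matrix (Fin 2) (Fin 2) (ZMod 13)) 0 0) he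
  have h1 : (-1 : ZMod 13) = 1 := by simpa using this
  exact absurd h1 (by decide)

theorem two_mem {y : G} (hyR : y ∈ srad G) {n : ℕ} (hy : y ^ 2 ^ n = 1) : y ∈ K := by
  classical
  by_contra hyK
  have hex : ∃ j : ℕ, y ^ 2 ^ j ∈ K := ⟨n, by rw [hy]; exact one_mem _⟩
  obtain ⟨i, hi⟩ : ∃ i, Nat.find hex = i + 1 := by
    apply Nat.exists_eq_succ_of_ne_zero
    intro h0
    have := Nat.find_spec hex
    rw [h0, pow_zero, pow_one] at this
    exact hyK this
  have hmem := Nat.find_spec hex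
  have hnot : y ^ 2 ^ i ∉ K := Nat.find_min hex (by omega)
  rw [hi, pow_succ, pow_mul, sq] at hmem
  have hyiR : y ^ 2 ^ i ∈ srad G := pow_mem hyR _
  generalize y ^ 2 ^ i = z at hmem hnot hyiR
  clear hi hex hy hyK hyR
  obtain ⟨a, b, c, haa, hbb, hca, hcb, hba⟩ := H68.NormMaxN.quat
  have E : ∀ u v : E13, u = v → (φ u : G) = φ v := fun u v huv => by rw [huv]
  have hm : ∀ u v : E13, ((φ (u * v) : K) : G) = φ u * φ v := fun u v => by rw [map_mul]; rfl
  have hmi : ∀ u : E13, ((φ u⁻¹ : K) : G) = (φ u : G)⁻¹ := fun u => by rw [map_inv]; rfl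
  set ζ : G := ((φ (-1) : K) : G) with hζ
  set x₁ : G := ((φ a : K) : G) with hx₁
  set x₂ : G := ((φ b : K) : G) with hx₂
  set k : G := ((φ c : K) : G) with hk
  have hx₁K : x₁ ∈ K := (φ a).2
  have hx₂K : x₂ ∈ K := (φ b).2
  have hkK : k ∈ K := (φ c).2
  have hζK : ζ ∈ K := (φ (-1)).2
  have e1 : x₁ * x₁ = ζ := by rw [hx₁, ← hm, haa]
  have e2 : x₂ * x₂ = ζ := by rw [hx₂, ← hm, hbb]
  have e3 : k * x₁ * k⁻¹ = x₂ := by rw [hk, hx₁, ← hmi, ← hm, ← hm, hca]
  have e4 : k * x₂ * k⁻¹ = x₁ * x₂ := by rw [hk, hx₂, ← hmi, ← hm, ← hm, hcb, hm]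
  have e5 : x₂ * x₁ = ζ * (x₁ * x₂) := by
    rw [hx₂, hx₁, ← hm, hba, hζ, ← hm, ← hm]
    apply E
    rw [neg_mul, one_mul]
  have hζR : ζ ∈ srad G := by
    apply central_mem h _ hζK
    intro g hg
    obtain ⟨u, hu⟩ := h.surj ⟨g, hg⟩
    have hgu : g = φ u := by rw [hu]
    rw [hgu, hζ, ← hm, ← hm]
    apply E
    rw [mul_neg, neg_mul, mul_one, one_mul]
  have hx₂R : x₂ ∉ srad G := by
    intro h1
    have h2 := h.comm k hkK x₂ h1
    have h3 : x₁ * x₂ = x₂ := by rw [← e4, h2]; group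
    have h4 : x₁ = 1 := by simpa using h3
    have h5 := phi_eq_one h (Subtype.ext h4 : φ a = 1)
    rw [haa] at h5
    exact neg_one_ne h h5
  have hx₁R : x₁ ∉ srad G := by
    intro h1
    apply hx₂R
    rw [← e3]; exact srad_mem.1.conj_mem _ h1 k
  have hx₁₂R : x₁ * x₂ ∉ srad G := by
    intro h1
    apply hx₂R
    have := srad_mem.1.conj_mem _ h1 k⁻¹
    rw [← e4] at this
    have e : k⁻¹ * (k * x₂ * k⁻¹) * k⁻¹⁻¹ = x₂ := by group
    rwa [e] at this
  have cz1 : x₁ * z = z * x₁ := h.comm _ hx₁K _ hyiR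
  have cz2 : x₂ * z = z * x₂ := h.comm _ hx₂K _ hyiR
  have czk : k * z = z * k := h.comm _ hkK _ hyiR
  -- the quotient by Z
  haveI hZn : (K ⊓ srad G).Normal := by haveI := h.Kn; infer_instance
  set Z := K ⊓ srad G with hZ
  let q := QuotientGroup.mk' Z
  have hq : ∀ g : G, q g = 1 ↔ g ∈ Z := fun g => QuotientGroup.eq_one_iff g
  have hζZ : ζ ∈ Z := ⟨hζK, hζR⟩
  obtain ⟨w, hw⟩ : ∃ w, w = x₁ * z := ⟨_, rfl⟩
  have qw : q w * q w = 1 := by
    rw [← map_mul, hq]
    have : w * w = ζ * (z * z) := by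
      calc w * w = x₁ * (z * x₁) * z := by rw [hw]; group
        _ = (x₁ * x₁) * (z * z) := by rw [← cz1]; group
        _ = _ := by rw [e1]
    rw [this]
    exact mul_mem hζZ ⟨hmem, mul_mem hyiR hyiR⟩
  have qx : q x₂ * q x₂ = 1 := by rw [← map_mul, hq, e2]; exact hζZ
  have qc : q w * q x₂ = q x₂ * q w := by
    have h1 : x₂ * w = ζ * (w * x₂) := by
      calc x₂ * w = (x₂ * x₁) * z := by rw [hw]; group
        _ = ζ * (x₁ * (x₂ * z)) := by rw [e5]; group
        _ = ζ * (w * x₂) := by rw [cz2, hw]; group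
    rw [← map_mul, ← map_mul, h1, map_mul q ζ, (hq ζ).2 hζZ, one_mul]
  set H := closure ({w, x₂} : Set G) with hH
  have hwH : w ∈ H := Subgroup.subset_closure (by simp)
  have hx₂H : x₂ ∈ H := Subgroup.subset_closure (by simp)
  have hfour : ∀ g ∈ H, q g = 1 ∨ q g = q w ∨ q g = q x₂ ∨ q g = q w * q x₂ := by
    intro g hg
    apply H68.CGroup.mem_four qw qx qc
    have h1 : H.map q = closure ({q w, q x₂} : Set (G ⧸ Z)) := by
      rw [hH, MonoidHom.map_closure, Set.image_pair]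
    rw [← h1]; exact ⟨g, hg, rfl⟩
  have hH2 : IsPGroup 2 H := by
    intro g
    refine ⟨2, Subtype.ext ?_⟩
    change (g : G) ^ 2 ^ 2 = 1
    have h1 : q (g : G) * q g = 1 := by
      rcases hfour g g.2 with h1 | h1 | h1 | h1 <;> rw [h1]
      · rw [one_mul]
      · exact qw
      · exact qx
      · calc q w * q x₂ * (q w * q x₂) = q w * (q x₂ * q w) * q x₂ := by group
          _ = (q w * q w) * (q x₂ * q x₂) := by rw [← qc]; group
          _ = 1 := by rw [qw, qx, one_mul]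
    rw [← map_mul, hq] at h1
    have h2 := Z_sq h h1.1 h1.2
    have e : (g : G) ^ 2 ^ 2 = (g : G) * g * (g * g) := by simp [pow_succ, mul_assoc]
    rw [e]; exact h2
  haveI : Fact (Nat.Prime 2) := ⟨Nat.prime_two⟩
  have hHR : ¬ H ≤ srad G := fun hh => hx₂R (hh hx₂H)
  have hzs : z ∈ H ⊔ srad G := le_sup_right (a := H) hyiR
  have hws : w ∈ H ⊔ srad G := le_sup_left (b := srad G) hwH
  have hx₂s : x₂ ∈ H ⊔ srad G := le_sup_left (b := srad G) hx₂H
  have hx₁s : x₁ ∈ H ⊔ srad G := by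
    have : x₁ = w * z⁻¹ := by rw [hw]; group
    rw [this]; exact mul_mem hws (Subgroup.inv_mem _ hzs)
  have hkN : k ∈ normalizer (H : Set G) := by
    rw [norm_eq_sup h.hN (two_p hH2) hHR]
    apply mem_normalizer_fintype
    have hle : H ⊔ srad G ≤ (H ⊔ srad G).comap (MulAut.conj k).toMonoidHom := by
      apply sup_le
      · rw [hH, closure_le]
        intro g hg
        rcases hg with hg | hg
        · change k * g * k⁻¹ ∈ H ⊔ srad G
          rw [hg]
          have : k * w * k⁻¹ = x₂ * z := by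
            calc k * w * k⁻¹ = (k * x₁ * k⁻¹) * (k * z) * k⁻¹ := by rw [hw]; group
              _ = x₂ * (z * k) * k⁻¹ := by rw [e3, czk]
              _ = _ := by group
          rw [this]; exact mul_mem hx₂s hzs
        · change k * g * k⁻¹ ∈ H ⊔ srad G
          have hg' : g = x₂ := hg
          rw [hg', e4]; exact mul_mem hx₁s hx₂s
      · intro r hr
        exact le_sup_right (a := H) (srad_mem.1.conj_mem r hr k)
    intro g hg
    exact hle hg
  have h1 : x₁ * x₂ ∈ H := by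
    rw [← e4]; exact (mem_normalizer_iff.1 hkN x₂).1 hx₂H
  have h2 : x₁ ∈ H := by
    have : x₁ = (x₁ * x₂) * x₂⁻¹ := by group
    rw [this]; exact mul_mem h1 (Subgroup.inv_mem _ hx₂H)
  have h3 : z ∈ H := by
    have : z = x₁⁻¹ * w := by rw [hw]; group
    rw [this]; exact mul_mem (Subgroup.inv_mem _ h2) hwH
  have hqz : ∀ g₁ g₂ : G, q g₁ = q g₂ → g₁⁻¹ * g₂ ∈ srad G := by
    intro g₁ g₂ h4
    have : q (g₁⁻¹ * g₂) = 1 := by rw [map_mul, map_inv, h4, inv_mul_cancel]
    exact ((hq _).1 this).2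
  rcases hfour z h3 with h4 | h4 | h4 | h4
  · exact hnot ((hq z).1 h4).1
  · apply hx₁R
    have h5 := hqz _ _ h4
    have : z⁻¹ * w = x₁ := by rw [hw, cz1]; group
    rwa [this] at h5
  · apply hx₂R
    have h5 := hqz _ _ h4
    have : x₂ = z * (z⁻¹ * x₂) := by group
    rw [this]; exact mul_mem hyiR h5
  · apply hx₁₂R
    rw [← map_mul] at h4
    have h5 := hqz _ _ h4
    have : z⁻¹ * (w * x₂) = x₁ * x₂ := by rw [hw, cz1]; group
    rwa [this] at h5

end H68.NormMaxP
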