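import Cfsg.Agent.Lib.H68.NormMaxP
import Cfsg.Agent.Lib.H72.TpCount

/-!
# Normalizers of nonsubnormal subgroups maximal: the structure theorem
-/

set_option autoImplicit false
set_option linter.all false

universe u

namespace H68.NormMaxQ
open Subgroup H68.NormMaxA H68.NormMaxB H70.SolvRad H68.NormMaxK H68.NormMaxL H68.NormMaxO H68.NormMaxP
open scoped commutatorElement

variable {G : Type u} [Group G] [Finite G] {K : Subgroup G} {φ : E13 →* K}

theorem npc_srad (h : Str K φ) : Cfsg.HasNormalPComplement 2 (srad G) := by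
  haveI : Fact (Nat.Prime 2) := ⟨Nat.prime_two⟩
  obtain ⟨P⟩ : Nonempty (Sylow 2 (srad G)) := inferInstance
  apply H72.TpCount.hasNormalPComplement_of_normalizer_le P
  intro x _
  rw [mem_centralizer_iff]
  intro p hp
  obtain ⟨k, hk⟩ := exists_pow P.isPGroup' hp
  have h1 : (p : G) ∈ K := two_mem h p.2 (n := k) (congrArg Subtype.val hk)
  exact Subtype.ext (h.comm _ h1 _ x.2)

/-- the odd part of the radical -/
def S0 (G : Type u) [Group G] : Subgroup G := (Cfsg.pPrimeCore 2 (srad G)).map (srad G).subtype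

theorem S0_normal : (S0 G).Normal := by
  haveI := H1.Cores.pPrimeCore_characteristic (G := srad G) 2
  exact ConjAct.normal_of_characteristic_of_normal

theorem S0_le : S0 G ≤ srad G := map_subtype_le _

theorem S0_odd : Odd (Nat.card (S0 G)) := by
  rw [S0, Nat.card_congr (equivMapOfInjective _ _ (subtype_injective _)).toEquiv.symm]
  exact Nat.coprime_two_right.mp (H1.Cores.coprime_card_pPrimeCore 2)

theorem mem_S0 (h : Str K φ) {r : G} (hr : r ∈ srad G) (ho : Odd (orderOf r)) : r ∈ S0 G := by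
  haveI : Fact (Nat.Prime 2) := ⟨Nat.prime_two⟩
  obtain ⟨N, hN, hc, k, hk⟩ := H39.PNilp.iff_exists.1 (npc_srad h)
  refine ⟨⟨r, hr⟩, ?_, rfl⟩
  apply H1.Cores.le_pPrimeCore hN hc
  haveI := hN
  have h1 : (QuotientGroup.mk' N (⟨r, hr⟩ : srad G)) = 1 := by
    rw [← orderOf_eq_one_iff]
    have h2 : orderOf (QuotientGroup.mk' N (⟨r, hr⟩ : srad G)) ∣ orderOf r := by
      have := orderOf_map_dvd (QuotientGroup.mk' N) (⟨r, hr⟩ : srad G)
      rwa [Subgroup.orderOf_mk] at this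
    have h3 : orderOf (QuotientGroup.mk' N (⟨r, hr⟩ : srad G)) ∣ 2 ^ k := by
      rw [← hk]
      exact orderOf_dvd_natCard _
    have h4 : Nat.Coprime (orderOf r) (2 ^ k) := Nat.Coprime.pow_right k (Nat.coprime_two_right.2 ho)
    exact Nat.eq_one_of_dvd_coprimes h4 h2 h3
  exact (QuotientGroup.eq_one_iff _).1 h1

theorem sup_top (h : Str K φ) : K ⊔ S0 G = ⊤ := by
  haveI := S0_normal (G := G)
  rw [eq_top_iff, ← h.sup]
  apply sup_le le_sup_left
  intro r hr
  apply H3.LocalNPC.mem_of_prime_powers (orderOf r) r rfl (orderOf_pos r)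
  intro m q j hq hj _
  have hrm : r ^ m ∈ srad G := pow_mem hr m
  by_cases hq2 : q = 2
  · subst hq2
    exact le_sup_left (b := S0 G) (two_mem h hrm (n := j) (by rw [← hj, pow_orderOf_eq_one]))
  · exact le_sup_right (a := K) (mem_S0 h hrm (by rw [hj]; exact (hq.odd_of_ne_two hq2).pow))

theorem inf_bot (h : Str K φ) : K ⊓ S0 G = ⊥ := by
  rw [eq_bot_iff]
  rintro x ⟨hx1, hx2⟩
  have h1 := Z_sq h hx1 (S0_le hx2)
  rw [mem_bot]
  have h2 : orderOf (⟨x, hx2⟩ : S0 G) ∣ Nat.card (S0 G) := orderOf_dvd_natCard _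
  rw [Subgroup.orderOf_mk] at h2
  have h3 : orderOf x ∣ 2 := orderOf_dvd_of_pow_eq_one (by rw [sq]; exact h1)
  rw [← orderOf_eq_one_iff]
  exact Nat.eq_one_of_dvd_coprimes (Nat.coprime_two_right.2 (S0_odd (G := G))) h2 h3

/-- cyclic subgroups of prime power order of `S0` are normalized by the radical -/
theorem norm_zpowers (h : Str K φ) {s : G} (hs : s ∈ S0 G) {q j : ℕ} (hq : q.Prime) (hsq : orderOf s = q ^ j) :
    srad G ≤ normalizer ((zpowers s : Subgroup G) : Set G) := by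
  rcases Nat.eq_zero_or_pos j with rfl | hj
  · rw [pow_zero, orderOf_eq_one_iff] at hsq
    rw [hsq, zpowers_one_eq_bot]
    rw [normalizer_eq_top_iff.2 (inferInstance : (⊥ : Subgroup G).Normal)]
    exact le_top
  · haveI : Fact q.Prime := ⟨hq⟩
    haveI : Fact (Nat.Prime 3) := ⟨Nat.prime_three⟩
    have hsR := S0_le hs
    have hq3 : 3 ≠ q := by
      rintro rfl
      -- element of order 3
      have h1 : orderOf (s ^ 3 ^ (j - 1)) = 3 := by
        rw [orderOf_pow_of_dvd (by positivity) (by rw [hsq]; exact pow_dvd_pow 3 (by omega)), hsq]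
        obtain ⟨i, rfl⟩ : ∃ i, j = i + 1 := ⟨j - 1, by omega⟩
        rw [Nat.add_sub_cancel, pow_succ, Nat.mul_div_cancel_left _ (by positivity)]
      exact no_p h (Or.inl rfl) (pow_mem hsR _) h1
    obtain ⟨x₀, k₀, hx1, hx2, hx3⟩ := H68.NormMaxN.exists_elt 3 (Or.inl rfl)
    set x : G := ((φ x₀ : K) : G) with hx
    have hxK : x ∈ K := (φ x₀).2
    have hx3' : x ^ 3 = 1 := by
      have : (φ x₀) ^ 3 = 1 := by rw [← map_pow, hx1, map_one]
      exact congrArg Subtype.val this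
    have hx1' : x ≠ 1 := by
      intro h1
      have h2 : φ x₀ = 1 := Subtype.ext h1
      have h3 := phi_eq_one h h2
      apply hx2
      exact eq_one_of_coprime (a := 1) (b := 1) Nat.prime_two Nat.prime_three (by norm_num) (by rw [pow_one, sq]; exact h3) (by rw [pow_one]; exact hx1)
    have hxo : orderOf x = 3 := orderOf_eq_prime hx3' hx1'
    have hxR : x ∉ srad G := fun hxR => no_p h (Or.inl rfl) hxR hxo
    have hc : ∀ a ∈ zpowers s, ∀ b ∈ zpowers x, a * b = b * a := comm_zp (h.comm x hxK s hsR).symm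
    have hXs : IsPGroup q (zpowers s) := isP_zp' hsq
    have hXx : IsPGroup 3 (zpowers x) := isP_zp hxo
    have h2 : Two (zpowers s ⊔ zpowers x) := two_sup hXs hXx (le_norm_of_comm hc)
    have h3 : ¬ (zpowers s ⊔ zpowers x) ≤ srad G := fun hh => hxR (hh (le_sup_right (a := zpowers s) (mem_zpowers x)))
    exact (R_le h.hN h2 h3).trans (norm_sup_le (Ne.symm hq3) hXs hXx hc)

theorem S0_comm (h : Str K φ) : ∀ a ∈ S0 G, ∀ b ∈ S0 G, a * b = b * a := by
  by_contra hcon
  push Not at hcon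
  obtain ⟨a, ha, b, hb, hab⟩ := hcon
  have hn : ∀ H : Subgroup (S0 G), H.Normal := by
    intro H
    refine ⟨fun x hx g => ?_⟩
    apply H3.LocalNPC.mem_of_prime_powers (orderOf (g * x * g⁻¹)) _ rfl (orderOf_pos _)
    intro m q j hq hj _
    rw [conj_pow] at hj ⊢
    have h1 : orderOf ((x ^ m : S0 G) : G) = q ^ j := by
      rw [Subgroup.orderOf_coe, ← hj]
      exact (MulEquiv.orderOf_eq (MulAut.conj g) (x ^ m)).symm
    have h2 := norm_zpowers h (x ^ m).2 hq h1 (S0_le g.2)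
    obtain ⟨i, hi⟩ := (mem_normalizer_iff.1 h2 ((x ^ m : S0 G) : G)).1 (mem_zpowers _)
    have h3 : g * x ^ m * g⁻¹ = (x ^ m) ^ i := Subtype.ext hi.symm
    rw [h3]
    exact zpow_mem (pow_mem hx m) i
  obtain ⟨x, y, -, -, -, hne, ho⟩ := H73.Hamiltonian.exists_pair hn ⟨⟨a, ha⟩, ⟨b, hb⟩, fun hc => hab (congrArg Subtype.val hc.eq)⟩
  have h1 := orderOf_dvd_natCard (G := S0 G) ⁅x, y⁆
  rw [ho] at h1
  have h2 := S0_odd (G := G)
  rw [← Nat.not_even_iff_odd] at h2
  exact h2 (even_iff_two_dvd.2 h1)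

theorem coprime (h : Str K φ) : (Nat.card K).Coprime (Nat.card (S0 G)) := by
  have hK : Nat.card K ∣ 2184 := by
    have h1 := card_mul_index φ.ker
    rw [index_ker, MonoidHom.range_eq_top.2 h.surj, card_top, card_E] at h1
    exact Dvd.intro_left _ h1
  apply Nat.Coprime.coprime_dvd_left hK
  have e : (2184 : ℕ) = 2 ^ 3 * (3 * (7 * 13)) := by norm_num
  have key : ∀ p : ℕ, p = 3 ∨ p = 7 ∨ p = 13 → Nat.Coprime p (Nat.card (S0 G)) := by
    intro p hp
    have hpp : p.Prime := by rcases hp with rfl | rfl | rfl <;> norm_num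
    haveI : Fact p.Prime := ⟨hpp⟩
    rw [hpp.coprime_iff_not_dvd]
    intro hd
    obtain ⟨x, hx⟩ := exists_prime_orderOf_dvd_card' p hd
    exact no_p h hp (S0_le x.2) (by rw [Subgroup.orderOf_coe, hx])
  rw [e]
  refine Nat.Coprime.mul_left ?_ (Nat.Coprime.mul_left ?_ (Nat.Coprime.mul_left ?_ ?_))
  · exact Nat.Coprime.pow_left 3 (Nat.coprime_two_left.2 (S0_odd (G := G)))
  · exact key 3 (Or.inl rfl)
  · exact key 7 (Or.inr (Or.inl rfl))
  · exact key 13 (Or.inr (Or.inr rfl))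

theorem main {G : Type u} [Group G] [Finite G] (ft : FT.{u}) (hM : Cfsg.HasCyclicSchurMultiplier E13 1)
    (hG : ¬ Group.IsSolvable G) (hN : HN G) :
    ∃ K S : Subgroup G, K.Normal ∧ S.Normal ∧ K ⊓ S = ⊥ ∧ K ⊔ S = ⊤ ∧
      (Nonempty (K ≃* Matrix.ProjectiveSpecialLinearGroup (Fin 2) (ZMod 13)) ∨
        Nonempty (K ≃* Matrix.SpecialLinearGroup (Fin 2) (ZMod 13))) ∧
      IsMulCommutative S ∧ (Nat.card K).Coprime (Nat.card S) := by
  obtain ⟨K, φ, h⟩ := exists_str ft hG hN hM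
  exact ⟨K, S0 G, h.Kn, S0_normal, inf_bot h, sup_top h, h.Keq,
    ⟨⟨fun a b => Subtype.ext (S0_comm h _ a.2 _ b.2)⟩⟩, coprime h⟩

end H68.NormMaxQ
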