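import Mathlib.GroupTheory.SchurZassenhaus
import Mathlib.GroupTheory.OrderOfElement
import Cfsg.Agent.Lib.H68.Isolated

/-! Counting classes of `π`-elements: `k_π(G) ≤ k_r(G) ∏_{s ∈ π \ r} |G|_s`. -/

set_option autoImplicit false

namespace H68.PiClasses

open H68.Isolated

/-- The type of classes of `π`-elements. -/
abbrev PiClass (π : Finset ℕ) (G : Type*) [Group G] :=
  {c : ConjClasses G // ∀ x ∈ c.carrier, ∀ r : ℕ, r.Prime → r ∣ orderOf x → r ∈ π}

/-- `|G|_π` -/
noncomputable def piPart (π : Finset ℕ) (n : ℕ) : ℕ := π.prod (fun r => r ^ n.factorization r)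

theorem finite_conjClasses (G : Type*) [Group G] [Finite G] : Finite (ConjClasses G) :=
  Finite.of_surjective _ ConjClasses.mk_surjective

/-- decomposition of a π-element into an `r`-part and a `π \ r`-part. -/
theorem exists_decomp {G : Type*} [Group G] [Finite G] (π : Finset ℕ) (r : ℕ) (hr : r.Prime) (y : G)
    (hy : ∀ s : ℕ, s.Prime → s ∣ orderOf y → s ∈ π) :
    ∃ a b : G, a * b = y ∧ a * b = b * a ∧ (∃ k, orderOf a = r ^ k) ∧
      ∀ s : ℕ, s.Prime → s ∣ orderOf b → s ∈ π.erase r := by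
  set n := orderOf y with hn
  have hn0 : n ≠ 0 := (orderOf_pos y).ne'
  set k := n.factorization r with hk
  set m := n / r ^ k with hm
  have hnm : r ^ k * m = n := Nat.ordProj_mul_ordCompl_eq_self n r
  have hcop : Nat.Coprime (r ^ k) m := Nat.Coprime.pow_left _ (Nat.coprime_ordCompl hr hn0)
  -- Bezout
  have hbez := Nat.gcd_eq_gcd_ab (r ^ k) m
  rw [Nat.Coprime.gcd_eq_one hcop] at hbez
  set u := Nat.gcdA (r ^ k) m with hu
  set v := Nat.gcdB (r ^ k) m with hv
  have hb2 : (r : ℤ) ^ k * u + m * v = 1 := by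
    have := hbez.symm; push_cast at this; exact this
  refine ⟨y ^ ((m : ℤ) * v), y ^ ((r : ℤ) ^ k * u), ?_, ?_, ?_, ?_⟩
  · rw [← zpow_add, add_comm, hb2, zpow_one]
  · rw [← zpow_add, ← zpow_add, add_comm]
  · have h1 : (y ^ ((m : ℤ) * v)) ^ (r ^ k) = 1 := by
      rw [← zpow_natCast, ← zpow_mul]
      have : (m : ℤ) * v * ((r ^ k : ℕ) : ℤ) = (n : ℤ) * v := by
        rw [← hnm]; push_cast; ring
      rw [this, zpow_mul, zpow_natCast, hn, pow_orderOf_eq_one, one_zpow]
    obtain ⟨j, _, hj⟩ := (Nat.dvd_prime_pow hr).1 (orderOf_dvd_of_pow_eq_one h1)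
    exact ⟨j, hj⟩
  · intro s hs hsd
    have h1 : (y ^ ((r : ℤ) ^ k * u)) ^ m = 1 := by
      rw [← zpow_natCast, ← zpow_mul]
      have : (r : ℤ) ^ k * u * (m : ℤ) = (n : ℤ) * u := by
        rw [← hnm]; push_cast; ring
      rw [this, zpow_mul, zpow_natCast, hn, pow_orderOf_eq_one, one_zpow]
    have hsm : s ∣ m := hsd.trans (orderOf_dvd_of_pow_eq_one h1)
    rw [Finset.mem_erase]
    refine ⟨?_, hy s hs (hsm.trans (Dvd.intro_left _ hnm))⟩
    rintro rfl
    exact (Nat.not_dvd_ordCompl hs hn0) hsm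

theorem mem_piClass_mk {G : Type*} [Group G] {π : Finset ℕ} {x : G}
    (h : ∀ r : ℕ, r.Prime → r ∣ orderOf x → r ∈ π) :
    ∀ y ∈ (ConjClasses.mk x).carrier, ∀ r : ℕ, r.Prime → r ∣ orderOf y → r ∈ π := by
  intro y hy r hr hd
  rw [ConjClasses.mem_carrier_iff_mk_eq, ConjClasses.mk_eq_mk_iff_isConj, isConj_iff] at hy
  obtain ⟨c, hc⟩ := hy
  apply h r hr
  rw [← hc, orderOf_conj]
  exact hd

theorem mem_pClass_mk {G : Type*} [Group G] {r : ℕ} {x : G} (h : ∃ k, orderOf x = r ^ k) :
    ∀ y ∈ (ConjClasses.mk x).carrier, ∃ k : ℕ, orderOf y = r ^ k := by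
  intro y hy
  rw [ConjClasses.mem_carrier_iff_mk_eq, ConjClasses.mk_eq_mk_iff_isConj, isConj_iff] at hy
  obtain ⟨c, hc⟩ := hy
  obtain ⟨k, hk⟩ := h
  exact ⟨k, by rw [← hk, ← hc, orderOf_conj]⟩

/-- representative of an `r`-class -/
noncomputable def rep {G : Type*} [Group G] {r : ℕ} (c : PClass r G) : G := (ConjClasses.exists_rep c.1).choose

theorem mk_rep {G : Type*} [Group G] {r : ℕ} (c : PClass r G) : ConjClasses.mk (rep c) = c.1 :=
  (ConjClasses.exists_rep c.1).choose_spec

theorem card_piClass_le_sum {G : Type*} [Group G] [Finite G] (π : Finset ℕ) (r : ℕ) (hr : r.Prime) [Fintype (PClass r G)] :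
    Nat.card (PiClass π G) ≤
      ∑ c : PClass r G, Nat.card (PiClass (π.erase r) (Subgroup.centralizer ({rep c} : Set G))) := by
  classical
  have key : ∀ c : PiClass π G, ∃ d : (Σ c : PClass r G, PiClass (π.erase r) (Subgroup.centralizer ({rep c} : Set G))),
      ConjClasses.mk (rep d.1 * ((ConjClasses.exists_rep d.2.1).choose : G)) = c.1 := by
    rintro ⟨c, hc⟩
    obtain ⟨y, rfl⟩ := ConjClasses.exists_rep c
    obtain ⟨a, b, hab, hcomm, hka, hb⟩ := exists_decomp π r hr y (hc y ConjClasses.mem_carrier_mk)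
    let ca : PClass r G := ⟨ConjClasses.mk a, mem_pClass_mk hka⟩
    have h1 : IsConj a (rep ca) := by
      rw [← ConjClasses.mk_eq_mk_iff_isConj]; exact (mk_rep ca).symm
    obtain ⟨g, hg⟩ := isConj_iff.1 h1
    have hbC : g * b * g⁻¹ ∈ Subgroup.centralizer ({rep ca} : Set G) := by
      rw [Subgroup.mem_centralizer_singleton_iff, ← hg]
      calc g * b * g⁻¹ * (g * a * g⁻¹) = g * (b * a) * g⁻¹ := by group
        _ = g * (a * b) * g⁻¹ := by rw [hcomm]
        _ = _ := by group
    let b' : Subgroup.centralizer ({rep ca} : Set G) := ⟨g * b * g⁻¹, hbC⟩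
    have hb' : ∀ s : ℕ, s.Prime → s ∣ orderOf b' → s ∈ π.erase r := by
      intro s hs hsd
      apply hb s hs
      rw [← orderOf_conj g b]
      rwa [← Subgroup.orderOf_coe] at hsd
    refine ⟨⟨ca, ⟨ConjClasses.mk b', mem_piClass_mk hb'⟩⟩, ?_⟩
    simp only []
    have h2 := (ConjClasses.exists_rep (ConjClasses.mk b')).choose_spec
    set b'' := (ConjClasses.exists_rep (ConjClasses.mk b')).choose with hb''
    rw [ConjClasses.mk_eq_mk_iff_isConj, isConj_iff] at h2
    obtain ⟨k, hk⟩ := h2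
    rw [ConjClasses.mk_eq_mk_iff_isConj, isConj_iff]
    have hkr := Subgroup.mem_centralizer_singleton_iff.1 k.2
    have hk' : (k : G) * b'' * (k : G)⁻¹ = g * b * g⁻¹ := congrArg Subtype.val hk
    refine ⟨g⁻¹ * k, ?_⟩
    calc g⁻¹ * (k : G) * (rep ca * (b'' : G)) * (g⁻¹ * (k : G))⁻¹
        = g⁻¹ * (((k : G) * rep ca) * (k : G)⁻¹) * ((k : G) * b'' * (k : G)⁻¹) * g := by group
      _ = g⁻¹ * ((rep ca * (k : G)) * (k : G)⁻¹) * (g * b * g⁻¹) * g := by rw [hkr, hk']
      _ = g⁻¹ * rep ca * g * b := by group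
      _ = g⁻¹ * (g * a * g⁻¹) * g * b := by rw [hg]
      _ = a * b := by group
      _ = y := hab
  choose f hf using key
  have hinj : Function.Injective f := fun c d h => by
    apply Subtype.ext
    rw [← hf c, ← hf d, h]
  have hfin : ∀ c : PClass r G, Finite (PiClass (π.erase r) (Subgroup.centralizer ({rep c} : Set G))) := fun c => by
    have := finite_conjClasses (Subgroup.centralizer ({rep c} : Set G))
    infer_instance
  have := Nat.card_le_card_of_injective f hinj
  rwa [Nat.card_sigma] at this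

theorem card_pClass_le {G : Type*} [Group G] [Finite G] (r : ℕ) (hr : r.Prime) :
    Nat.card (PClass r G) ≤ r ^ (Nat.card G).factorization r := by
  have : Fact r.Prime := ⟨hr⟩
  let P : Sylow r G := default
  have h := Nat.card_le_card_of_surjective _ (toClass_surjective P)
  have h2 := P.card_eq_multiplicity
  rw [← h2]
  exact h

theorem piPart_mono {π : Finset ℕ} {m n : ℕ} (h : m ∣ n) (hn : n ≠ 0) (hπ : ∀ r ∈ π, r.Prime) :
    piPart π m ≤ piPart π n := by
  unfold piPart
  refine Finset.prod_le_prod' fun r hr => ?_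
  refine Nat.pow_le_pow_right (hπ r hr).pos ?_
  exact (Nat.factorization_le_iff_dvd (by rintro rfl; exact hn (zero_dvd_iff.1 h)) hn).2 h r

theorem card_piClass_le (π : Finset ℕ) : ∀ (G : Type*) [Group G] [Finite G], (∀ r ∈ π, r.Prime) →
    Nat.card (PiClass π G) ≤ piPart π (Nat.card G) := by
  classical
  induction π using Finset.induction_on with
  | empty =>
    intro G _ _ _
    have : Subsingleton (PiClass ∅ G) := by
      constructor
      rintro ⟨c, hc⟩ ⟨d, hd⟩
      obtain ⟨x, rfl⟩ := ConjClasses.exists_rep c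
      obtain ⟨y, rfl⟩ := ConjClasses.exists_rep d
      have h1 : ∀ z : G, (∀ r : ℕ, r.Prime → r ∣ orderOf z → r ∈ (∅ : Finset ℕ)) → z = 1 := by
        intro z hz
        rw [← orderOf_eq_one_iff]
        by_contra hne
        exact absurd (hz _ (Nat.minFac_prime hne) (Nat.minFac_dvd _)) (Finset.notMem_empty _)
      apply Subtype.ext
      change ConjClasses.mk x = ConjClasses.mk y
      rw [h1 x (hc x ConjClasses.mem_carrier_mk), h1 y (hd y ConjClasses.mem_carrier_mk)]
    unfold piPart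
    rw [Finset.prod_empty]
    have hfc := finite_conjClasses G
    have h : Nat.card (PiClass ∅ G) ≤ 1 ↔ Subsingleton (PiClass ∅ G) := Finite.card_le_one_iff_subsingleton
    exact h.2 this
  | insert r π hr ih =>
    intro G _ _ hπ
    have hrp := hπ r (Finset.mem_insert_self _ _)
    have hπ' : ∀ s ∈ π, s.Prime := fun s hs => hπ s (Finset.mem_insert_of_mem hs)
    have := finite_conjClasses G
    have : Fintype (PClass r G) := Fintype.ofFinite _
    refine (card_piClass_le_sum (insert r π) r hrp).trans ?_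
    rw [Finset.erase_insert hr]
    have h1 : ∀ c : PClass r G, Nat.card (PiClass π (Subgroup.centralizer ({rep c} : Set G))) ≤ piPart π (Nat.card G) :=
      fun c => (ih _ hπ').trans (piPart_mono (Subgroup.card_subgroup_dvd_card _) Nat.card_pos.ne' hπ')
    refine (Finset.sum_le_sum fun c _ => h1 c).trans ?_
    rw [Finset.sum_const, smul_eq_mul, Finset.card_univ, ← Nat.card_eq_fintype_card]
    have h2 : piPart (insert r π) (Nat.card G) = r ^ (Nat.card G).factorization r * piPart π (Nat.card G) := by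
      unfold piPart; rw [Finset.prod_insert hr]
    rw [h2]
    exact Nat.mul_le_mul_right _ (card_pClass_le r hrp)

/-- `k_π(G) ≤ k_r(G) |G|_{π \ r}` -/
theorem card_piClass_le_mul {G : Type*} [Group G] [Finite G] (π : Finset ℕ) (hπ : ∀ r ∈ π, r.Prime) (r : ℕ) (hr : r.Prime) :
    Nat.card (PiClass π G) ≤ Nat.card (PClass r G) * piPart (π.erase r) (Nat.card G) := by
  classical
  have := finite_conjClasses G
  have : Fintype (PClass r G) := Fintype.ofFinite _
  have hπ' : ∀ s ∈ π.erase r, s.Prime := fun s hs => hπ s (Finset.mem_of_mem_erase hs)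
  refine (card_piClass_le_sum π r hr).trans ?_
  have h1 : ∀ c : PClass r G, Nat.card (PiClass (π.erase r) (Subgroup.centralizer ({rep c} : Set G))) ≤ piPart (π.erase r) (Nat.card G) :=
    fun c => (card_piClass_le _ _ hπ').trans (piPart_mono (Subgroup.card_subgroup_dvd_card _) Nat.card_pos.ne' hπ')
  refine (Finset.sum_le_sum fun c _ => h1 c).trans ?_
  rw [Finset.sum_const, smul_eq_mul, Finset.card_univ, ← Nat.card_eq_fintype_card]

theorem piPart_pos (π : Finset ℕ) (hπ : ∀ r ∈ π, r.Prime) (n : ℕ) : 0 < piPart π n :=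
  Finset.prod_pos fun r hr => pow_pos (hπ r hr).pos _

theorem piPart_eq (π : Finset ℕ) (r : ℕ) (hr : r ∈ π) (n : ℕ) :
    piPart π n = r ^ n.factorization r * piPart (π.erase r) n := by
  unfold piPart
  rw [Finset.mul_prod_erase π (fun r => r ^ n.factorization r) hr]

end H68.PiClasses
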