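import Cfsg.Agent.Lib.H68.Split

/-! Kegel's theorem: a finite group with a splitting automorphism of prime order is nilpotent. -/

set_option autoImplicit false
open Subgroup Cfsg
open scoped Pointwise commutatorElement IsMulCommutative

namespace H68.Split

open H1.ThompsonFpf

universe u

theorem main_solvable (r : ℕ) (hr : r.Prime) (n : ℕ)
    (ih : ∀ m < n, ∀ (G : Type u) [Group G] [Finite G] (φ : MulAut G), Nat.card G = m → Spl r φ → Group.IsNilpotent G)
    (G : Type u) [Group G] [Finite G] (φ : MulAut G) (hn : Nat.card G = n) (hφ : Spl r φ)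
    (hsol : Group.IsSolvable G) : Group.IsNilpotent G := by
  by_contra hnil
  have hnt : Nontrivial G := by
    rw [← not_subsingleton_iff_nontrivial]
    intro h
    exact hnil inferInstance
  -- minimal invariant normal subgroup
  obtain ⟨V, ⟨hVn, hVb, hVφ⟩, hVmin⟩ : ∃ V : Subgroup G,
      (V.Normal ∧ V ≠ ⊥ ∧ V.map φ.toMonoidHom = V) ∧
      ∀ M : Subgroup G, M.Normal → M.map φ.toMonoidHom = M → M ≤ V → M = ⊥ ∨ M = V := by
    obtain ⟨V, hV⟩ := (Set.toFinite {V : Subgroup G | V.Normal ∧ V ≠ ⊥ ∧
      V.map φ.toMonoidHom = V}).exists_minimal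
      ⟨⊤, inferInstance, top_ne_bot, by
        rw [← MonoidHom.range_eq_map]; exact MonoidHom.range_eq_top.mpr φ.surjective⟩
    refine ⟨V, hV.prop, fun M hM hM' hMV => ?_⟩
    by_cases h : M = ⊥
    · exact Or.inl h
    · exact Or.inr (le_antisymm hMV (hV.le_of_le ⟨hM, h, hM'⟩ hMV))
  have hVlt : ⁅V, V⁆ < V := Group.IsSolvable.commutator_lt_of_ne_bot hVb
  have hVcomm : ⁅V, V⁆ = ⊥ := by
    rcases hVmin ⁅V, V⁆ inferInstance (by rw [map_commutator, hVφ]) hVlt.le with h | h
    · exact h
    · exact absurd h hVlt.ne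
  have hVc : IsMulCommutative V := by
    refine ⟨⟨fun a b => Subtype.ext ?_⟩⟩
    have h1 : ⁅(a : G), (b : G)⁆ ∈ ⁅V, V⁆ := commutator_mem_commutator a.2 b.2
    rw [hVcomm, mem_bot] at h1
    exact commutatorElement_eq_one_iff_mul_comm.mp h1
  -- prime
  obtain ⟨p, hp, hpV⟩ := Nat.exists_prime_and_dvd (n := Nat.card V) (by
    intro h; exact hVb (card_eq_one.mp h))
  have := Fact.mk hp
  have hVp : ∀ x ∈ V, x ^ p = 1 := by
    let W : Subgroup G :=
      { carrier := {x | x ∈ V ∧ x ^ p = 1}
        mul_mem' := by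
          rintro a b ⟨ha, ha'⟩ ⟨hb, hb'⟩
          refine ⟨V.mul_mem ha hb, ?_⟩
          have hab : Commute a b := congrArg Subtype.val (mul_comm' (⟨a, ha⟩ : V) ⟨b, hb⟩)
          rw [hab.mul_pow, ha', hb', mul_one]
        one_mem' := ⟨V.one_mem, one_pow p⟩
        inv_mem' := by
          rintro a ⟨ha, ha'⟩
          exact ⟨V.inv_mem ha, by rw [inv_pow, ha', inv_one]⟩ }
    have hWn : W.Normal := ⟨fun x hx g => ⟨hVn.conj_mem x hx.1 g, by
      rw [conj_pow, hx.2]; simp⟩⟩
    have hWφ : W.map φ.toMonoidHom = W := map_eq_iff.mpr fun x hx =>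
      ⟨map_eq_iff.mp hVφ x hx.1, by rw [← map_pow, hx.2, map_one]⟩
    rcases hVmin W hWn hWφ (fun x hx => hx.1) with h | h
    · exfalso
      obtain ⟨x, hx⟩ := exists_prime_orderOf_dvd_card' p hpV
      have h1 : (x : G) ∈ W := ⟨x.2, by
        rw [← hx, ← Subgroup.orderOf_coe]; exact pow_orderOf_eq_one _⟩
      rw [h, mem_bot] at h1
      rw [← Subgroup.orderOf_coe, h1, orderOf_one] at hx
      exact hp.one_lt.ne hx
    · intro x hx
      rw [← h] at hx
      exact hx.2
  have hVpg : IsPGroup p V := fun x => ⟨1, by rw [pow_one]; exact Subtype.ext (hVp x x.2)⟩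
  -- the quotient is nilpotent
  have hcardV : 1 < Nat.card V := (one_lt_card_iff_ne_bot V).mpr hVb
  have hlt : Nat.card (G ⧸ V) < n := by
    rw [← hn, card_eq_card_quotient_mul_card_subgroup V]
    have : 0 < Nat.card (G ⧸ V) := Nat.card_pos
    nlinarith
  obtain ⟨ψ, hψ⟩ := exists_quotient φ V hVφ
  have hQnil : Group.IsNilpotent (G ⧸ V) := ih _ hlt (G ⧸ V) ψ rfl (hφ.quotient hψ)
  -- a nonnormal Sylow subgroup
  obtain ⟨q, hq, P, hP⟩ : ∃ q : ℕ, ∃ _ : Fact q.Prime, ∃ Q : Sylow q G, ¬ (Q : Subgroup G).Normal := by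
    by_contra hcon
    push Not at hcon
    exact hnil (((Group.isNilpotent_of_finite_tfae (G := G)).out 0 3 rfl rfl).mpr hcon)
  have hPV : ((P : Subgroup G) ⊔ V).Normal := by
    have h1 : ((P : Subgroup G).map (QuotientGroup.mk' V)).Normal := by
      have h2 := ((Group.isNilpotent_of_finite_tfae (G := G ⧸ V)).out 0 3 rfl rfl).mp hQnil q hq
        (P.mapSurjective (QuotientGroup.mk'_surjective V))
      rwa [Sylow.coe_mapSurjective] at h2
    have h3 : (P : Subgroup G) ⊔ V = ((P : Subgroup G).map (QuotientGroup.mk' V)).comap (QuotientGroup.mk' V) := by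
      rw [comap_map_eq, QuotientGroup.ker_mk']
    rw [h3]
    infer_instance
  have hqp : q ≠ p := by
    rintro rfl
    have h1 : V ≤ (P : Subgroup G) := hVpg.le_sylow_of_normal P
    rw [sup_eq_left.mpr h1] at hPV
    exact hP hPV
  have hcop : (Nat.card (P : Subgroup G)).Coprime (Nat.card V) := by
    obtain ⟨a, ha⟩ := P.2.exists_card_eq
    obtain ⟨b, hb⟩ := IsPGroup.iff_card.mp hVpg
    have ha' : Nat.card (P : Subgroup G) = q ^ a := ha
    rw [ha', hb]
    exact Nat.Coprime.pow _ _ ((Nat.coprime_primes hq.out hp).mpr hqp)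
  obtain ⟨g, hg⟩ := hφ.exists_sylow P
  have hVg : ∀ v ∈ V, (MulAut.conj g * φ) v ∈ V := by
    intro v hv
    exact hVn.conj_mem _ (map_eq_iff.mp hVφ v hv) g
  have hPg : ∀ s ∈ (P : Subgroup G), (MulAut.conj g * φ) s ∈ (P : Subgroup G) := map_eq_iff.mp hg
  have hkey := key hr (hφ.conj g) V (P : Subgroup G) hVg hPg (fun s _ v hv => hVn.conj_mem v hv s) hcop
  apply hP
  apply normal_of_normal_subgroupOf P (L := (P : Subgroup G) ⊔ V) le_sup_left
  constructor
  intro x hx y
  rw [mem_subgroupOf] at hx ⊢
  have hy : (y : G) ∈ normalizer ((P : Subgroup G) : Set G) := by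
    have h1 : (P : Subgroup G) ⊔ V ≤ normalizer ((P : Subgroup G) : Set G) := by
      rw [sup_le_iff]
      refine ⟨le_normalizer, fun v hv => ?_⟩
      rw [Subgroup.mem_normalizer_iff]
      have h2 : ∀ s ∈ (P : Subgroup G), v * s * v⁻¹ = s := by
        intro s hs
        have h3 := hkey s hs v hv
        rw [mul_inv_eq_iff_eq_mul] at h3 ⊢
        exact h3.symm
      intro s
      constructor
      · intro hs
        rw [h2 s hs]; exact hs
      · intro hs
        have h3 := h2 _ hs
        have h4 : v * s * v⁻¹ = s := by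
          calc v * s * v⁻¹ = v⁻¹ * (v * (v * s * v⁻¹) * v⁻¹) * v := by group
            _ = v⁻¹ * (v * s * v⁻¹) * v := by rw [h3]
            _ = s := by group
        rwa [h4] at hs
    exact h1 y.2
  exact (Subgroup.mem_normalizer_iff.1 hy x).1 hx

theorem main (r : ℕ) (hr : r.Prime) (n : ℕ) :
    ∀ (G : Type u) [Group G] [Finite G] (φ : MulAut G), Nat.card G = n → Spl r φ → Group.IsNilpotent G := by
  induction n using Nat.strong_induction_on with
  | _ n ih =>
    intro G _ _ φ₀ hn hφ₀
    by_cases hsol : Group.IsSolvable G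
    · exact main_solvable r hr n (fun m hm G _ _ φ h1 h2 => ih m hm G φ h1 h2) G φ₀ hn hφ₀ hsol
    by_contra hnil
    have hnt : Nontrivial G := by
      rw [← not_subsingleton_iff_nontrivial]
      intro h
      exact hnil inferInstance
    -- an odd prime
    obtain ⟨p, hp, hpG, hp2⟩ : ∃ p : ℕ, p.Prime ∧ p ∣ Nat.card G ∧ p ≠ 2 := by
      by_contra hcon
      push Not at hcon
      have := Fact.mk Nat.prime_two
      exact hnil (H2.Nilp.isPGroup_of_primeFactors (p := 2) hcon).isNilpotent
    have := Fact.mk hp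
    obtain ⟨P⟩ : Nonempty (Sylow p G) := inferInstance
    obtain ⟨g, hPφ⟩ := hφ₀.exists_sylow P
    have hφ := hφ₀.conj g
    set φ := MulAut.conj g * φ₀ with hφd
    have hsub : ∀ H : Subgroup G, H.map φ.toMonoidHom = H → H ≠ ⊤ → Group.IsNilpotent H := by
      intro H hH hHt
      obtain ⟨χ, hχ⟩ := exists_restrict φ H hH
      apply ih (Nat.card H) _ H χ rfl (hφ.restrict hχ)
      rw [← hn]
      refine lt_of_le_of_ne (card_le_card_group H) ?_
      intro h
      exact hHt ((card_eq_iff_eq_top H).mp h)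
    have hmin : ∀ N : Subgroup G, N.Normal → N.map φ.toMonoidHom = N → N = ⊥ ∨ N = ⊤ := by
      intro N hNn hN
      by_contra hcon
      push Not at hcon
      obtain ⟨h1, h2⟩ := hcon
      apply hsol
      have hNnil := hsub N hN h2
      have hcardN : 1 < Nat.card N := (one_lt_card_iff_ne_bot N).mpr h1
      have hlt : Nat.card (G ⧸ N) < n := by
        rw [← hn, card_eq_card_quotient_mul_card_subgroup N]
        have : 0 < Nat.card (G ⧸ N) := Nat.card_pos
        nlinarith
      obtain ⟨ψ, hψ⟩ := exists_quotient φ N hN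
      have hQnil : Group.IsNilpotent (G ⧸ N) := ih _ hlt (G ⧸ N) ψ rfl (hφ.quotient hψ)
      have : Group.IsSolvable N := inferInstance
      have : Group.IsSolvable (G ⧸ N) := inferInstance
      exact Group.isSolvable_of_ker_le_range N.subtype (QuotientGroup.mk' N)
        (by rw [QuotientGroup.ker_mk', Subgroup.range_subtype])
    have hPtop : (P : Subgroup G) ≠ ⊤ := by
      intro h
      apply hnil
      have h1 : Group.IsNilpotent (P : Subgroup G) := (P.2 : IsPGroup p (P : Subgroup G)).isNilpotent
      rw [h] at h1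
      exact Group.nilpotent_of_mulEquiv Subgroup.topEquiv
    have hPbot : (P : Subgroup G) ≠ ⊥ := P.ne_bot_of_dvd_card hpG
    have hpP : p ∣ Nat.card (P : Subgroup G) := P.dvd_card_of_dvd_card hpG
    have hcomp := H1.ThompsonNPC.tpc hp2 P (by
      have hJφ : (thompsonSubgroupOf p (P : Subgroup G)).map φ.toMonoidHom =
          thompsonSubgroupOf p (P : Subgroup G) := by
        have hker : (P : Subgroup G) ⊓ φ.toMonoidHom.ker = ⊥ := by
          rw [(MonoidHom.ker_eq_bot_iff φ.toMonoidHom).mpr φ.injective, inf_bot_eq]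
        rw [H13.Transport.map_thompsonOf (P : Subgroup G) φ.toMonoidHom hker, hPφ]
      have hJb : thompsonSubgroupOf p (P : Subgroup G) ≠ ⊥ := by
        intro h
        have h2 := (map_eq_bot_iff_of_injective _ (P : Subgroup G).subtype_injective).mp h
        exact H13.Thompson.thompson_ne_bot hpP h2
      have h1 : normalizer ((thompsonSubgroupOf p (P : Subgroup G) : Subgroup G) : Set G) ≠ ⊤ := by
        intro h
        rcases hmin _ (normalizer_eq_top_iff.mp h) hJφ with h2 | h2
        · exact hJb h2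
        · apply hPtop
          rw [eq_top_iff, ← h2]
          exact map_subtype_le _
      exact H2.Nilp.hasNPC_of_nilpotent (hsub _ (map_normalizer_of hJφ) h1)) (by
      set Z := (P : Subgroup G) ⊓ centralizer ((P : Subgroup G) : Set G) with hZ
      have hZφ : Z.map φ.toMonoidHom = Z := map_inf_of hPφ (map_centralizer_of hPφ)
      have hZb : Z ≠ ⊥ := by
        have hPnt : Nontrivial (P : Subgroup G) := (nontrivial_iff_ne_bot _).mpr hPbot
        have hcnt : Nontrivial (center (P : Subgroup G)) :=
          (P.2 : IsPGroup p (P : Subgroup G)).center_nontrivial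
        obtain ⟨⟨c, hc⟩, hc1⟩ := exists_ne (1 : center (P : Subgroup G))
        intro h
        have hcV : (c : G) ∈ Z := mem_inf.mpr ⟨c.2, mem_centralizer_iff.mpr fun y hy => by
          have := mem_center_iff.mp hc ⟨y, hy⟩
          exact congrArg Subtype.val this⟩
        rw [h, mem_bot] at hcV
        exact hc1 (Subtype.ext (Subtype.ext hcV))
      have h1 : centralizer (Z : Set G) ≠ ⊤ := by
        intro h
        have hZn : Z.Normal := by
          refine ⟨fun z hz g => ?_⟩
          have h2 : g ∈ centralizer (Z : Set G) := by rw [h]; trivial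
          have h3 := mem_centralizer_iff.mp h2 z hz
          rw [← h3, mul_inv_cancel_right]
          exact hz
        rcases hmin _ hZn hZφ with h2 | h2
        · exact hZb h2
        · apply hPtop
          rw [eq_top_iff, ← h2]
          exact inf_le_left
      exact H2.Nilp.hasNPC_of_nilpotent (hsub _ (map_centralizer_of hZφ) h1))
    -- the normal complement
    obtain ⟨P', N, hNn, hNc⟩ := hcomp
    have hNcop : (Nat.card N).Coprime p := by
      have h1 : (P' : Subgroup G).index = Nat.card N := hNc.index_eq_card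
      rw [← h1]
      exact ((Nat.Prime.coprime_iff_not_dvd hp).mpr P'.not_dvd_index).symm
    have hcore : (pPrimeCore p G).map φ.toMonoidHom = pPrimeCore p G := by
      have : (pPrimeCore p G).Characteristic := inferInstance
      exact Subgroup.characteristic_iff_map_eq.mp this φ
    rcases hmin (pPrimeCore p G) inferInstance hcore with h | h
    · have h1 : N ≤ pPrimeCore p G := le_sSup ⟨hNn, hNcop⟩
      rw [h, le_bot_iff] at h1
      subst h1
      have h2 : (P' : Subgroup G) = ⊤ := isComplement'_bot_left.mp hNc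
      apply hnil
      have h1 : Group.IsNilpotent (P' : Subgroup G) := (P'.2 : IsPGroup p (P' : Subgroup G)).isNilpotent
      rw [h2] at h1
      exact Group.nilpotent_of_mulEquiv Subgroup.topEquiv
    · have h1 := H1.Cores.coprime_card_pPrimeCore (G := G) p
      rw [h, card_top] at h1
      exact (Nat.Prime.coprime_iff_not_dvd hp).mp h1.symm hpG

end H68.Split
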