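import Mathlib
import Cfsg.Agent.Lib.H28.RelHall

/-! Two elements of prime order `q`, one outside the cyclic group of the other. -/

namespace H68.TwoGen

variable {G : Type*} [Group G]

theorem not_isCyclic [Finite G] {q : ℕ} (hq : q.Prime) {x y : G} (hx : x ^ q = 1) (hy : y ^ q = 1)
    (hy1 : y ≠ 1) (hxy : x ∉ Subgroup.zpowers y) : ¬ IsCyclic G := by
  intro h
  classical
  have : Fintype G := Fintype.ofFinite G
  have h1 := IsCyclic.card_pow_eq_one_le (α := G) hq.pos
  have := Fact.mk hq
  have h2 : orderOf y = q := orderOf_eq_prime hy hy1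
  have h3 : (Finset.univ.filter (fun a : G => a ∈ Subgroup.zpowers y)) ⊂
      (Finset.univ.filter (fun a : G => a ^ q = 1)) := by
    rw [Finset.ssubset_iff_of_subset]
    · exact ⟨x, by simp [hx], by simp [hxy]⟩
    · intro a ha
      simp only [Finset.mem_filter, Finset.mem_univ, true_and] at ha ⊢
      obtain ⟨k, rfl⟩ := ha
      rw [← zpow_natCast, ← zpow_mul, mul_comm, zpow_mul, zpow_natCast, hy, one_zpow]
  have h4 := Finset.card_lt_card h3
  have h5 : (Finset.univ.filter (fun a : G => a ∈ Subgroup.zpowers y)).card = q := by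
    rw [← h2, ← Nat.card_zpowers, Nat.card_eq_fintype_card, Fintype.card_subtype]
  omega

theorem not_isCyclic_subgroup [Finite G] {q : ℕ} (hq : q.Prime) {H : Subgroup G} {x y : G}
    (hxH : x ∈ H) (hyH : y ∈ H) (hx : x ^ q = 1) (hy : y ^ q = 1)
    (hy1 : y ≠ 1) (hxy : x ∉ Subgroup.zpowers y) : ¬ IsCyclic H := by
  apply not_isCyclic hq (x := ⟨x, hxH⟩) (y := ⟨y, hyH⟩)
  · ext; simpa using hx
  · ext; simpa using hy
  · intro h; exact hy1 (congrArg Subtype.val h)
  · rintro ⟨k, hk⟩
    exact hxy ⟨k, by simpa using congrArg Subtype.val hk⟩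

theorem card_sup_zpowers [Finite G] {q : ℕ} (hq : q.Prime) {x y : G} (hx : x ^ q = 1) (hy : y ^ q = 1)
    (hy1 : y ≠ 1) (hxy : x ∉ Subgroup.zpowers y) (hc : Commute x y) :
    Nat.card (Subgroup.zpowers x ⊔ Subgroup.zpowers y : Subgroup G) = q ^ 2 := by
  have := Fact.mk hq
  have h2 : orderOf y = q := orderOf_eq_prime hy hy1
  have hx1 : x ≠ 1 := fun h => hxy (h ▸ one_mem _)
  have h3 : orderOf x = q := orderOf_eq_prime hx hx1
  have hle : Subgroup.zpowers x ≤ Subgroup.normalizer (Subgroup.zpowers y : Set G) := by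
    refine le_trans ?_ (Subgroup.centralizer_le_normalizer _)
    rw [Subgroup.zpowers_le, Subgroup.mem_centralizer_iff]
    rintro _ ⟨k, rfl⟩
    exact (hc.zpow_right k).symm.eq
  have h4 := H28.RelHall.card_sup_mul_card_inf hle
  have h5 : Subgroup.zpowers x ⊓ Subgroup.zpowers y = ⊥ := by
    rw [eq_bot_iff]
    intro z hz
    by_contra hz1
    have hz1' : z ≠ 1 := by simpa using hz1
    have h6 : Subgroup.zpowers z = Subgroup.zpowers x := by
      apply Subgroup.eq_of_le_of_card_ge
      · simpa using hz.1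
      · rw [Nat.card_zpowers, Nat.card_zpowers, h3]
        have h7 : orderOf z ∣ q := by
          rw [← h3]
          exact orderOf_dvd_of_mem_zpowers hz.1
        rcases (Nat.dvd_prime hq).1 h7 with h8 | h8
        · exact absurd (orderOf_eq_one_iff.1 h8) hz1'
        · exact h8.ge
    apply hxy
    have h8 : x ∈ Subgroup.zpowers z := h6 ▸ Subgroup.mem_zpowers x
    have h9 : Subgroup.zpowers z ≤ Subgroup.zpowers y := by simpa using hz.2
    exact h9 h8
  rw [h5] at h4
  simp only [Subgroup.card_bot, mul_one, Nat.card_zpowers, h2, h3] at h4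
  rw [sup_comm] at h4
  rw [sup_comm, h4, sq]

end H68.TwoGen
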