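import Mathlib
import Cfsg.Agent.S0111

/-! Sylow 2-subgroups of type `Z₂ × D₈`. -/

namespace H68.Z2D8

universe u

abbrev T := Multiplicative (ZMod 2) × DihedralGroup 4

def lamF (p q : ZMod 2) : T → ZMod 2
  | (i, .r k) => i.toAdd + p * (k.val : ZMod 2)
  | (i, .sr k) => i.toAdd + p * (k.val : ZMod 2) + q

def lamG : T → ZMod 2
  | (_, .r _) => 0
  | (_, .sr _) => 1

theorem lamF_mul : ∀ (p q : ZMod 2) (x y : T), lamF p q (x * y) = lamF p q x + lamF p q y := by
  decide +kernel

theorem lamG_mul : ∀ (x y : T), lamG (x * y) = lamG x + lamG y := by decide +kernel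

theorem sq_cases : ∀ x : T, x * x = 1 ∨ x * x = (1, .r 2) := by decide +kernel

theorem inv_cases : ∀ x : T, x * x = 1 → x = 1 ∨ x = (1, .r 2) ∨ x = (.ofAdd 1, 1) ∨
    x = (.ofAdd 1, .r 2) ∨ ∃ i k, x = (i, .sr k) := by decide +kernel

theorem conj_sr : ∀ (i : Multiplicative (ZMod 2)) (k : ZMod 4), ∃ x : T, x * (i, .sr k) * x⁻¹ = (i, .sr (k + 2)) := by
  decide +kernel

theorem central : ∀ (i : Multiplicative (ZMod 2)) (x : T), x * (i, .r 2) = (i, .r 2) * x ∧
    x * (i, 1) = (i, 1) * x := by decide +kernel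

theorem k_cases : ∀ k : ZMod 4, k = 0 ∨ k = 1 ∨ k = 2 ∨ k = 3 := by decide

variable {G : Type u} [Group G] [Finite G]

/-- conjugacy in `G` of elements of `T` -/
def Cj (f : T →* G) (s t : T) : Prop := ∃ g : G, g * f s * g⁻¹ = f t

omit [Finite G] in
theorem Cj.symm {f : T →* G} {s t : T} (h : Cj f s t) : Cj f t s := by
  obtain ⟨g, hg⟩ := h
  exact ⟨g⁻¹, by rw [← hg]; group⟩

omit [Finite G] in
theorem Cj.trans {f : T →* G} {s t v : T} (h : Cj f s t) (h' : Cj f t v) : Cj f s v := by
  obtain ⟨g, hg⟩ := h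
  obtain ⟨g', hg'⟩ := h'
  exact ⟨g' * g, by rw [← hg', ← hg]; group⟩

omit [Finite G] in
theorem Cj.of_T {f : T →* G} {s t x : T} (h : x * s * x⁻¹ = t) : Cj f s t :=
  ⟨f x, by rw [← map_inv, ← map_mul, ← map_mul, h]⟩

/-- Thompson transfer -/
theorem thompson (S : Sylow 2 G) (f : T →* G) (hf : Function.Injective f) (hS : f.range = (S : Subgroup G))
    (hno : ¬ ∃ H : Subgroup G, H.index = 2) (lam : T → ZMod 2) (hlam : ∀ x y, lam (x * y) = lam x + lam y)
    (s : T) (hs : s * s = 1) (hs1 : lam s ≠ 0) : ∃ t : T, lam t = 0 ∧ t * t = 1 ∧ Cj f s t := by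
  let l : T →* Multiplicative (ZMod 2) :=
    { toFun := fun x => Multiplicative.ofAdd (lam x)
      map_one' := by
        have := hlam 1 1
        rw [mul_one] at this
        have h1 : lam 1 = 0 := by
          have h2 : lam 1 + 0 = lam 1 + lam 1 := by rw [add_zero]; exact this
          exact (add_left_cancel h2).symm
        rw [h1]; rfl
      map_mul' := fun x y => by rw [hlam]; rfl }
  have hl : ∀ x, l x = 1 ↔ lam x = 0 := fun x => Iff.rfl
  let Q : Subgroup G := l.ker.map f
  have hQS : Q ≤ (S : Subgroup G) := by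
    rw [← hS]
    rintro _ ⟨x, _, rfl⟩
    exact ⟨x, rfl⟩
  have hsn : s ≠ 1 := by
    rintro rfl
    apply hs1
    rw [← hl]; exact map_one l
  have hlsurj : Function.Surjective l := by
    intro y
    have h1 : ∀ y : Multiplicative (ZMod 2), y = 1 ∨ y = Multiplicative.ofAdd 1 := by decide
    rcases h1 y with h | h
    · exact ⟨1, by rw [map_one, h]⟩
    · refine ⟨s, ?_⟩
      rw [h]
      rcases h1 (l s) with h2 | h2
      · exact absurd ((hl s).1 h2) hs1
      · exact h2
  have hQi : Q.relIndex (S : Subgroup G) = 2 := by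
    rw [← hS]
    have h1 : f.range = (⊤ : Subgroup T).map f := MonoidHom.range_eq_map f
    rw [h1, Subgroup.relIndex_map_map_of_injective _ _ hf, Subgroup.relIndex_top_right]
    rw [Subgroup.index_ker, MonoidHom.range_eq_top.2 hlsurj]
    simp
  have hord : orderOf (f s) = 2 := by
    rw [orderOf_injective f hf]
    apply orderOf_eq_prime
    · rw [pow_two]; exact hs
    · exact hsn
  have hfQ : f s ∉ Q := by
    rintro ⟨x, hx, hxs⟩
    have := hf hxs
    subst this
    exact hs1 ((hl x).1 hx)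
  rcases Cfsg.Agent.S0111.result S Q hQS hQi (f s) hord (by
      have : f s ∈ f.range := ⟨s, rfl⟩
      rw [hS] at this
      exact this) hfQ with ⟨M, -, hM, -⟩ | ⟨g, t, ht, htg⟩
  · exact absurd ⟨M, hM⟩ hno
  · refine ⟨t, (hl t).1 ht, ?_, g, htg.symm⟩
    apply hf
    rw [map_mul, htg, map_one]
    have : g * f s * g⁻¹ * (g * f s * g⁻¹) = g * (f (s * s)) * g⁻¹ := by rw [map_mul]; group
    rw [this, hs, map_one]
    group

/-- the elements of `Z(S)` are not fused -/
theorem burnside (S : Sylow 2 G) (f : T →* G) (hf : Function.Injective f) (hS : f.range = (S : Subgroup G))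
    (s t : T) (hs : ∀ x, x * s = s * x) (ht : ∀ x, x * t = t * x)
    (hs2 : s * s = 1) (ht2 : t * t = 1) (hst : Cj f s t) : s = t := by
  have hcent : ∀ v : T, (∀ x, x * v = v * x) → f v ∈ Subgroup.centralizer ((S : Subgroup G) : Set G) := by
    intro v hv
    rw [Subgroup.mem_centralizer_iff]
    intro y hy
    rw [← hS] at hy
    obtain ⟨x, rfl⟩ := hy
    rw [← map_mul, hv, map_mul]
  obtain ⟨g, hg⟩ := hst
  obtain ⟨n, hn, hn'⟩ := Sylow.conj_eq_normalizer_conj_of_mem_centralizer S (f s) g⁻¹ (hcent s hs)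
    (by rw [inv_inv, hg]; exact hcent t ht)
  rw [inv_inv, hg] at hn'
  -- `n` fixes `w`
  have hnS : ∀ x : T, ∃ y : T, n⁻¹ * f x * n = f y := by
    intro x
    have h1 : f x ∈ (S : Subgroup G) := by rw [← hS]; exact ⟨x, rfl⟩
    have h2 := (Subgroup.mem_normalizer_iff.1 ((Subgroup.normalizer ((S : Subgroup G) : Set G)).inv_mem hn) (f x)).1 h1
    rw [inv_inv] at h2
    have h3 : n⁻¹ * f x * n ∈ f.range := by rw [hS]; exact h2
    obtain ⟨y, hy⟩ := h3
    exact ⟨y, hy.symm⟩
  have hw : n⁻¹ * f (1, .r 2) * n = f (1, .r 2) := by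
    obtain ⟨y, hy⟩ := hnS (1, .r 1)
    have h1 : ((1, .r 2) : T) = (1, .r 1) * (1, .r 1) := by decide
    have h2 : n⁻¹ * f (1, .r 2) * n = f (y * y) := by
      rw [h1, map_mul, map_mul, ← hy]; group
    rw [h2]
    rcases sq_cases y with h3 | h3
    · exfalso
      rw [h3, map_one] at h2
      have h4 : f (1, .r 2) = 1 := by
        have : f (1, .r 2) = n * (n⁻¹ * f (1, .r 2) * n) * n⁻¹ := by group
        rw [this, h2]; group
      have h5 : ((1, .r 2) : T) = 1 := hf (h4.trans (map_one f).symm)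
      exact absurd h5 (by decide)
    · rw [h3]
  -- odd power in `S`
  have hodd : ∃ m : ℕ, Odd m ∧ n ^ m ∈ (S : Subgroup G) := by
    let N := Subgroup.normalizer ((S : Subgroup G) : Set G)
    have hSN : (S : Subgroup G) ≤ N := Subgroup.le_normalizer
    have hnor : ((S : Subgroup G).subgroupOf N).Normal := Subgroup.normal_in_normalizer
    refine ⟨((S : Subgroup G).subgroupOf N).index, ?_, ?_⟩
    · rw [← Nat.not_even_iff_odd, even_iff_two_dvd]
      intro h
      have h1 := (S.subtype hSN).not_dvd_index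
      exact h1 h
    · have h1 := Subgroup.pow_index_mem ((S : Subgroup G).subgroupOf N) (⟨n, hn⟩ : N)
      exact h1
  obtain ⟨m, hm, hnm⟩ := hodd
  have hscomm : n ^ m * f s = f s * n ^ m := by
    have h1 := hcent s hs
    rw [Subgroup.mem_centralizer_iff] at h1
    exact h1 _ hnm
  -- swapping
  by_contra hne
  have hswap : n⁻¹ * f t * n = f s := by
    -- s, t ∈ {w, z, zw} and `n` fixes `w`
    have hcase : ∀ v : T, (∀ x, x * v = v * x) → v = 1 ∨ v = (1, .r 2) ∨ v = (.ofAdd 1, 1) ∨
      v = (.ofAdd 1, .r 2) := by decide +kernel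
    have h1' : f s = 1 ↔ s = 1 := ⟨fun h => hf (h.trans (map_one f).symm), fun h => by rw [h, map_one]⟩
    have h1 : s ≠ 1 := by
      rintro rfl
      rw [map_one, mul_one, inv_mul_cancel] at hn'
      exact hne (hf (hn'.trans (map_one f).symm).symm |>.symm ▸ rfl)
    have h2 : t ≠ 1 := by
      rintro rfl
      rw [map_one] at hn'
      apply h1
      rw [← h1']
      have : f s = n * (n⁻¹ * f s * n) * n⁻¹ := by group
      rw [this, ← hn']; group
    have h3 : s ≠ (1, .r 2) := by
      intro h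
      rw [h, hw] at hn'
      exact hne (h.trans (hf hn').symm)
    have h4 : t ≠ (1, .r 2) := by
      intro h
      rw [h] at hn'
      have h5 : n⁻¹ * f s * n = n⁻¹ * f (1, .r 2) * n := by rw [← hn', hw]
      have h6 : f s = f (1, .r 2) := by
        have h7 := mul_right_cancel h5
        exact mul_left_cancel h7
      exact h3 (hf h6)
    have h5 : s * (1, .r 2) = t := by
      rcases hcase s hs with h | h | h | h
      · exact absurd h h1
      · exact absurd h h3
      · rcases hcase t ht with h' | h' | h' | h'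
        · exact absurd h' h2
        · exact absurd h' h4
        · exact absurd (h.trans h'.symm) hne
        · rw [h, h']; decide
      · rcases hcase t ht with h' | h' | h' | h'
        · exact absurd h' h2
        · exact absurd h' h4
        · rw [h, h']; decide
        · exact absurd (h.trans h'.symm) hne
    have h6 : n⁻¹ * f t * n = f t * f (1, .r 2) := by
      rw [← h5, map_mul]
      calc n⁻¹ * (f s * f (1, .r 2)) * n = (n⁻¹ * f s * n) * (n⁻¹ * f (1, .r 2) * n) := by group
        _ = f t * f (1, .r 2) := by rw [← hn', hw]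
        _ = f s * f (1, .r 2) * f (1, .r 2) := by rw [← h5, map_mul]
    rw [h6, ← map_mul, ← h5, mul_assoc]
    congr 1
    have : ((1, .r 2) : T) * (1, .r 2) = 1 := by decide
    rw [this, mul_one]
  have hpow : ∀ k : ℕ, n⁻¹ ^ (2 * k) * f s * n ^ (2 * k) = f s := by
    intro k
    induction k with
    | zero => simp
    | succ k ih =>
      have h1 : n⁻¹ ^ (2 * (k + 1)) * f s * n ^ (2 * (k + 1)) =
          n⁻¹ ^ (2 * k) * (n⁻¹ * (n⁻¹ * f s * n) * n) * n ^ (2 * k) := by
        have e1 : n⁻¹ ^ (2 * (k + 1)) = n⁻¹ ^ (2 * k) * n⁻¹ * n⁻¹ := by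
          rw [show 2 * (k + 1) = 2 * k + 1 + 1 by ring, pow_succ, pow_succ]
        have e2 : n ^ (2 * (k + 1)) = n * n * n ^ (2 * k) := by
          rw [show 2 * (k + 1) = 2 * k + 1 + 1 by ring, pow_succ', pow_succ', mul_assoc]
        rw [e1, e2]; group
      rw [h1, ← hn', hswap, ih]
  obtain ⟨k, hk⟩ := hm
  have h7 : n⁻¹ ^ m * f s * n ^ m = f t := by
    rw [hk]
    have e1 : n⁻¹ ^ (2 * k + 1) = n⁻¹ * n⁻¹ ^ (2 * k) := pow_succ' _ _
    have e2 : n ^ (2 * k + 1) = n ^ (2 * k) * n := pow_succ _ _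
    rw [e1, e2]
    calc n⁻¹ * n⁻¹ ^ (2 * k) * f s * (n ^ (2 * k) * n) = n⁻¹ * (n⁻¹ ^ (2 * k) * f s * n ^ (2 * k)) * n := by group
      _ = f t := by rw [hpow, ← hn']
  have h8 : n⁻¹ ^ m * f s * n ^ m = f s := by
    rw [mul_assoc, ← hscomm, ← mul_assoc, inv_pow, inv_mul_cancel, one_mul]
  exact hne (hf (h8.symm.trans h7))

/-- adjusting a conjugation -/
theorem adjust (S : Sylow 2 G) (f : T →* G) (hS : f.range = (S : Subgroup G))
    (a u v : T) (hu : ∀ x, x * u = u * x) (hv2 : v * v = 1) (hav : a * v = v * a) (h : Cj f a u) :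
    ∃ (g : G) (y : T), g * f a * g⁻¹ = f u ∧ g * f v * g⁻¹ = f y := by
  obtain ⟨g, hg⟩ := h
  set C := Subgroup.centralizer ({f u} : Set G) with hC
  have hSC : (S : Subgroup G) ≤ C := by
    rw [← hS]
    rintro _ ⟨x, rfl⟩
    rw [hC, Subgroup.mem_centralizer_singleton_iff, ← map_mul, ← map_mul, hu]
  have hy : g * f v * g⁻¹ ∈ C := by
    rw [hC, Subgroup.mem_centralizer_singleton_iff, ← hg]
    have h1 : g * f v * g⁻¹ * (g * f a * g⁻¹) = g * (f (v * a)) * g⁻¹ := by rw [map_mul]; group
    have h2 : g * f a * g⁻¹ * (g * f v * g⁻¹) = g * (f (a * v)) * g⁻¹ := by rw [map_mul]; group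
    rw [h1, h2, hav]
  let y0 : C := ⟨g * f v * g⁻¹, hy⟩
  have hy2 : y0 ^ 2 = 1 := by
    apply Subtype.ext
    show (g * f v * g⁻¹) ^ 2 = 1
    have : (g * f v * g⁻¹) ^ 2 = g * (f (v * v)) * g⁻¹ := by rw [map_mul, pow_two]; group
    rw [this, hv2, map_one]; group
  have hp : IsPGroup 2 (Subgroup.zpowers y0) := by
    rw [IsPGroup.iff_orderOf]
    intro x
    obtain ⟨k, hk⟩ := Subgroup.mem_zpowers_iff.1 x.2
    have h1 : x ^ 2 = 1 := by
      apply Subtype.ext
      show (x : C) ^ 2 = 1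
      rw [← hk, ← zpow_natCast, ← zpow_mul, mul_comm, zpow_mul, zpow_natCast, hy2, one_zpow]
    have h2 := orderOf_dvd_of_pow_eq_one h1
    rcases (Nat.dvd_prime Nat.prime_two).1 h2 with h | h
    · exact ⟨0, by rw [h]; rfl⟩
    · exact ⟨1, by rw [h]; rfl⟩
  obtain ⟨Q, hQ⟩ := hp.exists_le_sylow
  obtain ⟨c, hc⟩ := MulAction.exists_smul_eq C Q (S.subtype hSC)
  have h1 : c * y0 * c⁻¹ ∈ (S.subtype hSC : Subgroup C) := by
    rw [← hc, Sylow.coe_subgroup_smul, Subgroup.mem_pointwise_smul_iff_inv_smul_mem, ← map_inv,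
      MulAut.smul_def, MulAut.conj_apply, inv_inv]
    have : c⁻¹ * (c * y0 * c⁻¹) * c = y0 := by group
    rw [this]
    exact hQ (Subgroup.mem_zpowers y0)
  have h2 : (c : G) * (g * f v * g⁻¹) * (c : G)⁻¹ ∈ f.range := by
    rw [hS]; exact h1
  obtain ⟨y, hy'⟩ := h2
  refine ⟨c * g, y, ?_, ?_⟩
  · have h3 : (c : G) * f u = f u * c := Subgroup.mem_centralizer_singleton_iff.1 c.2
    calc (c : G) * g * f a * (c * g)⁻¹ = c * (g * f a * g⁻¹) * (c : G)⁻¹ := by group
      _ = f u := by rw [hg, h3]; group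
  · rw [hy']; group

theorem main (S : Sylow 2 G) (hS : Nonempty (↥(S : Subgroup G) ≃* Multiplicative (ZMod 2) × DihedralGroup 4)) :
    ∃ H : Subgroup G, H.index = 2 := by
  by_contra hno
  obtain ⟨e⟩ := hS
  let f : T →* G := (S : Subgroup G).subtype.comp (e.symm : T →* (S : Subgroup G))
  have hf : Function.Injective f := Subtype.val_injective.comp e.symm.injective
  have hfS : f.range = (S : Subgroup G) := by
    rw [MonoidHom.range_comp, MonoidHom.range_eq_top.2 e.symm.surjective, ← MonoidHom.range_eq_map,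
      Subgroup.range_subtype]
  set z : T := (.ofAdd 1, 1) with hz
  set w : T := (1, .r 2) with hw
  set zw : T := (.ofAdd 1, .r 2) with hzw
  have czz : ∀ x : T, x * z = z * x := fun x => (central _ x).2
  have cw : ∀ x : T, x * w = w * x := fun x => (central _ x).1
  have czw : ∀ x : T, x * zw = zw * x := fun x => (central _ x).1
  have hzz : z * z = 1 := by decide
  have hww : w * w = 1 := by decide
  have hzwzw : zw * zw = 1 := by decide
  have n1 : ¬ Cj f z w := fun h => absurd (burnside S f hf hfS z w czz cw hzz hww h) (by decide)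
  have n2 : ¬ Cj f z zw := fun h => absurd (burnside S f hf hfS z zw czz czw hzz hzwzw h) (by decide)
  have n3 : ¬ Cj f w zw := fun h => absurd (burnside S f hf hfS w zw cw czw hww hzwzw h) (by decide)
  have hone : ∀ s : T, Cj f s 1 → s = 1 := by
    rintro s ⟨g, hg⟩
    rw [map_one] at hg
    apply hf
    rw [map_one]
    have : f s = g⁻¹ * (g * f s * g⁻¹) * g := by group
    rw [this, hg]; group
  have hs2 : ∀ (i : Multiplicative (ZMod 2)) (k : ZMod 4), Cj f (i, .sr k) (i, .sr (k + 2)) := by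
    intro i k
    obtain ⟨x, hx⟩ := conj_sr i k
    exact Cj.of_T hx
  have hsq : ∀ (i : Multiplicative (ZMod 2)) (k : ZMod 4), ((i, .sr k) : T) * (i, .sr k) = 1 := by decide
  -- for both `u = z` and `u = zw`
  have hu : ∀ u : T, (u = z ∨ u = zw) → ∀ q q' : ZMod 2,
      Cj f u (.ofAdd q, .sr 0) ∨ Cj f u (.ofAdd q', .sr 1) := by
    intro u hu q q'
    have hlamu : lamF (q + q') q u ≠ 0 := by
      have : ∀ q q' : ZMod 2, lamF (q + q') q z ≠ 0 ∧ lamF (q + q') q zw ≠ 0 := by decide +kernel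
      rcases hu with rfl | rfl
      · exact (this q q').1
      · exact (this q q').2
    have huu : u * u = 1 := by rcases hu with rfl | rfl <;> assumption
    obtain ⟨t, ht0, htt, hc⟩ := thompson S f hf hfS hno (lamF (q + q') q) (lamF_mul _ _) u huu hlamu
    rcases inv_cases t htt with rfl | rfl | rfl | rfl | ⟨i, k, rfl⟩
    · have := hone u hc
      rcases hu with rfl | rfl
      · exact absurd this (by decide)
      · exact absurd this (by decide)
    · rcases hu with rfl | rfl
      · exact absurd hc n1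
      · exact absurd hc.symm n3
    · have : ∀ q q' : ZMod 2, lamF (q + q') q z ≠ 0 := by decide +kernel
      exact absurd ht0 (this q q')
    · have : ∀ q q' : ZMod 2, lamF (q + q') q zw ≠ 0 := by decide +kernel
      exact absurd ht0 (this q q')
    · -- a noncentral involution
      have key : ∀ (q q' : ZMod 2) (i : Multiplicative (ZMod 2)) (k : ZMod 4), lamF (q + q') q (i, .sr k) = 0 →
          (i = .ofAdd q ∧ (k = 0 ∨ k = 2)) ∨ (i = .ofAdd q' ∧ (k = 1 ∨ k = 3)) := by decide +kernel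
      rcases key q q' i k ht0 with ⟨rfl, rfl | rfl⟩ | ⟨rfl, rfl | rfl⟩
      · exact Or.inl hc
      · exact Or.inl (hc.trans (hs2 _ 2))
      · exact Or.inr hc
      · exact Or.inr (hc.trans (hs2 _ 3))
  -- dichotomy
  have hdic : ∀ u : T, (u = z ∨ u = zw) → (∀ q : ZMod 2, Cj f u (.ofAdd q, .sr 0)) ∨
      (∀ q : ZMod 2, Cj f u (.ofAdd q, .sr 1)) := by
    intro u hu'
    by_cases h : ∀ q : ZMod 2, Cj f u (.ofAdd q, .sr 0)
    · exact Or.inl h
    · right
      push Not at h
      obtain ⟨q, hq⟩ := h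
      intro q'
      exact (hu u hu' q q').resolve_left hq
  -- the classes of the noncentral involutions
  have hall : ∀ (i : Multiplicative (ZMod 2)) (k : ZMod 4), Cj f (i, .sr k) z ∨ Cj f (i, .sr k) zw := by
    have h01 : ∀ i : Multiplicative (ZMod 2), (Cj f (i, .sr 0) z ∨ Cj f (i, .sr 0) zw) ∧
        (Cj f (i, .sr 1) z ∨ Cj f (i, .sr 1) zw) := by
      intro i
      rcases hdic z (Or.inl rfl) with h | h
      · rcases hdic zw (Or.inr rfl) with h' | h'
        · exact absurd ((h 0).trans (h' 0).symm) n2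
        · exact ⟨Or.inl (h i.toAdd).symm, Or.inr (h' i.toAdd).symm⟩
      · rcases hdic zw (Or.inr rfl) with h' | h'
        · exact ⟨Or.inr (h' i.toAdd).symm, Or.inl (h i.toAdd).symm⟩
        · exact absurd ((h 0).trans (h' 0).symm) n2
    intro i k
    rcases k_cases k with rfl | rfl | rfl | rfl
    · exact (h01 i).1
    · exact (h01 i).2
    · have h1 : Cj f (i, .sr 2) (i, .sr 0) := hs2 i 2
      rcases (h01 i).1 with h | h
      · exact Or.inl (h1.trans h)
      · exact Or.inr (h1.trans h)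
    · have h1 : Cj f (i, .sr 3) (i, .sr 1) := hs2 i 3
      rcases (h01 i).2 with h | h
      · exact Or.inl (h1.trans h)
      · exact Or.inr (h1.trans h)
  -- `w` is isolated
  have hwiso : ∀ y : T, Cj f w y → y = w := by
    intro y hy
    have hyy : y * y = 1 := by
      obtain ⟨g, hg⟩ := hy
      apply hf
      rw [map_mul, ← hg, map_one]
      have : g * f w * g⁻¹ * (g * f w * g⁻¹) = g * f (w * w) * g⁻¹ := by rw [map_mul]; group
      rw [this, hww, map_one]; group
    rcases inv_cases y hyy with rfl | rfl | rfl | rfl | ⟨i, k, rfl⟩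
    · exact absurd (hone w hy) (by decide)
    · rfl
    · exact absurd hy.symm n1
    · exact absurd hy n3
    · rcases hall i k with h | h
      · exact absurd (hy.trans h).symm n1
      · exact absurd (hy.trans h) n3
  -- contradiction
  set a : T := (1, .sr 0) with ha
  have haw : a * w = w * a := (central _ a).1
  obtain ⟨u, u', hu2, hau, huw, hne⟩ : ∃ u u' : T, (∀ x, x * u = u * x) ∧ Cj f a u ∧ u * w = u' ∧ ¬ Cj f u u' := by
    rcases hall 1 0 with h | h
    · exact ⟨z, zw, czz, h, by decide, n2⟩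
    · exact ⟨zw, z, czw, h, by decide, fun h => n2 h.symm⟩
  obtain ⟨g, y, hg1, hg2⟩ := adjust S f hfS a u w hu2 hww haw hau
  have hyw : y = w := hwiso y ⟨g, hg2⟩
  subst hyw
  apply hne
  -- u ~ a ~ a w ~ u w = u'
  have h1 : Cj f a (a * w) := by
    have h2 : a * w = (1, .sr 2) := by decide
    rw [h2]
    exact hs2 1 0
  have h3 : Cj f (a * w) u' := by
    refine ⟨g, ?_⟩
    rw [← huw, map_mul, map_mul]
    calc g * (f a * f w) * g⁻¹ = (g * f a * g⁻¹) * (g * f w * g⁻¹) := by group
      _ = f u * f w := by rw [hg1, hg2]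
  exact (hau.symm.trans h1).trans h3

end H68.Z2D8
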